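import Mathlib
import Cfsg.Agent.H80.Fpf.Reduce
import Cfsg.Agent.H80.Fpf.Mult
import Cfsg.Agent.H98.SzPartition
import Cfsg.Agent.H147.SzReal
import Cfsg.Agent.S2337
import Cfsg.Agent.S2111
import Cfsg.Agent.S0325

/-!
# S4228: the row of the Suzuki groups
-/

set_option autoImplicit false

namespace Cfsg.Agent.H344.FpfSz

open Cfsg.Agent.H80.Fpf Cfsg.Agent.H98 Cfsg.Agent.LieExceptional

universe v w

theorem MinDeg.of_equiv {S : Type v} [Group S] {T : Type w} [Group T] (e : S ≃* T) {B : ℕ} (h : MinDeg S B) :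
    MinDeg T B :=
  fun G _ _ π hπ d ρ => h G (e.symm.toMonoidHom.comp π) (hπ.equiv_comp e.symm) d ρ

/-- conjugate subgroups have normalisers of the same order -/
theorem card_normalizer_conj {G : Type*} [Group G] (y : G) (C : Subgroup G) :
    Nat.card (Subgroup.normalizer ((C.map (MulAut.conj y).toMonoidHom : Subgroup G) : Set G)) =
      Nat.card (Subgroup.normalizer (C : Set G)) := by
  have h := Subgroup.map_equiv_normalizer_eq C (MulAut.conj y)
  rw [← h]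
  exact (Nat.card_congr (Subgroup.equivMapOfInjective _ _ (MulAut.conj y).injective).toEquiv).symm

/-- the normaliser of `⟨x⟩` normalises the centraliser of `x` -/
theorem normalizer_le {G : Type*} [Group G] (x : G) :
    Subgroup.normalizer (Subgroup.zpowers x : Set G) ≤
      Subgroup.normalizer ((Subgroup.centralizer ({x} : Set G) : Subgroup G) : Set G) := by
  have key : ∀ g ∈ Subgroup.normalizer (Subgroup.zpowers x : Set G), ∀ c ∈ Subgroup.centralizer ({x} : Set G),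
      g * c * g⁻¹ ∈ Subgroup.centralizer ({x} : Set G) := by
    intro g hg c hc
    rw [Subgroup.mem_centralizer_singleton_iff] at hc ⊢
    have h1 : g⁻¹ * x * g ∈ Subgroup.zpowers x := by
      have := (Subgroup.mem_normalizer_iff.1 (inv_mem hg) x).1 (Subgroup.mem_zpowers x)
      rwa [inv_inv] at this
    obtain ⟨j, hj⟩ := Subgroup.mem_zpowers_iff.1 h1
    have h2 : Commute c (g⁻¹ * x * g) := by
      rw [← hj]
      exact Commute.zpow_right hc j
    have h3 : x = g * (g⁻¹ * x * g) * g⁻¹ := by group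
    calc g * c * g⁻¹ * x = g * (c * (g⁻¹ * x * g)) * g⁻¹ := by group
      _ = g * ((g⁻¹ * x * g) * c) * g⁻¹ := by rw [h2.eq]
      _ = x * (g * c * g⁻¹) := by group
  intro g hg
  rw [Subgroup.mem_normalizer_iff]
  intro c
  refine ⟨key g hg c, fun h => ?_⟩
  have := key g⁻¹ (inv_mem hg) _ h
  have h2 : g⁻¹ * (g * c * g⁻¹) * g⁻¹⁻¹ = c := by group
  rwa [h2] at this

/-- primes of the form `2 ^ j + 1` do not divide `2 ^ (2 m + 1) - 1` -/
theorem not_fermat {r m : ℕ} (hr : r.Prime) (hr2 : r ≠ 2) (h : r ∣ 2 ^ (2 * m + 1) - 1) (j : ℕ) : r ≠ 2 ^ j + 1 := by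
  intro hj
  have := Fact.mk hr
  have h1 : (2 : ZMod r) ^ (2 * m + 1) = 1 := by
    have h2 := (ZMod.natCast_eq_zero_iff _ _).2 h
    rw [Nat.cast_sub Nat.one_le_two_pow] at h2
    push_cast at h2
    exact sub_eq_zero.1 h2
  have h3 : (2 : ZMod r) ^ j = -1 := by
    have h4 : ((2 ^ j + 1 : ℕ) : ZMod r) = 0 := by rw [← hj]; exact ZMod.natCast_self r
    push_cast at h4
    exact eq_neg_of_add_eq_zero_left h4
  have h5 : (1 : ZMod r) = -1 := by
    calc (1 : ZMod r) = ((2 : ZMod r) ^ (2 * m + 1)) ^ j := by rw [h1, one_pow]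
      _ = ((2 : ZMod r) ^ j) ^ (2 * m + 1) := by rw [← pow_mul, ← pow_mul, mul_comm]
      _ = -1 := by rw [h3]; exact Odd.neg_one_pow ⟨m, rfl⟩
  have h6 : Fact (2 < r) := ⟨by have := hr.two_le; omega⟩
  exact ZMod.neg_one_ne_one h5.symm

theorem num {m k r B : ℕ} (hm : 2 ≤ m) (hk : k ∈ ({2 ^ (2 * m + 1) + 2 ^ (m + 1) + 1,
    2 ^ (2 * m + 1) - 2 ^ (m + 1) + 1} : Set ℕ)) (hrk : r ≤ k) (hB : B = 2 ^ m * (2 ^ (2 * m + 1) - 1)) :
    (r - 1) * (4 * k) ≤ B ^ 2 := by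
  have hb : 4 ≤ 2 ^ m := by
    calc 4 = 2 ^ 2 := rfl
      _ ≤ 2 ^ m := Nat.pow_le_pow_right (by norm_num) hm
  have h1 : 2 ^ (2 * m + 1) = 2 * 2 ^ m * 2 ^ m := by ring
  have h2 : 2 ^ (m + 1) = 2 * 2 ^ m := by ring
  rw [h1, h2] at hk
  rw [h1] at hB
  generalize 2 ^ m = b at *
  have hk' : k ≤ 2 * b * b + 2 * b + 1 := by
    rcases hk with rfl | rfl
    · exact le_rfl
    · omega
  have h3 : (r - 1) * (4 * k) ≤ (2 * b * b + 2 * b) * (4 * (2 * b * b + 2 * b + 1)) :=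
    Nat.mul_le_mul (by omega) (by omega)
  refine h3.trans ?_
  rw [hB]
  obtain ⟨c, rfl⟩ := Nat.exists_eq_add_of_le hb
  have h4 : 2 * (4 + c) * (4 + c) - 1 = 2 * c * c + 16 * c + 31 := by
    have : 2 * (4 + c) * (4 + c) = 2 * c * c + 16 * c + 32 := by ring
    omega
  rw [h4]
  nlinarith [sq_nonneg c, pow_nonneg (Nat.zero_le c) 3]

variable {F : Type} [Field F] [Fintype F] {m : ℕ}

/-- the two models are isomorphic -/
noncomputable def equivSz (hm : 1 ≤ m) (hF : Fintype.card F = 2 ^ (2 * m + 1)) :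
    Cfsg.Sz F m ≃* ↥(Cfsg.Lie.Sz F (2 ^ (m + 1))) :=
  MulEquiv.ofBijective (Cfsg.Agent.H147.Sz.lift hm hF)
    ⟨Cfsg.Agent.H147.Sz.lift_injective hm hF, Cfsg.Agent.H147.Sz.lift_surjective hm hF⟩

theorem minDeg (hm : 2 ≤ m) (hF : Fintype.card F = 2 ^ (2 * m + 1)) :
    MinDeg (Cfsg.Sz F m) (2 ^ m * (2 ^ (2 * m + 1) - 1)) := by
  have e := equivSz (by omega) hF
  refine MinDeg.of_equiv e.symm ?_
  refine minDeg_of_mult_one ?_ (multDvd_of_cyclic one_ne_zero (Cfsg.Agent.S2111.result hm hF))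
    (Cfsg.Agent.S2337.result m (by omega) hF)
  rw [← map_commutator_of_surj (f := e.toMonoidHom) e.surjective, Cfsg.Agent.S0325.perfect (by omega) hF,
    ← MonoidHom.range_eq_map]
  exact MonoidHom.range_eq_top.2 e.surjective

/-- the primes of the nonsplit tori -/
theorem not_may_free (hm : 2 ≤ m) (hF : Fintype.card F = 2 ^ (2 * m + 1)) {r : ℕ} (hr : r.Prime) (hr2 : r ≠ 2)
    {x : Cfsg.Sz F m} (hx : orderOf x = r) (hf : x ∈ SuzukiTori.Hyp.free (Cfsg.Sz F m) (Cfsg.suzukiOvoid F m)) :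
    ¬ May r (Cfsg.Sz F m) := by
  intro h
  have h1 := h.lt_of_minDeg hr hr2 (minDeg hm hF) hx
  have hfin := SzBasic.finite_ovoid F m
  have HH := SuzukiHyp.hyp (F := F) (m := m) (by omega) hF
  have h2 := SzBasic.card_centralizer_free (by omega) hF hf
  obtain ⟨g₁, hg₁, hc, hn⟩ := HH.exists_tori rfl _ h2
  have hxr : r ∣ Nat.card (Subgroup.centralizer ({x} : Set (Cfsg.Sz F m))) := by
    rw [← hx]
    exact Subgroup.orderOf_dvd_natCard _ (Subgroup.mem_centralizer_singleton_iff.2 rfl)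
  obtain ⟨hx1, y, hy⟩ := HH.mem_tset_of_dvd hg₁ hf hr (by rw [hc]; exact hxr) hxr
  have hyx1 : y⁻¹ * x * y ≠ 1 := by
    intro h3
    apply hx1
    have : x = y * (y⁻¹ * x * y) * y⁻¹ := by group
    rw [this, h3]
    group
  have h4 := HH.centralizer_eq hg₁ hy hyx1
  have h5 : Nat.card (Subgroup.normalizer ((Subgroup.centralizer ({x} : Set (Cfsg.Sz F m)) :
      Subgroup (Cfsg.Sz F m)) : Set (Cfsg.Sz F m))) =
      4 * Nat.card (Subgroup.centralizer ({x} : Set (Cfsg.Sz F m))) := by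
    rw [← hn, ← h4, show y⁻¹ * x * y = y⁻¹ * x * y⁻¹⁻¹ by rw [inv_inv], SzBasic.centralizer_conj,
      card_normalizer_conj]
  have h6 : Nat.card (Subgroup.normalizer (Subgroup.zpowers x : Set (Cfsg.Sz F m))) ≤
      4 * Nat.card (Subgroup.centralizer ({x} : Set (Cfsg.Sz F m))) := by
    rw [← h5]
    exact Subgroup.card_le_of_le (normalizer_le x)
  have h7 := num hm h2 (Nat.le_of_dvd Nat.card_pos hxr) rfl
  have h8 : (r - 1) * Nat.card (Subgroup.normalizer (Subgroup.zpowers x : Set (Cfsg.Sz F m))) ≤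
      (r - 1) * (4 * Nat.card (Subgroup.centralizer ({x} : Set (Cfsg.Sz F m)))) := Nat.mul_le_mul_left _ h6
  omega

/-- the primes of the split torus -/
theorem not_may_split (hm : 1 ≤ m) (hF : Fintype.card F = 2 ^ (2 * m + 1)) {r : ℕ} (hr : r.Prime) (hr2 : r ≠ 2)
    {x : Cfsg.Sz F m} (hx : orderOf x = r) {y : Cfsg.Sz F m} {k : Fˣ} (hk : k ≠ 1)
    (hy : y * x * y⁻¹ = SzBasic.h hF k) :
    ¬ May r (Cfsg.Sz F m) := by
  have hs : IsSimpleGroup (Cfsg.Sz F m) := Cfsg.Agent.S0325.result hm hF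
  have hfin := SzBasic.finite_ovoid F m
  have hho : orderOf (SzBasic.h (m := m) hF k) = r := by
    rw [← hy, ← hx]
    exact MulEquiv.orderOf_eq (MulAut.conj y) x
  have hcard := (SzBasic.card_centralizer_of_conj_h hm hF (g := SzBasic.h hF k) (y := 1) hk (by group)).1
  have hrd : r ∣ 2 ^ (2 * m + 1) - 1 := by
    rw [← hcard, ← hho]
    exact Subgroup.orderOf_dvd_natCard _ (Subgroup.mem_centralizer_singleton_iff.2 rfl)
  refine not_may_of_act (l := 2) (K := (SuzukiSylow.sylowQ hm hF : Subgroup (Cfsg.Sz F m)))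
    (k := SuzukiSylow.u hF 0 1) hr hr2 Nat.prime_two hr2.symm
    (good_of_not_fermat Nat.prime_two hr hr2 (not_fermat hr hr2 hrd)) (SuzukiSylow.sylowQ hm hF).isPGroup' hho ?_ ?_ ?_
  · intro q hq
    rw [SuzukiSylow.coe_sylowQ, SuzukiSylow.mem_Q_iff] at hq ⊢
    obtain ⟨a, b, rfl⟩ := hq
    rw [SzBasic.h_mul_u, mul_inv_cancel_right]
    exact ⟨_, _, rfl⟩
  · rw [SuzukiSylow.coe_sylowQ, SuzukiSylow.mem_Q_iff]
    exact ⟨0, 1, rfl⟩
  · intro hc
    have h1 : SuzukiSylow.u hF (0 : F) 1 ∈ Subgroup.centralizer ({SzBasic.h hF k} : Set (Cfsg.Sz F m)) :=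
      Subgroup.mem_centralizer_singleton_iff.2 hc.symm
    rw [SzBasic.centralizer_h hm hF hk, SzBasic.mem_T_iff] at h1
    obtain ⟨k', hk'⟩ := h1
    have h2 : SuzukiSylow.u hF (0 : F) 1 * SzBasic.h hF 1 = SuzukiSylow.u hF 0 0 * SzBasic.h hF k' := by
      rw [hk', SzBasic.h_one, mul_one, SuzukiSylow.u_zero_zero, one_mul]
    exact one_ne_zero (SzBasic.u_mul_h_inj hF h2).2.1

theorem row (hm : 1 ≤ m) (hF : Fintype.card F = 2 ^ (2 * m + 1)) : Row (Cfsg.Sz F m) := by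
  have hfin := SzBasic.finite_ovoid F m
  have key : ∀ r : ℕ, r.Prime → r ≠ 2 → r ∣ Nat.card (Cfsg.Sz F m) → May r (Cfsg.Sz F m) →
      m = 1 ∧ (r = 13 ∨ r = 5) := by
    intro r hr hr2 hrd hM
    have := Fact.mk hr
    obtain ⟨x, hx⟩ := exists_prime_orderOf_dvd_card' r hrd
    have hx1 : x ≠ 1 := by
      rintro rfl
      rw [orderOf_one] at hx
      exact hr.one_lt.ne hx
    rcases SzBasic.trichotomy hm hF hx1 with h | ⟨y, k, hk, h⟩ | ⟨y, a, b, hab, h⟩
    · have hm1 : m = 1 := by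
        by_contra hne
        exact not_may_free (by omega) hF hr hr2 hx h hM
      subst hm1
      refine ⟨rfl, ?_⟩
      have h2 := SzBasic.card_centralizer_free (by omega) hF h
      have hxr : r ∣ Nat.card (Subgroup.centralizer ({x} : Set (Cfsg.Sz F 1))) := by
        rw [← hx]
        exact Subgroup.orderOf_dvd_natCard _ (Subgroup.mem_centralizer_singleton_iff.2 rfl)
      rcases h2 with h2 | h2
      · rw [h2] at hxr
        left
        exact (Nat.prime_dvd_prime_iff_eq hr (by norm_num)).1 hxr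
      · rw [h2] at hxr
        right
        exact (Nat.prime_dvd_prime_iff_eq hr (by norm_num)).1 hxr
    · exact absurd hM (not_may_split hm hF hr hr2 hx hk h)
    · exfalso
      have h1 : y * x * y⁻¹ ∈ (SuzukiSylow.sylowQ hm hF : Subgroup (Cfsg.Sz F m)) := by
        rw [h, SuzukiSylow.coe_sylowQ, SuzukiSylow.mem_Q_iff]
        exact ⟨a, b, rfl⟩
      obtain ⟨j, hj⟩ := (SuzukiSylow.sylowQ hm hF).isPGroup' ⟨_, h1⟩
      have h2 : (y * x * y⁻¹) ^ 2 ^ j = 1 := congrArg Subtype.val hj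
      have h3 : orderOf (y * x * y⁻¹) = r := by
        rw [← hx]
        exact MulEquiv.orderOf_eq (MulAut.conj y) x
      have h4 : r ∣ 2 ^ j := by rw [← h3]; exact orderOf_dvd_of_pow_eq_one h2
      exact hr2 ((Nat.prime_dvd_prime_iff_eq hr Nat.prime_two).1 (hr.dvd_of_dvd_pow h4))
  exact ⟨13, 5, fun r hr hr2 hrd hM => (key r hr hr2 hrd hM).2⟩

theorem row_Sz {S : Type} [Group S] (h : Cfsg.Lie.IsoSuzuki S) : Row S := by
  obtain ⟨F, _, _, m, hm, hF, ⟨e⟩⟩ := h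
  exact (row hm hF).of_equiv ((equivSz hm hF).trans e.symm)

end Cfsg.Agent.H344.FpfSz
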