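import Mathlib.GroupTheory.GroupAction.Quotient
import Mathlib.GroupTheory.GroupAction.MultipleTransitivity
import Mathlib.Tactic
import Mathlib.Data.Fintype.CardEmbedding

/-!
# Two 2-transitive actions of the same degree: equal numbers of fixed points (Burnside), helper344

`Cfsg.Agent.H344.Burn.transfer` : if `X` is 2-transitive on `Ω` and on `N`, `|Ω| = |N|`, and a point stabiliser on `Ω` is
not transitive on `N`, then every element of `X` has as many fixed points on `Ω` as on `N`; so `k`-transitivity of `X` on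
`N` implies `k`-transitivity on `Ω`.
-/

set_option autoImplicit false
set_option linter.unusedSectionVars false

namespace Cfsg.Agent.H344.Burn

open MulAction

universe u v w

variable {X : Type u} [Group X] [Finite X]

theorem sum_fix [Fintype X] (Y : Type v) [MulAction X Y] [Finite Y] :
    ∑ g : X, Nat.card (fixedBy Y g) = Nat.card (Quotient (orbitRel X Y)) * Nat.card X := by
  classical
  have : Fintype Y := Fintype.ofFinite Y
  have : ∀ g : X, Fintype (fixedBy Y g) := fun g => Fintype.ofFinite _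
  have : Fintype (Quotient (orbitRel X Y)) := Fintype.ofFinite _
  have h := sum_card_fixedBy_eq_card_orbits_mul_card_group X Y
  simp only [Nat.card_eq_fintype_card]
  convert h

theorem card_fix_prod {Ω : Type v} {N : Type w} [MulAction X Ω] [MulAction X N] (g : X) :
    Nat.card (fixedBy (Ω × N) g) = Nat.card (fixedBy Ω g) * Nat.card (fixedBy N g) := by
  rw [← Nat.card_prod]
  refine Nat.card_congr ⟨fun x => (⟨x.1.1, congrArg Prod.fst x.2⟩, ⟨x.1.2, congrArg Prod.snd x.2⟩),
    fun y => ⟨(y.1.1, y.2.1), Prod.ext y.1.2 y.2.2⟩, fun _ => rfl, fun _ => rfl⟩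

theorem card_fix_emb {Ω : Type v} [MulAction X Ω] [Finite Ω] (k : ℕ) (g : X) :
    Nat.card (fixedBy (Fin k ↪ Ω) g) = (Nat.card (fixedBy Ω g)).descFactorial k := by
  classical
  have : Fintype Ω := Fintype.ofFinite Ω
  have : Fintype (fixedBy Ω g) := Fintype.ofFinite _
  have h1 : Nat.card (Fin k ↪ fixedBy Ω g) = (Nat.card (fixedBy Ω g)).descFactorial k := by
    rw [Nat.card_eq_fintype_card, Fintype.card_embedding_eq, Fintype.card_fin, Nat.card_eq_fintype_card]
  rw [← h1]
  refine Nat.card_congr ⟨fun x => ⟨fun i => ⟨x.1 i, ?_⟩, ?_⟩, fun y => ⟨⟨fun i => (y i).1, ?_⟩, ?_⟩, ?_, ?_⟩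
  · have h := x.2
    rw [mem_fixedBy] at h
    rw [mem_fixedBy]
    exact DFunLike.congr_fun h i
  · intro i j hij
    exact x.1.injective (congrArg Subtype.val hij)
  · intro i j hij
    exact y.injective (Subtype.ext hij)
  · rw [mem_fixedBy]
    ext i
    exact (y i).2
  · intro x
    rfl
  · intro y
    rfl

theorem card_quot_le_one {Y : Type v} [MulAction X Y] [Finite Y] :
    Nat.card (Quotient (orbitRel X Y)) ≤ 1 ↔ IsPretransitive X Y := by
  rw [pretransitive_iff_subsingleton_quotient, Finite.card_le_one_iff_subsingleton]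

theorem card_quot_eq_one {Y : Type v} [MulAction X Y] [Finite Y] [Nonempty Y] (h : IsPretransitive X Y) :
    Nat.card (Quotient (orbitRel X Y)) = 1 := by
  have h1 := card_quot_le_one.2 h
  have h2 : 0 < Nat.card (Quotient (orbitRel X Y)) := by
    have : Nonempty (Quotient (orbitRel X Y)) := ⟨Quotient.mk _ (Classical.arbitrary Y)⟩
    exact Nat.card_pos
  omega

theorem sum_sq [Fintype X] {Ω : Type v} [MulAction X Ω] [Finite Ω] (hn : 2 ≤ Nat.card Ω)
    (h : IsMultiplyPretransitive X Ω 2) :
    ∑ g : X, Nat.card (fixedBy Ω g) * Nat.card (fixedBy Ω g) = 2 * Nat.card X := by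
  classical
  have : Fintype Ω := Fintype.ofFinite Ω
  have h1 : IsPretransitive X Ω := by
    have := h
    exact isPretransitive_of_is_two_pretransitive
  have : Nonempty Ω := by
    apply (Finite.card_pos_iff).1; omega
  have : Nonempty (Fin 2 ↪ Ω) := by
    rw [Function.Embedding.nonempty_iff_card_le, Fintype.card_fin, ← Nat.card_eq_fintype_card]
    exact hn
  have e1 := sum_fix (X := X) Ω
  have e2 := sum_fix (X := X) (Fin 2 ↪ Ω)
  rw [card_quot_eq_one h1, one_mul] at e1
  rw [card_quot_eq_one h, one_mul] at e2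
  simp only [card_fix_emb] at e2
  rw [two_mul]
  nth_rw 1 [← e1]
  rw [← e2, ← Finset.sum_add_distrib]
  refine Finset.sum_congr rfl fun g _ => ?_
  rw [Nat.descFactorial_succ, Nat.descFactorial_one]
  rcases Nat.eq_zero_or_pos (Nat.card (fixedBy Ω g)) with h0 | h0
  · rw [h0]
  · obtain ⟨m, hm⟩ : ∃ m, Nat.card (fixedBy Ω g) = m + 1 := ⟨_, (Nat.succ_pred_eq_of_pos h0).symm⟩
    rw [hm, Nat.add_sub_cancel]
    ring

/-- **equal numbers of fixed points** -/
theorem card_fix_eq {Ω : Type v} {N : Type w} [MulAction X Ω] [MulAction X N] [Finite Ω] [Finite N]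
    (hn : 2 ≤ Nat.card Ω) (hnN : 2 ≤ Nat.card N)
    (hΩ : IsMultiplyPretransitive X Ω 2) (hN : IsMultiplyPretransitive X N 2)
    (hnot : ¬ IsPretransitive X (Ω × N)) (g : X) : Nat.card (fixedBy Ω g) = Nat.card (fixedBy N g) := by
  classical
  have : Fintype X := Fintype.ofFinite X
  have e1 := sum_sq hn hΩ
  have e2 := sum_sq hnN hN
  have e3 := sum_fix (X := X) (Ω × N)
  simp only [card_fix_prod] at e3
  have h2 : 2 ≤ Nat.card (Quotient (orbitRel X (Ω × N))) := by
    by_contra hcon
    exact hnot (card_quot_le_one.1 (by omega))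
  have e4 : 2 * Nat.card X ≤ ∑ g : X, Nat.card (fixedBy Ω g) * Nat.card (fixedBy N g) := by
    rw [e3]
    exact Nat.mul_le_mul_right _ h2
  have key : ∑ g : X, ((Nat.card (fixedBy Ω g) : ℤ) - Nat.card (fixedBy N g)) ^ 2 ≤ 0 := by
    have e5 : ∑ g : X, ((Nat.card (fixedBy Ω g) : ℤ) - Nat.card (fixedBy N g)) ^ 2 =
        (∑ g : X, Nat.card (fixedBy Ω g) * Nat.card (fixedBy Ω g) : ℕ) +
        (∑ g : X, Nat.card (fixedBy N g) * Nat.card (fixedBy N g) : ℕ) -
        2 * (∑ g : X, Nat.card (fixedBy Ω g) * Nat.card (fixedBy N g) : ℕ) := by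
      push_cast
      rw [Finset.mul_sum, ← Finset.sum_add_distrib, ← Finset.sum_sub_distrib]
      refine Finset.sum_congr rfl fun g _ => ?_
      ring
    rw [e5, e1, e2]
    have e4' : (2 * Nat.card X : ℤ) ≤ ((∑ g : X, Nat.card (fixedBy Ω g) * Nat.card (fixedBy N g) : ℕ) : ℤ) := by
      exact_mod_cast e4
    push_cast at e4' ⊢
    linarith
  have h3 := (Finset.sum_eq_zero_iff_of_nonneg (s := Finset.univ)
    (f := fun g : X => ((Nat.card (fixedBy Ω g) : ℤ) - Nat.card (fixedBy N g)) ^ 2)
    (fun g _ => sq_nonneg _)).1 (le_antisymm key (Finset.sum_nonneg fun g _ => sq_nonneg _)) g (Finset.mem_univ g)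
  have h4 := pow_eq_zero_iff (two_ne_zero) |>.1 h3
  have h5 := sub_eq_zero.1 h4
  exact_mod_cast h5

/-- **transfer of multiple transitivity** -/
theorem transfer {Ω : Type v} {N : Type w} [MulAction X Ω] [MulAction X N] [Finite Ω] [Finite N]
    (hf : ∀ g : X, Nat.card (fixedBy Ω g) = Nat.card (fixedBy N g)) (k : ℕ) (h : IsMultiplyPretransitive X N k) :
    IsMultiplyPretransitive X Ω k := by
  classical
  have : Fintype X := Fintype.ofFinite X
  have e1 := sum_fix (X := X) (Fin k ↪ Ω)
  have e2 := sum_fix (X := X) (Fin k ↪ N)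
  simp only [card_fix_emb, hf] at e1 e2
  rw [e1] at e2
  have h1 : Nat.card (Quotient (orbitRel X (Fin k ↪ Ω))) = Nat.card (Quotient (orbitRel X (Fin k ↪ N))) :=
    Nat.eq_of_mul_eq_mul_right Nat.card_pos e2
  apply card_quot_le_one.1
  rw [h1]
  exact card_quot_le_one.2 h

end Cfsg.Agent.H344.Burn
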