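import Cfsg.Agent.H386.HalfTwo.Count
import Cfsg.Agent.H384.AsOut
import Cfsg.Agent.H970.TwoSporBase
import Cfsg.Agent.S0366
import Cfsg.Agent.S2062
import Cfsg.Agent.NotCT.Orders
import Cfsg.Agent.H344.Burn

/-!
# S3576, row `M22` in degree 22 (helper344)

The socle `M22` acts 2-transitively on `Ω`, `|Ω| = 22`.  Compare (Burnside) with its natural action on 22 points: the two
permutation characters coincide, so the action on `Ω` is 3-transitive too.
-/

set_option autoImplicit false

namespace Cfsg.Agent.H344.HalfM22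

open MulAction Cfsg.Agent.H384.TwoTrans Cfsg.Agent.H386.HalfTwo
open scoped Pointwise

/-- the 22 points -/
abbrev N22 : Type := {x : Cfsg.GolayPt // x ≠ none ∧ x ≠ some 0}

theorem mem_M22 (g : Equiv.Perm Cfsg.GolayPt) :
    g ∈ Cfsg.Spor.M22 ↔ g ∈ Cfsg.M24 ∧ g none = none ∧ g (some 0) = some 0 := by
  show ((g ∈ Cfsg.M24 ∧ g ∈ stabilizer (Equiv.Perm Cfsg.GolayPt) none) ∧
    g ∈ stabilizer (Equiv.Perm Cfsg.GolayPt) (some 0 : Cfsg.GolayPt)) ↔ _
  rw [mem_stabilizer_iff, mem_stabilizer_iff, and_assoc]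
  rfl

/-- the natural action of `M22` -/
instance act : MulAction Cfsg.Spor.M22 N22 where
  smul g x := ⟨g.1 x.1, by
    obtain ⟨-, h1, h2⟩ := (mem_M22 g.1).1 g.2
    exact ⟨fun h => x.2.1 (g.1.injective (h.trans h1.symm)), fun h => x.2.2 (g.1.injective (h.trans h2.symm))⟩⟩
  one_smul x := rfl
  mul_smul g h x := rfl

theorem smul_val (g : Cfsg.Spor.M22) (x : N22) : (g • x).1 = g.1 x.1 := rfl

theorem card_N22 : Nat.card N22 = 22 := by
  rw [Nat.card_eq_fintype_card]
  decide +kernel

/-- extend a triple by the two fixed points -/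
def ext5 (x : Fin 3 ↪ N22) : Fin 5 ↪ Cfsg.GolayPt :=
  ⟨![none, some 0, (x 0).1, (x 1).1, (x 2).1], by
    have h01 : (x 0).1 ≠ (x 1).1 := fun h => by
      have := x.injective (Subtype.ext h); exact absurd this (by decide)
    have h02 : (x 0).1 ≠ (x 2).1 := fun h => by
      have := x.injective (Subtype.ext h); exact absurd this (by decide)
    have h12 : (x 1).1 ≠ (x 2).1 := fun h => by
      have := x.injective (Subtype.ext h); exact absurd this (by decide)
    have h0 := (x 0).2
    have h1 := (x 1).2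
    have h2 := (x 2).2
    intro i j hij
    fin_cases i <;> fin_cases j <;> simp_all [Ne.symm]⟩

theorem three : IsMultiplyPretransitive Cfsg.Spor.M22 N22 3 := by
  have h5 := Cfsg.Agent.S0366.result
  rw [isMultiplyPretransitive_iff] at h5 ⊢
  intro x y
  obtain ⟨g, hg⟩ := h5 (ext5 x) (ext5 y)
  have e0 : g.1 none = none := DFunLike.congr_fun hg 0
  have e1 : g.1 (some 0) = some 0 := DFunLike.congr_fun hg 1
  have e2 : g.1 (x 0).1 = (y 0).1 := DFunLike.congr_fun hg 2
  have e3 : g.1 (x 1).1 = (y 1).1 := DFunLike.congr_fun hg 3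
  have e4 : g.1 (x 2).1 = (y 2).1 := DFunLike.congr_fun hg 4
  refine ⟨⟨g.1, (mem_M22 _).2 ⟨g.2, e0, e1⟩⟩, ?_⟩
  ext i : 1
  apply Subtype.ext
  show g.1 (x i).1 = (y i).1
  fin_cases i
  · exact e2
  · exact e3
  · exact e4

universe u v

/-- a 2-transitive group of prime-to-`n - 1` index in ... : `T` is 2-transitive when `gcd(|Out T|, n - 1) = 1` -/
theorem T_two {G : Type u} {Ω : Type v} [Group G] [MulAction G Ω] {T : Subgroup G} (A : AS G Ω T) {out : ℕ}
    (hG : Nat.card G ∣ out * Nat.card ↥T) (hc : Nat.Coprime out (Nat.card Ω - 1)) :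
    IsMultiplyPretransitive T Ω 2 := by
  have := A.finΩ
  have := A.finT
  have := A.transitive
  have key : ∀ a b c : Ω, b ≠ a → c ≠ a → ∃ t : T, t • a = a ∧ t • b = c := by
    intro a b c hb hcc
    obtain ⟨j, hj1, hj2, hj3⟩ := Cfsg.Agent.H970.TwoSpor.exists_two_point A hG a b hb.symm
    have hj : j = 1 := Nat.dvd_one.1 (hc ▸ Nat.dvd_gcd hj1 hj2)
    rw [hj, mul_one] at hj3
    have h1 := A.card_orbit_mul a b
    rw [hj3] at h1
    have h2 : Nat.card (orbit (stabilizer T a) b) = Nat.card Ω - 1 :=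
      Nat.eq_of_mul_eq_mul_right Nat.card_pos h1
    have h3 : orbit (stabilizer T a) b = ({a} : Set Ω)ᶜ := by
      apply Set.eq_of_subset_of_ncard_le
      · rintro x ⟨g, rfl⟩ h
        rw [Set.mem_singleton_iff] at h
        apply hb
        have h4 : (g : T) • b = (g : T) • a := by
          rw [show (g : T) • a = a from g.2]; exact h
        exact smul_left_cancel (g : T) h4
      · rw [Set.ncard_compl, Set.ncard_singleton, ← h2, Nat.card_coe_set_eq]
      · exact Set.toFinite _
    have h4 : c ∈ orbit (stabilizer T a) b := by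
      rw [h3]; exact hcc
    obtain ⟨g, hg⟩ := h4
    exact ⟨g, g.2, hg⟩
  rw [MulAction.is_two_pretransitive_iff]
  intro a b c d hab hcd
  obtain ⟨t, ht⟩ := exists_smul_eq T a c
  have h1 : t • b ≠ c := by
    intro h
    exact hab (smul_left_cancel t (ht.trans h.symm))
  obtain ⟨s, hs1, hs2⟩ := key c (t • b) d h1 hcd.symm
  exact ⟨s * t, by rw [mul_smul, ht, hs1], by rw [mul_smul, hs2]⟩

theorem up {G : Type u} {Ω : Type v} [Group G] [MulAction G Ω] {T : Subgroup G} {k : ℕ}
    (h : IsMultiplyPretransitive T Ω k) : IsMultiplyPretransitive G Ω k := by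
  rw [isMultiplyPretransitive_iff] at h ⊢
  intro x y
  obtain ⟨g, hg⟩ := h x y
  exact ⟨(g : G), hg⟩

variable {G : Type u} {Ω : Type v} [Group G] [MulAction G Ω] {T : Subgroup G} {m : ℕ}

theorem three_T (A : AS G Ω T) (h : Cfsg.Spor.IsoM22 T) (hn : Nat.card Ω = 22) : IsMultiplyPretransitive T Ω 3 := by
  have := A.finΩ
  have := A.finT
  have hT : Nat.card T = 443520 := Cfsg.Agent.NotCT.Orders.m22 h
  obtain ⟨e⟩ := h
  have hG : Nat.card G ∣ 2 * Nat.card ↥T := by
    have h1 := A.index_dvd_out e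
    rw [Cfsg.Agent.S2062.result] at h1
    rw [← Subgroup.index_mul_card T]
    exact Nat.mul_dvd_mul_right h1 _
  have h2 : IsMultiplyPretransitive T Ω 2 := T_two A hG (by rw [hn]; decide)
  let : MulAction T N22 := MulAction.compHom N22 (e : T →* Cfsg.Spor.M22)
  have h3N : IsMultiplyPretransitive T N22 3 := by
    have h3 := three
    rw [isMultiplyPretransitive_iff] at h3 ⊢
    intro x y
    obtain ⟨g, hg⟩ := h3 x y
    refine ⟨e.symm g, ?_⟩
    rw [← hg]
    ext i : 1
    show e (e.symm g) • x i = g • x i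
    rw [e.apply_symm_apply]
  have h2N : IsMultiplyPretransitive T N22 2 :=
    MulAction.isMultiplyPretransitive_of_le (n := 3) (by norm_num) (by rw [card_N22]; norm_num)
  refine Burn.transfer (Burn.card_fix_eq (X := T) (by omega) (by rw [card_N22]; norm_num) h2 h2N ?_) 3 h3N
  intro hcon
  have h0 : Nat.card (Ω × N22) ∣ Nat.card T := by
    obtain ⟨a⟩ : Nonempty Ω := by have := A.nontrivialΩ; infer_instance
    obtain ⟨b⟩ : Nonempty N22 := (Finite.card_pos_iff).1 (by rw [card_N22]; norm_num)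
    rw [← MulAction.index_stabilizer_of_transitive T (a, b)]
    exact Subgroup.index_dvd_card _
  rw [Nat.card_prod, hn, card_N22, hT] at h0
  revert h0
  decide

theorem m22 (A : AS G Ω T) (_H : Half G Ω m) (h : Cfsg.Spor.IsoM22 T) (hn : Nat.card Ω = 22) :
    m = 1 ∨ IsMultiplyPretransitive G Ω 3 :=
  Or.inr (up (three_T A h hn))

end Cfsg.Agent.H344.HalfM22
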