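import Cfsg.Agent.H344.List81
import Cfsg.Agent.S0254
import Cfsg.Agent.S0813
import Cfsg.Agent.S0814
import Cfsg.Agent.S0815
import Cfsg.Agent.S2119
import Cfsg.Agent.ClassicalGeometry.PSL2Basic
import Cfsg.Agent.S2060
import Cfsg.Agent.S2062
import Cfsg.Agent.S2063
import Cfsg.Agent.S2065
import Cfsg.Agent.S2072

/-!
# The 3-part of the order of the automorphism group, simple groups of order not divisible by 27 (helper344)

`not_dvd_mulAut`: `S` of `H341.ThreeList.Kind`, 27 does not divide the order of `S`: 81 does not divide the order of `Aut S`.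
-/

set_option autoImplicit false

namespace Cfsg.Agent.H344.OutA

open Cfsg OrdDiv

universe u

/-! ### general -/

theorem card_mulAut_congr {G H : Type*} [Group G] [Group H] (e : G ≃* H) :
    Nat.card (MulAut G) = Nat.card (MulAut H) :=
  Nat.card_congr (MulAut.congr e).toEquiv

theorem card_mulAut_dvd (X : Type*) [Group X] : Nat.card (MulAut X) ∣ Nat.card (Out X) * Nat.card X := by
  rw [Subgroup.card_eq_card_quotient_mul_card_subgroup (Inn X)]
  exact Nat.mul_dvd_mul_left _ (Subgroup.card_range_dvd _)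

/-- the outer automorphism group has order prime to 3 -/
theorem of_out {G : Type*} [Group G] {X : Type*} [Group X] (e : Nonempty (G ≃* X)) {c k : ℕ}
    (hc : Nat.card (Out X) = c) (h3 : ¬ 3 ∣ c) (h : ¬ 3 ^ k ∣ Nat.card G) : ¬ 3 ^ k ∣ Nat.card (MulAut G) := by
  obtain ⟨e⟩ := e
  intro hd
  rw [card_mulAut_congr e] at hd
  have h1 := hd.trans (card_mulAut_dvd X)
  rw [hc] at h1
  have h2 : Nat.Coprime (3 ^ k) c := ((Nat.Prime.coprime_iff_not_dvd Nat.prime_three).2 h3).pow_left k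
  rw [Nat.card_congr e.toEquiv] at h
  exact h (h2.dvd_of_dvd_mul_left h1)

theorem not_dvd_mul {a b c : ℕ} (hc : ¬ 3 ∣ c) {k : ℕ} (h : ¬ 3 ^ k ∣ a * b) : ¬ 3 ^ k ∣ a * (c * b) := by
  intro hd
  apply h
  have h2 : Nat.Coprime (3 ^ k) c := ((Nat.Prime.coprime_iff_not_dvd Nat.prime_three).2 hc).pow_left k
  apply h2.dvd_of_dvd_mul_left
  convert hd using 1
  ring

/-- `9 ∤ f` and `27 ∤ m` -/
theorem mul_not {f m : ℕ} (hf : ¬ 9 ∣ f) (hm : ¬ 27 ∣ m) : ¬ 81 ∣ f * m := by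
  intro h
  by_cases h3 : 3 ∣ f
  · obtain ⟨g, rfl⟩ := h3
    have hg : ¬ 3 ∣ g := fun hg => hf (by obtain ⟨k, rfl⟩ := hg; exact ⟨k, by ring⟩)
    have h1 : 27 ∣ g * m := by
      have : 3 * 27 ∣ 3 * (g * m) := by rw [← mul_assoc]; exact h
      exact Nat.dvd_of_mul_dvd_mul_left (by norm_num) this
    have h2 : Nat.Coprime 27 g := by
      have := ((Nat.Prime.coprime_iff_not_dvd Nat.prime_three).2 hg).pow_left 3
      exact this
    exact hm (h2.dvd_of_dvd_mul_left h1)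
  · have h2 : Nat.Coprime 81 f := ((Nat.Prime.coprime_iff_not_dvd Nat.prime_three).2 h3).pow_left 4
    have h4 := h2.dvd_of_dvd_mul_left h
    exact hm ((by norm_num : (27 : ℕ) ∣ 81).trans h4)

/-- `3 ∤ f` -/
theorem mul_not' {f m : ℕ} (hf : ¬ 3 ∣ f) (hm : ¬ 81 ∣ m) : ¬ 81 ∣ f * m := by
  intro h
  have h2 : Nat.Coprime 81 f := ((Nat.Prime.coprime_iff_not_dvd Nat.prime_three).2 hf).pow_left 4
  exact hm (h2.dvd_of_dvd_mul_left h)

/-- ninth powers -/
theorem pow_nine {q f p : ℕ} (hq : q = p ^ f) (h : 9 ∣ f) (hf : 1 ≤ f) (h3 : ¬ 3 ∣ q) : 27 ∣ q ^ 2 - 1 := by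
  obtain ⟨m, rfl⟩ := h
  obtain ⟨r, hr⟩ : ∃ r, r = p ^ m := ⟨_, rfl⟩
  have h1 : q = r ^ 9 := by rw [hq, hr, ← pow_mul, mul_comm]
  have hr3 : r % 3 ≠ 0 := fun h0 => h3 (by
    rw [h1]
    exact (Nat.dvd_of_mod_eq_zero h0).trans (dvd_pow_self r (by norm_num)))
  have h2 : (r ^ 9) ^ 2 % 27 = 1 := by
    have h4 : r % 27 < 27 := Nat.mod_lt _ (by norm_num)
    have h5 : (r % 27) % 3 ≠ 0 := by omega
    rw [← pow_mul, Nat.pow_mod]
    generalize r % 27 = s at h4 h5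
    interval_cases s <;> first | rfl | (exact absurd rfl h5)
  rw [h1]
  omega

/-- cubes -/
theorem pow_three {q f p : ℕ} (hq : q = p ^ f) (h : 3 ∣ f) : ∃ r, q = r ^ 3 := by
  obtain ⟨m, rfl⟩ := h
  exact ⟨p ^ m, by rw [hq, ← pow_mul, mul_comm]⟩

theorem cube_mod (r : ℕ) : r ^ 3 % 9 = 0 ∨ r ^ 3 % 9 = 1 ∨ r ^ 3 % 9 = 8 := by
  rw [Nat.pow_mod]
  have h4 : r % 9 < 9 := Nat.mod_lt _ (by norm_num)
  generalize r % 9 = s at h4
  interval_cases s <;> simp

theorem exists_pf {F : Type*} [Field F] [Fintype F] : ∃ (p f : ℕ), p.Prime ∧ 1 ≤ f ∧ Fintype.card F = p ^ f := by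
  obtain ⟨p, hp⟩ := CharP.exists F
  obtain ⟨m, hpp, hm⟩ := FiniteField.card F p
  exact ⟨p, m, hpp, m.2, hm⟩

theorem card_pgl {F : Type} [Field F] [Fintype F] {n : ℕ} (hn : 2 ≤ n) :
    Nat.card (Matrix.ProjGenLinGroup (Fin n) F) =
      Fintype.card F ^ (n * (n - 1) / 2) * ∏ j ∈ Finset.range (n - 1), (Fintype.card F ^ (j + 2) - 1) := by
  have : Nonempty (Fin n) := ⟨⟨0, by omega⟩⟩
  have hq : 1 < Fintype.card F := Fintype.one_lt_card
  have h1 := ClassicalGeometry.PSL2Basic.card_PGL_mul (Fin n) F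
  have h2 : Nat.card (GL (Fin n) F) = ∏ i : Fin n, (Fintype.card F ^ n - Fintype.card F ^ (i : ℕ)) :=
    Matrix.card_GL_field n
  rw [h2, Fin.prod_univ_eq_prod_range (fun i => Fintype.card F ^ n - Fintype.card F ^ i) n,
    H341.ThreeList.gl_prod _ _ (by omega), mul_comm] at h1
  exact Nat.eq_of_mul_eq_mul_left (show 0 < Fintype.card F - 1 by omega) h1

/-! ### the families -/

open List81

theorem vq {q : ℕ} (hq : ¬ 3 ∣ q) (k : ℕ) : V 0 (q ^ k) := (V0 hq).pow k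

theorem psl2 {F : Type} [Field F] [Fintype F] (hq : 4 ≤ Fintype.card F)
    (h : ¬ 27 ∣ Nat.card (Matrix.ProjectiveSpecialLinearGroup (Fin 2) F)) :
    ¬ 81 ∣ Nat.card (MulAut (Matrix.ProjectiveSpecialLinearGroup (Fin 2) F)) := by
  obtain ⟨p, f, hp, hf, hF⟩ := exists_pf (F := F)
  have : Fact p.Prime := ⟨hp⟩
  have h1 := S0813.result (F := F) p f hf hF 2 le_rfl (fun _ => by rw [← hF]; exact hq)
  have h2 := H341.ThreeList.card_psl (F := F) (n := 2) le_rfl
  rw [if_pos rfl, one_mul, card_pgl le_rfl] at h1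
  rw [h1]
  norm_num at h2 ⊢
  have h3 : ¬ 27 ∣ Fintype.card F * (Fintype.card F ^ 2 - 1) := by
    intro hd
    rw [← h2] at hd
    have h4 : Nat.Coprime 27 (Nat.gcd 2 (Fintype.card F - 1)) :=
      (((Nat.Prime.coprime_iff_not_dvd Nat.prime_three).2
        (H341.ThreeList.not_dvd_gcd_two (q := Fintype.card F - 1))).pow_left 3)
    exact h (h4.dvd_of_dvd_mul_left hd)
  refine mul_not (fun h9 => h3 ?_) h3
  by_cases hq3 : 3 ∣ Fintype.card F
  · have hp3 : p = 3 := by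
      rw [hF] at hq3
      exact ((Nat.prime_dvd_prime_iff_eq Nat.prime_three hp).1 (Nat.prime_three.dvd_of_dvd_pow hq3)).symm
    rw [hF, hp3]
    apply dvd_mul_of_dvd_left
    have : 3 ≤ f := by
      have := Nat.le_of_dvd (by omega) h9
      omega
    exact (by norm_num : 27 ∣ 3 ^ 3).trans (pow_dvd_pow 3 this)
  · exact dvd_mul_of_dvd_right (pow_nine hF h9 hf hq3) _

theorem psl3 {F : Type} [Field F] [Fintype F] (hq : ¬ 3 ∣ Fintype.card F) (h9 : ¬ 9 ∣ Fintype.card F - 1)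
    (h : ¬ 27 ∣ Nat.card (Matrix.ProjectiveSpecialLinearGroup (Fin 3) F)) :
    ¬ 81 ∣ Nat.card (MulAut (Matrix.ProjectiveSpecialLinearGroup (Fin 3) F)) := by
  obtain ⟨p, f, hp, hf, hF⟩ := exists_pf (F := F)
  have : Fact p.Prime := ⟨hp⟩
  have hq1 := Fintype.one_lt_card (α := F)
  have h1 := S0813.result (F := F) p f hf hF 3 (by norm_num) (fun h => by norm_num at h)
  have h2 := H341.ThreeList.card_psl (F := F) (n := 3) (by norm_num)
  rw [if_neg (by norm_num), card_pgl (by norm_num)] at h1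
  rw [h1, mul_assoc, mul_comm 2, mul_assoc, mul_comm _ 2]
  refine not_dvd_mul (k := 4) (by norm_num) ?_
  rw [Finset.prod_range_succ, Finset.prod_range_succ, Finset.prod_range_zero, one_mul] at h2 ⊢
  norm_num at h2 ⊢
  set q := Fintype.card F with hqd
  by_cases h3 : q % 3 = 1
  · refine mul_not' (fun h3f => ?_) ?_
    · obtain ⟨r, hr⟩ := pow_three hF h3f
      have := cube_mod r
      rw [← hr] at this
      omega
    · have h9' : q % 9 = 4 ∨ q % 9 = 7 := by omega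
      have e1 : V 1 (q ^ 2 - 1) := by
        apply V1
        have : q ^ 2 % 9 = 7 ∨ q ^ 2 % 9 = 4 := by
          rw [Nat.pow_mod]; rcases h9' with h | h <;> rw [h] <;> norm_num
        have : 1 ≤ q ^ 2 := Nat.one_le_pow _ _ (by omega)
        omega
      have e2 : V 2 (q ^ 3 - 1) := by
        apply V2
        have h27 : q % 27 = 4 ∨ q % 27 = 13 ∨ q % 27 = 22 ∨ q % 27 = 7 ∨ q % 27 = 16 ∨ q % 27 = 25 := by omega
        have : q ^ 3 % 27 = 10 ∨ q ^ 3 % 27 = 19 := by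
          rw [Nat.pow_mod]; rcases h27 with h | h | h | h | h | h <;> rw [h] <;> norm_num
        have : 1 ≤ q ^ 3 := Nat.one_le_pow _ _ (by omega)
        omega
      have := (vq hq 3).mul (e1.mul e2)
      exact this.not_dvd (k := 4) (by norm_num)
  · have h4 : ¬ 3 ∣ q - 1 := by omega
    rw [Nat.Coprime.gcd_eq_one ((Nat.Prime.coprime_iff_not_dvd Nat.prime_three).2 h4), one_mul] at h2
    rw [← h2]
    refine mul_not (fun h9f => h ?_) h
    rw [h2]
    exact dvd_mul_of_dvd_right (dvd_mul_of_dvd_left (pow_nine hF h9f hf hq) _) _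

theorem mod_aux {q : ℕ} (hq : 1 < q) (h : q % 9 = 2 ∨ q % 9 = 5) :
    V 1 (q ^ 2 - 1) ∧ V 0 (q ^ 3 - 1) ∧ V 1 (q ^ 4 - 1) ∧ V 0 (q ^ 5 - 1) := by
  have p2 : 1 ≤ q ^ 2 := Nat.one_le_pow _ _ (by omega)
  have p3 : 1 ≤ q ^ 3 := Nat.one_le_pow _ _ (by omega)
  have p4 : 1 ≤ q ^ 4 := Nat.one_le_pow _ _ (by omega)
  have p5 : 1 ≤ q ^ 5 := Nat.one_le_pow _ _ (by omega)
  refine ⟨V1 ?_, V0 ?_, V1 ?_, V0 ?_⟩
  · have : q ^ 2 % 9 = 4 ∨ q ^ 2 % 9 = 7 := by
      rw [Nat.pow_mod]; rcases h with h | h <;> rw [h] <;> norm_num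
    omega
  · have : q ^ 3 % 9 = 8 := by
      rw [Nat.pow_mod]; rcases h with h | h <;> rw [h]
    omega
  · have : q ^ 4 % 9 = 4 ∨ q ^ 4 % 9 = 7 := by
      rw [Nat.pow_mod]; rcases h with h | h <;> rw [h] <;> norm_num
    omega
  · have : q ^ 5 % 9 = 5 ∨ q ^ 5 % 9 = 2 := by
      rw [Nat.pow_mod]; rcases h with h | h <;> rw [h] <;> norm_num
    omega

theorem mod_aux' {q : ℕ} (hq : 1 < q) (h : q % 9 = 4 ∨ q % 9 = 7) :
    V 1 (q ^ 2 - 1) ∧ V 0 (q ^ 3 + 1) ∧ V 1 (q ^ 4 - 1) ∧ V 0 (q ^ 5 + 1) := by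
  have p2 : 1 ≤ q ^ 2 := Nat.one_le_pow _ _ (by omega)
  have p3 : 1 ≤ q ^ 3 := Nat.one_le_pow _ _ (by omega)
  have p4 : 1 ≤ q ^ 4 := Nat.one_le_pow _ _ (by omega)
  have p5 : 1 ≤ q ^ 5 := Nat.one_le_pow _ _ (by omega)
  refine ⟨V1 ?_, V0 ?_, V1 ?_, V0 ?_⟩
  · have : q ^ 2 % 9 = 4 ∨ q ^ 2 % 9 = 7 := by
      rw [Nat.pow_mod]; rcases h with h | h <;> rw [h] <;> norm_num
    omega
  · have : q ^ 3 % 9 = 1 := by
      rw [Nat.pow_mod]; rcases h with h | h <;> rw [h]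
    omega
  · have : q ^ 4 % 9 = 4 ∨ q ^ 4 % 9 = 7 := by
      rw [Nat.pow_mod]; rcases h with h | h <;> rw [h] <;> norm_num
    omega
  · have : q ^ 5 % 9 = 7 ∨ q ^ 5 % 9 = 4 := by
      rw [Nat.pow_mod]; rcases h with h | h <;> rw [h] <;> norm_num
    omega

theorem not_three_f {q f p : ℕ} (hq : q = p ^ f) (h : q % 9 ≠ 0 ∧ q % 9 ≠ 1 ∧ q % 9 ≠ 8) : ¬ 3 ∣ f := by
  intro h3f
  obtain ⟨r, hr⟩ := pow_three hq h3f
  have := cube_mod r
  rw [← hr] at this
  omega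

theorem psl45 {F : Type} [Field F] [Fintype F] (hq : Fintype.card F % 9 = 2 ∨ Fintype.card F % 9 = 5) {n : ℕ}
    (hn : n = 4 ∨ n = 5) : ¬ 81 ∣ Nat.card (MulAut (Matrix.ProjectiveSpecialLinearGroup (Fin n) F)) := by
  obtain ⟨p, f, hp, hf, hF⟩ := exists_pf (F := F)
  have : Fact p.Prime := ⟨hp⟩
  have hq1 := Fintype.one_lt_card (α := F)
  obtain ⟨e2, e3, e4, e5⟩ := mod_aux hq1 hq
  have h3q : ¬ 3 ∣ Fintype.card F := by omega
  have h1 := S0813.result (F := F) p f hf hF n (by omega) (fun h => by omega)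
  rw [if_neg (by omega), card_pgl (by omega)] at h1
  rw [h1, mul_assoc, mul_comm 2, mul_assoc, mul_comm _ 2]
  refine not_dvd_mul (k := 4) (by norm_num) ?_
  refine mul_not' (not_three_f hF (by omega)) ?_
  rcases hn with rfl | rfl
  · norm_num
    rw [Finset.prod_range_succ, Finset.prod_range_succ, Finset.prod_range_succ, Finset.prod_range_zero, one_mul]
    norm_num
    exact ((vq h3q 6).mul ((e2.mul e3).mul e4)).not_dvd (k := 4) (by norm_num)
  · norm_num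
    rw [Finset.prod_range_succ, Finset.prod_range_succ, Finset.prod_range_succ, Finset.prod_range_succ,
      Finset.prod_range_zero, one_mul]
    norm_num
    exact ((vq h3q 10).mul (((e2.mul e3).mul e4).mul e5)).not_dvd (k := 4) (by norm_num)

theorem exists_pf' {F : Type*} [Field F] [Fintype F] {q : ℕ} (hF : Fintype.card F = q ^ 2) :
    ∃ (p f : ℕ), p.Prime ∧ 1 ≤ f ∧ q = p ^ f := by
  have h1 : IsPrimePow (q ^ 2) := hF ▸ Fintype.isPrimePow_card_of_field
  have h2 : IsPrimePow q := (isPrimePow_pow_iff (by norm_num)).1 h1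
  obtain ⟨p, m, hp, hm, h⟩ := (isPrimePow_nat_iff q).1 h2
  exact ⟨p, m, hp, hm, h.symm⟩

theorem one_lt_q {F : Type*} [Field F] [Fintype F] {q : ℕ} (hF : Fintype.card F = q ^ 2) : 1 < q := by
  by_contra h
  have : Fintype.card F ≤ 1 := by rw [hF]; nlinarith
  exact absurd (Fintype.one_lt_card (α := F)) (by omega)

theorem card_mulAut_psu {F : Type} [Field F] [Fintype F] {q p f n : ℕ} (hF : Fintype.card F = q ^ 2) (hp : p.Prime)
    (hf : 1 ≤ f) (hq : q = p ^ f) (hn : 3 ≤ n) (h32 : ¬ (n = 3 ∧ q = 2)) :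
    Nat.card (MulAut (PSU n F q)) = f * (2 * (q ^ (n * (n - 1) / 2) *
      ∏ j ∈ Finset.range (n - 1), (if Even j then q ^ (j + 2) - 1 else q ^ (j + 2) + 1))) := by
  have : Fact p.Prime := ⟨hp⟩
  rw [S0815.result (F := F) p f hf hq hF n hn h32, ← H341.ThreeList.card_psu hF (by omega)]
  ring

theorem psu3 {F : Type} [Field F] [Fintype F] {q : ℕ} (hF : Fintype.card F = q ^ 2) (hq : ¬ 3 ∣ q)
    (hq2 : q ≠ 2) (h9 : ¬ 9 ∣ q + 1) (h : ¬ 27 ∣ Nat.card (PSU 3 F q)) : ¬ 81 ∣ Nat.card (MulAut (PSU 3 F q)) := by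
  obtain ⟨p, f, hp, hf, hqf⟩ := exists_pf' hF
  have hq1 := one_lt_q hF
  rw [card_mulAut_psu hF hp hf hqf (by norm_num) (fun h => hq2 h.2)]
  have h2 := H341.ThreeList.card_psu (F := F) hF (n := 3) (by norm_num)
  refine not_dvd_mul (k := 4) (by norm_num) ?_
  rw [Finset.prod_range_succ, Finset.prod_range_succ, Finset.prod_range_zero, one_mul] at h2 ⊢
  rw [if_pos (by decide), if_neg (by decide)] at h2 ⊢
  norm_num at h2 ⊢
  by_cases h3 : q % 3 = 2
  · refine mul_not' (not_three_f hqf (by omega)) ?_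
    have h9' : q % 9 = 2 ∨ q % 9 = 5 := by omega
    have e2 : V 2 (q ^ 3 + 1) := by
      apply V2
      have h27 : q % 27 = 2 ∨ q % 27 = 11 ∨ q % 27 = 20 ∨ q % 27 = 5 ∨ q % 27 = 14 ∨ q % 27 = 23 := by omega
      have : q ^ 3 % 27 = 8 ∨ q ^ 3 % 27 = 17 := by
        rw [Nat.pow_mod]; rcases h27 with h | h | h | h | h | h <;> rw [h] <;> norm_num
      omega
    have := (vq hq 3).mul ((mod_aux hq1 h9').1.mul e2)
    exact this.not_dvd (k := 4) (by norm_num)
  · have h4 : ¬ 3 ∣ q + 1 := by omega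
    rw [Nat.Coprime.gcd_eq_one ((Nat.Prime.coprime_iff_not_dvd Nat.prime_three).2 h4), one_mul] at h2
    rw [← h2]
    refine mul_not (fun h9f => h ?_) h
    rw [h2]
    exact dvd_mul_of_dvd_right (dvd_mul_of_dvd_left (pow_nine hqf h9f hf hq) _) _

theorem psu45 {F : Type} [Field F] [Fintype F] {q : ℕ} (hF : Fintype.card F = q ^ 2)
    (hq : q % 9 = 4 ∨ q % 9 = 7) {n : ℕ} (hn : n = 4 ∨ n = 5) : ¬ 81 ∣ Nat.card (MulAut (PSU n F q)) := by
  obtain ⟨p, f, hp, hf, hqf⟩ := exists_pf' hF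
  have hq1 := one_lt_q hF
  obtain ⟨e2, e3, e4, e5⟩ := mod_aux' hq1 hq
  have h3q : ¬ 3 ∣ q := by omega
  rw [card_mulAut_psu hF hp hf hqf (by omega) (by omega)]
  refine not_dvd_mul (k := 4) (by norm_num) ?_
  refine mul_not' (not_three_f hqf (by omega)) ?_
  rcases hn with rfl | rfl
  · rw [Finset.prod_range_succ, Finset.prod_range_succ, Finset.prod_range_succ, Finset.prod_range_zero, one_mul,
      if_pos (by decide), if_neg (by decide), if_pos (by decide)]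
    norm_num
    exact ((vq h3q 6).mul ((e2.mul e3).mul e4)).not_dvd (k := 4) (by norm_num)
  · rw [Finset.prod_range_succ, Finset.prod_range_succ, Finset.prod_range_succ, Finset.prod_range_succ,
      Finset.prod_range_zero, one_mul, if_pos (by decide), if_neg (by decide), if_pos (by decide),
      if_neg (by decide)]
    norm_num
    exact ((vq h3q 10).mul (((e2.mul e3).mul e4).mul e5)).not_dvd (k := 4) (by norm_num)

theorem psp4 {F : Type} [Field F] [Fintype F] (hq : ¬ 3 ∣ Fintype.card F) (hq4 : 4 ≤ Fintype.card F)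
    (h9 : ¬ 9 ∣ Fintype.card F ^ 2 - 1) : ¬ 81 ∣ Nat.card (MulAut (PSp 2 F)) := by
  obtain ⟨p, f, hp, hf, hF⟩ := exists_pf (F := F)
  have : Fact p.Prime := ⟨hp⟩
  have h1 := S0814.result (F := F) p f hf hF 2 le_rfl (fun _ => by rw [← hF]; omega)
  have h2 := H341.ThreeList.card_psp (F := F) (m := 2) (by norm_num)
  rw [← hF] at h1
  rw [h1, mul_comm _ f, mul_assoc, mul_assoc, h2]
  have h9' : Fintype.card F % 9 = 2 ∨ Fintype.card F % 9 = 5 ∨ Fintype.card F % 9 = 4 ∨ Fintype.card F % 9 = 7 := by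
    have h5 : 1 ≤ Fintype.card F ^ 2 := Nat.one_le_pow _ _ (by omega)
    have h6 : Fintype.card F ^ 2 % 9 ≠ 1 := by omega
    by_contra hne
    have h7 : Fintype.card F % 9 = 1 ∨ Fintype.card F % 9 = 8 := by omega
    apply h6
    rw [Nat.pow_mod]
    rcases h7 with h | h <;> rw [h]
  have h10 : ¬ 3 ∣ f := not_three_f hF (by omega)
  refine mul_not' h10 ?_
  have e : V 1 (Fintype.card F ^ 2 - 1) ∧ V 1 (Fintype.card F ^ 4 - 1) := by
    rcases h9' with h | h | h | h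
    · exact ⟨(mod_aux (by omega) (Or.inl h)).1, (mod_aux (by omega) (Or.inl h)).2.2.1⟩
    · exact ⟨(mod_aux (by omega) (Or.inr h)).1, (mod_aux (by omega) (Or.inr h)).2.2.1⟩
    · exact ⟨(mod_aux' (by omega) (Or.inl h)).1, (mod_aux' (by omega) (Or.inl h)).2.2.1⟩
    · exact ⟨(mod_aux' (by omega) (Or.inr h)).1, (mod_aux' (by omega) (Or.inr h)).2.2.1⟩
  refine mul_not' ?_ ?_
  · split_ifs <;> norm_num
  · rw [Finset.prod_range_succ, Finset.prod_range_succ, Finset.prod_range_zero, one_mul]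
    norm_num
    exact ((vq hq 4).mul (e.1.mul e.2)).not_dvd (k := 4) (by norm_num)

theorem alt {n : ℕ} (h5 : 5 ≤ n) (h8 : n ≤ 8) : ¬ 81 ∣ Nat.card (MulAut ↥(alternatingGroup (Fin n))) := by
  by_cases h6 : n = 6
  · subst h6
    have : Fact (Nat.Prime 3) := ⟨Nat.prime_three⟩
    let F := GaloisField 3 2
    have : Fintype F := Fintype.ofFinite F
    have hF : Fintype.card F = 9 := by
      rw [← Nat.card_eq_fintype_card, GaloisField.card 3 2 (by norm_num)]; norm_num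
    obtain ⟨e⟩ := S0254.result (F := F) hF
    rw [← card_mulAut_congr e]
    have h1 := S0813.result (F := F) 3 2 (by norm_num) (by rw [hF]; norm_num) 2 le_rfl (by norm_num)
    rw [h1, card_pgl le_rfl, hF]
    norm_num
  · have h1 := Nat.card_congr (Equiv.ofBijective _ (S2119.result n (by omega) h6))
    rw [← h1, Nat.card_eq_fintype_card, Fintype.card_perm, Fintype.card_fin]
    have h7 : n = 5 ∨ n = 7 ∨ n = 8 := by omega
    rcases h7 with rfl | rfl | rfl <;> decide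

/-- the 3-part of the order of the automorphism group -/
theorem not_dvd_mulAut {S : Type u} [Group S] (h : H341.ThreeList.Kind S) (h27 : ¬ 27 ∣ Nat.card S) :
    ¬ 81 ∣ Nat.card (MulAut S) := by
  have h81 : ¬ 3 ^ 4 ∣ Nat.card S := fun h => h27 ((by norm_num : 27 ∣ 3 ^ 4).trans h)
  rcases h with ⟨n, h5, h8, ⟨e⟩⟩ | ⟨F, _, _, hq, ⟨e⟩⟩ | ⟨F, _, _, hq, h9, ⟨e⟩⟩ | ⟨F, _, _, hq, ⟨e⟩⟩ |
    ⟨F, _, _, hq, ⟨e⟩⟩ | ⟨F, _, _, q, hF, hq, hq2, h9, ⟨e⟩⟩ | ⟨F, _, _, q, hF, hq, ⟨e⟩⟩ |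
    ⟨F, _, _, q, hF, hq, ⟨e⟩⟩ | ⟨F, _, _, hq, hq4, h9, ⟨e⟩⟩ | h | h | h | h | h
  · rw [card_mulAut_congr e]
    exact alt h5 h8
  · rw [card_mulAut_congr e]
    exact psl2 hq (by rwa [← Nat.card_congr e.toEquiv])
  · rw [card_mulAut_congr e]
    exact psl3 hq h9 (by rwa [← Nat.card_congr e.toEquiv])
  · rw [card_mulAut_congr e]
    exact psl45 hq (Or.inl rfl)
  · rw [card_mulAut_congr e]
    exact psl45 hq (Or.inr rfl)
  · rw [card_mulAut_congr e]
    exact psu3 hF hq hq2 h9 (by rwa [← Nat.card_congr e.toEquiv])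
  · rw [card_mulAut_congr e]
    exact psu45 hF hq (Or.inl rfl)
  · rw [card_mulAut_congr e]
    exact psu45 hF hq (Or.inr rfl)
  · rw [card_mulAut_congr e]
    exact psp4 hq hq4 h9
  · exact of_out (k := 4) h S2060.result (by norm_num) h81
  · exact of_out (k := 4) h S2062.result (by norm_num) h81
  · exact of_out (k := 4) h S2063.result (by norm_num) h81
  · exact of_out (k := 4) h S2072.result (by norm_num) h81
  · exact of_out (k := 4) h S2065.result (by norm_num) h81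

end Cfsg.Agent.H344.OutA
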