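import Cfsg.Agent.H344.OutA
import Cfsg.Agent.TitsK.Inst
import Cfsg.Agent.TitsK.SheetT
import Cfsg.Agent.S2061
import Cfsg.Agent.S2064
import Cfsg.Agent.S2066
import Cfsg.Agent.S2068
import Cfsg.Agent.S2075
import Cfsg.Agent.S2077
import Cfsg.Agent.S2121
import Cfsg.Agent.S2128

/-!
# Outer automorphism groups of order prime to 3 (helper344)
-/

set_option autoImplicit false

namespace Cfsg.Agent.H344.OutB

open Cfsg OrdDiv List81 OutA

universe u

theorem three_mod {q : ℕ} (h3 : ¬ 3 ∣ q) (hq : 1 < q) (h9 : ¬ 9 ∣ q ^ 2 - 1) : q % 9 ≠ 0 ∧ q % 9 ≠ 1 ∧ q % 9 ≠ 8 := by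
  have h5 : 1 ≤ q ^ 2 := Nat.one_le_pow _ _ (by omega)
  refine ⟨by omega, fun h => h9 ?_, fun h => h9 ?_⟩
  · have : q ^ 2 % 9 = 1 := by rw [Nat.pow_mod, h]
    omega
  · have : q ^ 2 % 9 = 1 := by rw [Nat.pow_mod, h]
    omega

theorem g2 {F : Type} [Field F] [Fintype F] (h3 : 3 ≤ Fintype.card F) (hq : ¬ 3 ∣ Fintype.card F)
    (h9 : ¬ 9 ∣ Fintype.card F ^ 2 - 1) {S : Type u} [Group S] (e : Nonempty (S ≃* ↥(Lie.chevG2.group F)))
    {k : ℕ} (h : ¬ 3 ^ k ∣ Nat.card S) : ¬ 3 ^ k ∣ Nat.card (MulAut S) := by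
  obtain ⟨p, hp⟩ := CharP.exists F
  obtain ⟨f, hpp, hF⟩ := FiniteField.card F p
  have : Fact p.Prime := ⟨hpp⟩
  have h1 := S2121.result (F := F) p f hF (by rw [← hF]; exact h3)
  rw [if_neg (fun h => hq (by rw [hF, h]; exact dvd_pow_self 3 f.2.ne'))] at h1
  exact of_out e h1 (not_three_f hF (three_mod hq (by omega) h9)) h

theorem tf4 {F : Type} [Field F] [Fintype F] {m : ℕ} (hm : 1 ≤ m) (hF : Fintype.card F = 2 ^ (2 * m + 1))
    (h9 : ¬ 9 ∣ 2 ^ (2 * m + 1) + 1) {S : Type u} [Group S] (e : Nonempty (S ≃* ↥(Lie.twistedF4 F (2 ^ m))))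
    {k : ℕ} (h : ¬ 3 ^ k ∣ Nat.card S) : ¬ 3 ^ k ∣ Nat.card (MulAut S) := by
  refine of_out e (S2128.result (K := F) hm hF) (fun hd => h9 ?_) h
  obtain ⟨k, hk⟩ := hd
  obtain ⟨j, hj⟩ : ∃ j, k = 2 * j + 1 := ⟨k / 2, by omega⟩
  rw [hk, hj, pow_mul, pow_succ, pow_mul]
  norm_num
  have : 64 ^ j % 9 = 1 := by rw [Nat.pow_mod]; norm_num
  omega

theorem exists_data : ∃ (L : Type) (_ : Group L) (_ : Finite L) (D : TitsK.TData L),
    Nonempty (Lie.TitsGroup ≃* ↥D.T) := by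
  have hfin : Finite FourTwo.Base.LL := by infer_instance
  exact ⟨FourTwo.Base.LL, inferInstance, hfin, TitsK.tdata, TitsK.exists_equiv⟩

theorem of_index {G : Type*} [Group G] {X : Type*} [Group X] (e : Nonempty (G ≃* X))
    (hc : (MulAut.conj : X →* MulAut X).range.index ∣ 2) {k : ℕ} (h : ¬ 3 ^ k ∣ Nat.card G) :
    ¬ 3 ^ k ∣ Nat.card (MulAut G) := by
  refine of_out e rfl (fun h3 => ?_) h
  have := Nat.le_of_dvd (by norm_num) (h3.trans hc)
  omega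

theorem tits {S : Type u} [Group S] (h : Lie.IsoTits S) {k : ℕ} (h3 : ¬ 3 ^ k ∣ Nat.card S) :
    ¬ 3 ^ k ∣ Nat.card (MulAut S) := by
  obtain ⟨e⟩ := h
  obtain ⟨L, _, _, D, ⟨e'⟩⟩ := exists_data
  exact of_index ⟨e.trans e'⟩ D.index_inn h3

theorem psl3c {F : Type} [Field F] [Fintype F] (hF : Fintype.card F = 3) :
    ¬ 81 ∣ Nat.card (MulAut (Matrix.ProjectiveSpecialLinearGroup (Fin 3) F)) := by
  have : Fact (Nat.Prime 3) := ⟨Nat.prime_three⟩
  rw [S0813.result (F := F) 3 1 le_rfl (by rw [hF]; norm_num) 3 (by norm_num) (by norm_num), card_pgl (by norm_num),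
    hF, Finset.prod_range_succ, Finset.prod_range_succ, Finset.prod_range_zero]
  norm_num

theorem psu3c {F : Type} [Field F] [Fintype F] (hF : Fintype.card F = 3 ^ 2) :
    ¬ 81 ∣ Nat.card (MulAut (PSU 3 F 3)) := by
  rw [card_mulAut_psu hF Nat.prime_three le_rfl (by norm_num) (by norm_num) (by norm_num),
    Finset.prod_range_succ, Finset.prod_range_succ, Finset.prod_range_zero, if_pos (by decide), if_neg (by decide)]
  norm_num

end Cfsg.Agent.H344.OutB
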