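import Mathlib
import Cfsg.Agent.H344.AltDerB
import Cfsg.Agent.H895.SLT.ResCard

/-!
# S3571, degree six
-/

set_option autoImplicit false

namespace Cfsg.Agent.H344.AltDer

open MulAction Equiv Equiv.Perm

/-- the cycle `(0 1 2 3 4)` -/
def c0 : Perm (Fin 6) := swap 0 1 * swap 1 2 * swap 2 3 * swap 3 4

/-- two words -/
def w1 (e d : Perm (Fin 6)) : Perm (Fin 6) := d * (e * d * e⁻¹)
/-- two words -/
def w2 (e d : Perm (Fin 6)) : Perm (Fin 6) := e * d * e⁻¹ * d

/-- they are commuting distinct involutions -/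
def kl (e d : Perm (Fin 6)) : Bool :=
  decide (w1 e d * w1 e d = 1) && (decide (w2 e d * w2 e d = 1) && (decide (w1 e d ≠ 1) && (decide (w2 e d ≠ 1) &&
    (decide (w1 e d ≠ w2 e d) && decide (w1 e d * w2 e d = w2 e d * w1 e d)))))

set_option maxRecDepth 100000 in
theorem fix_of_inv : ∀ u : Perm (Fin 6), u * u = 1 → sign u = 1 → ∃ x, u x = x := by decide +kernel

set_option maxRecDepth 100000 in
theorem klein : ∀ d : Perm (Fin 6), d 5 = 5 → d * d * d = 1 → d ≠ 1 →
    kl c0 d = true ∨ kl (c0 * c0) d = true ∨ kl (c0⁻¹) d = true ∨ kl (c0⁻¹ * c0⁻¹) d = true := by decide +kernel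

theorem c0_trans : ∀ x y : Fin 6, x ≠ 5 → y ≠ 5 → ∃ j : Fin 5, (c0 ^ (j : ℕ)) x = y := by decide +kernel

theorem c0_five : c0 ^ 5 = 1 := by decide +kernel

/-- two commuting distinct involutions in a finite group -/
theorem four_dvd {X : Type*} [Group X] [Finite X] (M : Subgroup X) {a b : X} (ha : a ∈ M) (hb : b ∈ M)
    (ha2 : a * a = 1) (hb2 : b * b = 1) (ha1 : a ≠ 1) (hb1 : b ≠ 1) (hab : a ≠ b) (hc : a * b = b * a) :
    4 ∣ Nat.card M := by
  classical
  let K : Subgroup X :=
    { carrier := {1, a, b, a * b}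
      one_mem' := by simp
      mul_mem' := by
        have h1 : a * (a * b) = b := by rw [← mul_assoc, ha2, one_mul]
        have h2 : b * (a * b) = a := by rw [hc, ← mul_assoc, hb2, one_mul]
        have h3 : a * b * a = b := by rw [hc, mul_assoc, ha2, mul_one]
        have h4 : a * b * b = a := by rw [mul_assoc, hb2, mul_one]
        have h5 : a * b * (a * b) = 1 := by rw [← mul_assoc, h3, hb2]
        rintro x y (rfl | rfl | rfl | rfl) (rfl | rfl | rfl | rfl) <;>
          simp only [Set.mem_insert_iff, Set.mem_singleton_iff, mul_one, one_mul, ha2, hb2, h1, h2, h3, h4, h5,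
            true_or, or_true] <;> simp [hc]
      inv_mem' := by
        have h1 : a⁻¹ = a := inv_eq_of_mul_eq_one_left ha2
        have h2 : b⁻¹ = b := inv_eq_of_mul_eq_one_left hb2
        rintro x (rfl | rfl | rfl | rfl)
        · simp
        · rw [h1]; simp
        · rw [h2]; simp
        · rw [mul_inv_rev, h1, h2, ← hc]; simp }
  have hK : K ≤ M := by
    rintro x (rfl | rfl | rfl | rfl)
    · exact M.one_mem
    · exact ha
    · exact hb
    · exact M.mul_mem ha hb
  have hcard : Nat.card K = 4 := by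
    have h1 : (K : Set X) = (({1, a, b, a * b} : Finset X) : Set X) := by
      simp [K]
    have h2 : Nat.card K = (({1, a, b, a * b} : Finset X) : Set X).ncard := by
      rw [← h1]; rfl
    rw [h2, Set.ncard_coe_finset]
    have h3 : a ≠ a * b := fun h => hb1 (by rwa [eq_comm, mul_eq_left] at h)
    have h4 : b ≠ a * b := fun h => ha1 (by rwa [eq_comm, mul_eq_right] at h)
    have h5 : (1 : X) ≠ a * b := fun h => hab (by
      have := eq_inv_of_mul_eq_one_left h.symm
      rw [this]
      exact (eq_inv_of_mul_eq_one_left hb2).symm)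
    rw [Finset.card_insert_of_notMem, Finset.card_insert_of_notMem, Finset.card_insert_of_notMem,
      Finset.card_singleton]
    · simpa using h4
    · simp only [Finset.mem_insert, Finset.mem_singleton, not_or]; exact ⟨hab, h3⟩
    · simp only [Finset.mem_insert, Finset.mem_singleton, not_or]; exact ⟨ha1.symm, hb1.symm, h5⟩
  rw [← hcard]
  exact Subgroup.card_dvd_of_le hK

theorem type_five {c : Perm (Fin 6)} (ho : orderOf c = 5) : c.cycleType = {5} := by
  obtain ⟨j, hj⟩ := cycleType_prime_order (σ := c) (by rw [ho]; norm_num)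
  rw [ho] at hj
  have hsum : 5 * (j + 1) ≤ 6 := by
    have h := c.sum_cycleType
    have h2 : c.support.card ≤ 6 := by
      simpa using Finset.card_le_univ c.support
    rw [hj, Multiset.sum_replicate, smul_eq_mul] at h
    omega
  have hj0 : j = 0 := by omega
  rw [hj0] at hj
  exact hj

theorem order_c0 : orderOf c0 = 5 := by
  have : Fact (Nat.Prime 5) := ⟨Nat.prime_five⟩
  apply orderOf_eq_prime c0_five
  decide

theorem six_sub_aux (M : Subgroup (Perm (Fin 6))) (hM : M ≤ alternatingGroup (Fin 6)) (hc : c0 ∈ M)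
    (h3 : 3 ∣ Nat.card M) : 4 ∣ Nat.card M := by
  classical
  by_cases hfix : ∀ g ∈ M, g 5 = 5
  · have hf3 : Fact (Nat.Prime 3) := ⟨Nat.prime_three⟩
    obtain ⟨⟨d, hd⟩, hdo⟩ := exists_prime_orderOf_dvd_card' 3 h3
    rw [Subgroup.orderOf_mk] at hdo
    have hd1 : d ≠ 1 := by
      rintro rfl
      rw [orderOf_one] at hdo
      norm_num at hdo
    have hd3 : d * d * d = 1 := by
      have h4 := pow_orderOf_eq_one d
      rw [hdo, pow_succ, pow_two] at h4
      exact h4
    have key : ∀ e ∈ M, kl e d = true → 4 ∣ Nat.card M := by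
      intro e he hk
      simp only [kl, Bool.and_eq_true, decide_eq_true_eq] at hk
      obtain ⟨k1, k2, k3, k4, k5, k6⟩ := hk
      exact four_dvd M (a := w1 e d) (b := w2 e d)
        (M.mul_mem hd (M.mul_mem (M.mul_mem he hd) (M.inv_mem he)))
        (M.mul_mem (M.mul_mem (M.mul_mem he hd) (M.inv_mem he)) hd) k1 k2 k3 k4 k5 k6
    rcases klein d (hfix d hd) hd3 hd1 with h | h | h | h
    · exact key _ hc h
    · exact key _ (M.mul_mem hc hc) h
    · exact key _ (M.inv_mem hc) h
    · exact key _ (M.mul_mem (M.inv_mem hc) (M.inv_mem hc)) h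
  · push Not at hfix
    obtain ⟨g, hg, hg5⟩ := hfix
    have hall : ∀ x : Fin 6, ∃ h : M, h • (5 : Fin 6) = x := by
      intro x
      by_cases hx : x = 5
      · exact ⟨1, by rw [one_smul, hx]⟩
      · obtain ⟨j, hj⟩ := c0_trans (g 5) x hg5 hx
        exact ⟨⟨c0 ^ (j : ℕ) * g, M.mul_mem (M.pow_mem hc _) hg⟩, hj⟩
    have htr : IsPretransitive M (Fin 6) := by
      refine ⟨fun x y => ?_⟩
      obtain ⟨a, rfl⟩ := hall x
      obtain ⟨b, rfl⟩ := hall y
      exact ⟨b * a⁻¹, by rw [mul_smul, inv_smul_smul]⟩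
    have hidx : ∀ x : Fin 6, Nat.card M = 6 * Nat.card (stabilizer M x) := by
      intro x
      rw [← Subgroup.card_mul_index (stabilizer M x), index_stabilizer_of_transitive,
        Nat.card_eq_fintype_card (α := Fin 6), Fintype.card_fin, mul_comm]
    have h2 : 2 ∣ Nat.card M := by rw [hidx 0]; exact Dvd.dvd.mul_right (by norm_num) _
    have hf2 : Fact (Nat.Prime 2) := ⟨Nat.prime_two⟩
    obtain ⟨⟨u, hu⟩, huo⟩ := exists_prime_orderOf_dvd_card' 2 h2
    have huo' := huo
    rw [Subgroup.orderOf_mk] at huo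
    obtain ⟨x, hx⟩ := fix_of_inv u (by rw [← pow_two, ← huo, pow_orderOf_eq_one]) (mem_alternatingGroup.1 (hM hu))
    have h4 : 2 ∣ Nat.card (stabilizer M x) := by
      have hx' : (⟨u, hu⟩ : M) ∈ stabilizer M x := hx
      have h5 : orderOf (⟨⟨u, hu⟩, hx'⟩ : stabilizer M x) = 2 := by
        rw [Subgroup.orderOf_mk, huo']
      rw [← h5]
      exact orderOf_dvd_natCard _
    rw [hidx x]
    obtain ⟨c, hc⟩ := h4
    rw [hc]
    exact ⟨3 * c, by ring⟩

/-- subgroups of `A₆` of order divisible by `15` have order divisible by `4` -/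
theorem six_sub (M : Subgroup (Perm (Fin 6))) (hM : M ≤ alternatingGroup (Fin 6)) (h5 : 5 ∣ Nat.card M)
    (h3 : 3 ∣ Nat.card M) : 4 ∣ Nat.card M := by
  have hf5 : Fact (Nat.Prime 5) := ⟨Nat.prime_five⟩
  obtain ⟨⟨c, hc⟩, hco⟩ := exists_prime_orderOf_dvd_card' 5 h5
  rw [Subgroup.orderOf_mk] at hco
  have h1 : IsConj c c0 := by
    rw [isConj_iff_cycleType_eq, type_five hco, type_five order_c0]
  obtain ⟨x, hx⟩ := isConj_iff.1 h1
  have hcard : Nat.card (M.map (MulAut.conj x).toMonoidHom) = Nat.card M :=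
    (Nat.card_congr (M.equivMapOfInjective _ (MulAut.conj x).injective).toEquiv).symm
  rw [← hcard]
  apply six_sub_aux
  · rintro _ ⟨g, hg, rfl⟩
    exact (inferInstance : (alternatingGroup (Fin 6)).Normal).conj_mem g (hM hg) x
  · exact ⟨c, hc, hx⟩
  · rw [hcard]; exact h3

section

variable {G Ω : Type*} [Group G] [Finite G] [MulAction G Ω] [FaithfulSMul G Ω] [Finite Ω]

omit [Finite G] in
theorem card_six (T : Subgroup G) (hT : T.Normal) (hTc : Subgroup.centralizer (T : Set G) = ⊥)
    (eT : ↥T ≃* ↥(alternatingGroup (Fin 6))) : Nat.card G ∣ 1440 := by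
  have hinj : Function.Injective (MulAut.conjNormal : G →* MulAut T) := by
    rw [injective_iff_map_eq_one]
    intro x hx
    have h1 : x ∈ Subgroup.centralizer (T : Set G) := by
      rw [Subgroup.mem_centralizer_iff]
      intro t ht
      have h2 := congrArg Subtype.val (DFunLike.congr_fun hx ⟨t, ht⟩)
      rw [MulAut.conjNormal_apply] at h2
      exact (mul_inv_eq_iff_eq_mul.1 h2).symm
    rwa [hTc, Subgroup.mem_bot] at h1
  have h1 : Nat.card (MulAut T) = 1440 := by
    rw [Nat.card_congr (MulAut.congr eT).toEquiv, Cfsg.Agent.H895.SLT.card_aut_a6]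
  rw [← h1]
  exact Subgroup.card_dvd_of_injective _ hinj

theorem main_six (T : Subgroup G) (hT : T.Normal) (hTc : Subgroup.centralizer (T : Set G) = ⊥)
    (eT : ↥T ≃* ↥(alternatingGroup (Fin 6))) (hprim : MulAction.IsPreprimitive G Ω) (hΩ : 2 ≤ Nat.card Ω)
    (r : ℕ) (hr : r.Prime) (hrd : r ∣ Nat.card Ω) (hmax : ∀ s : ℕ, s.Prime → s ∣ Nat.card Ω → s ≤ r) :
    ∃ g : G, orderOf g = r ∧ ∀ ω : Ω, g • ω ≠ ω := by
  classical
  have hnt : Nontrivial Ω := Finite.one_lt_card_iff_nontrivial.1 (by omega)
  obtain ⟨ω⟩ : Nonempty Ω := inferInstance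
  have hcA : Nat.card (alternatingGroup (Fin 6)) = 360 := by
    rw [nat_card_alternatingGroup, Nat.card_eq_fintype_card, Fintype.card_fin]; rfl
  have hcT : Nat.card T = 360 := by rw [Nat.card_congr eT.toEquiv, hcA]
  have hcG := card_six T hT hTc eT
  set H := stabilizer G ω with hH
  have hGn : Nat.card G = Nat.card Ω * Nat.card H := by
    rw [← Subgroup.card_mul_index H, hH, index_stabilizer_of_transitive, mul_comm]
  have hTb : T ≠ ⊥ := by
    rintro rfl
    rw [Subgroup.card_bot] at hcT
    norm_num at hcT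
  have htrT : IsPretransitive T Ω := by
    apply IsQuasiPreprimitive.isPretransitive_of_normal
    intro h1
    apply hTb
    apply eq_bot_of_le_stab ω T
    intro t ht
    have h2 : ω ∈ fixedPoints T Ω := by rw [h1]; trivial
    exact h2 ⟨t, ht⟩
  set M := stabilizer T ω with hM
  have hTn : Nat.card Ω * Nat.card M = 360 := by
    rw [← hcT, ← Subgroup.card_mul_index M, hM, index_stabilizer_of_transitive, mul_comm]
  have hr5 : r ≤ 5 := by
    have h1 : r ∣ 360 := hrd.trans (Dvd.intro _ hTn)
    have h2 : r ∣ 2 ^ 3 * 3 ^ 2 * 5 := by norm_num; exact h1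
    rcases (hr.dvd_mul).1 h2 with h3 | h3
    · rcases (hr.dvd_mul).1 h3 with h4 | h4
      · have := Nat.le_of_dvd (by norm_num) (hr.dvd_of_dvd_pow h4); omega
      · have := Nat.le_of_dvd (by norm_num) (hr.dvd_of_dvd_pow h4); omega
    · exact Nat.le_of_dvd (by norm_num) h3
  by_cases h5 : 5 ∣ Nat.card Ω
  · have hr5' : r = 5 := le_antisymm hr5 (hmax 5 Nat.prime_five h5)
    subst hr5'
    apply of_not_dvd ω hr hrd
    intro h
    have h1 : 5 * 5 ∣ 1440 := (mul_dvd_mul h5 h).trans (hGn ▸ hcG)
    revert h1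
    decide
  · have h5M : 5 ∣ Nat.card M := by
      have h1 : 5 ∣ Nat.card Ω * Nat.card M := by rw [hTn]; norm_num
      exact (Nat.prime_five.dvd_mul.1 h1).resolve_left h5
    by_cases h3M : 3 ∣ Nat.card M
    · -- `|M| = 60`, `n = 6`
      have h4M : 4 ∣ Nat.card M := by
        have hc1 : Nat.card (((M.map eT.toMonoidHom).map (alternatingGroup (Fin 6)).subtype)) = Nat.card M := by
          rw [← Nat.card_congr (Subgroup.equivMapOfInjective _ _ (Subgroup.subtype_injective _)).toEquiv,
            ← Nat.card_congr (Subgroup.equivMapOfInjective M eT.toMonoidHom eT.injective).toEquiv]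
        rw [← hc1]
        apply six_sub
        · rintro _ ⟨g, -, rfl⟩
          exact g.2
        · rw [hc1]; exact h5M
        · rw [hc1]; exact h3M
      have h60 : 60 ∣ Nat.card M := by
        have h1 : 15 ∣ Nat.card M := Nat.Coprime.mul_dvd_of_dvd_of_dvd (by norm_num) h5M h3M
        exact Nat.Coprime.mul_dvd_of_dvd_of_dvd (m := 15) (n := 4) (by norm_num) h1 h4M
      obtain ⟨c, hc⟩ := h60
      have hnc : Nat.card Ω * c = 6 := by
        rw [hc] at hTn
        have : 60 * (Nat.card Ω * c) = 60 * 6 := by rw [← mul_assoc, mul_comm 60, mul_assoc, hTn]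
        exact Nat.eq_of_mul_eq_mul_left (by norm_num) this
      have hfact : 360 ∣ (Nat.card Ω).factorial := by
        have hinj : Function.Injective (MulAction.toPermHom T Ω) := MulAction.toPerm_injective
        rw [← hcT, ← Nat.card_perm]
        exact Subgroup.card_dvd_of_injective _ hinj
      have hn6 : Nat.card Ω = 6 := by
        have h1 : Nat.card Ω ∣ 6 := Dvd.intro _ hnc
        have h2 := Nat.le_of_dvd (by norm_num) h1
        generalize Nat.card Ω = n at *
        interval_cases n
        · revert hfact; decide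
        · revert hfact; decide
        · revert h1; decide
        · revert h1; decide
        · rfl
      have hr3 : r = 3 := by
        have h1 := hmax 3 Nat.prime_three (by rw [hn6]; norm_num)
        rw [hn6] at hrd
        interval_cases r
        · rfl
        · revert hrd; decide
        · revert hrd; decide
      subst hr3
      have e : Ω ≃ Fin 6 := Finite.equivFinOfCardEq hn6
      let φ : T →* Perm (Fin 6) := (e.permCongrHom.toMonoidHom).comp (MulAction.toPermHom T Ω)
      have hφ : Function.Injective φ := e.permCongrHom.injective.comp MulAction.toPerm_injective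
      have hrange : φ.range = alternatingGroup (Fin 6) := by
        apply Equiv.Perm.eq_alternatingGroup_of_index_eq_two
        have h1 := Subgroup.card_mul_index φ.range
        rw [← Nat.card_congr (MonoidHom.ofInjective hφ).toEquiv, hcT, Nat.card_perm, Nat.card_eq_fintype_card,
          Fintype.card_fin] at h1
        have h2 : (6 : ℕ).factorial = 720 := rfl
        omega
      obtain ⟨g, hg, hgo⟩ := Cfsg.Agent.H394.SqAlt.exists_full 6 3 Nat.prime_three (by norm_num) (by norm_num)
      obtain ⟨t, ht⟩ : (g : Perm (Fin 6)) ∈ φ.range := by rw [hrange]; exact g.2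
      refine ⟨t, ?_, fun ω' hω' => ?_⟩
      · rw [Subgroup.orderOf_coe, ← orderOf_injective φ hφ t, ht, Subgroup.orderOf_coe, hgo]
      · have h1 := Cfsg.Agent.H394.SqAlt.card_fixed_of_cycleType hg
        have h2 : e ω' ∈ Finset.univ.filter (fun x => (g : Perm (Fin 6)) x = x) := by
          rw [Finset.mem_filter]
          refine ⟨Finset.mem_univ _, ?_⟩
          rw [← ht]
          change e ((t : G) • (e.symm (e ω'))) = e ω'
          rw [e.symm_apply_apply, hω']
        have h3 := Finset.card_pos.2 ⟨_, h2⟩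
        omega
    · have h9 : 3 ∣ Nat.card Ω := by
        have h1 : 3 ∣ Nat.card Ω * Nat.card M := by rw [hTn]; norm_num
        exact (Nat.prime_three.dvd_mul.1 h1).resolve_right h3M
      have hr3 : r = 3 := by
        have h1 := hmax 3 Nat.prime_three h9
        interval_cases r
        · rfl
        · exact absurd hr (by norm_num)
        · exact absurd hrd h5
      subst hr3
      have hf3 : Fact (Nat.Prime 3) := ⟨Nat.prime_three⟩
      obtain ⟨t, ht⟩ := exists_prime_orderOf_dvd_card' (G := T) 3 (by rw [hcT]; norm_num)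
      refine ⟨t, by rw [Subgroup.orderOf_coe, ht], no_fix ω _ fun x hx => h3M ?_⟩
      have h1 : x⁻¹ * t * x ∈ T := by
        have := hT.conj_mem t t.2 x⁻¹
        rwa [inv_inv] at this
      have h2 : (⟨x⁻¹ * t * x, h1⟩ : T) ∈ M := hx
      have h3 : orderOf (⟨⟨x⁻¹ * t * x, h1⟩, h2⟩ : M) = 3 := by
        rw [Subgroup.orderOf_mk, Subgroup.orderOf_mk]
        have h3 := MulEquiv.orderOf_eq (MulAut.conj x⁻¹) (t : G)
        rw [MulAut.conj_apply, inv_inv, Subgroup.orderOf_coe, ht] at h3
        exact h3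
      rw [← h3]
      exact orderOf_dvd_natCard _

end

end Cfsg.Agent.H344.AltDer
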