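import Mathlib
import Cfsg.Agent.S0848

/-!
# Numerics for the characterization of `Alt(6)` by its elements of order three

The values of the irreducible characters at elements of order three, and the consequences of the
orthogonality relations and of the class multiplication constants.
-/

set_option autoImplicit false

namespace Cfsg.Agent.H344.AltSixNum

open Cfsg Cfsg.Agent.Characters.Core Cfsg.Agent.S0848

/-- a family of integers with square sum two. -/
theorem exists_two {ι : Type*} [Fintype ι] [DecidableEq ι] (m d : ι → ℤ)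
    (hd : ∀ i, 0 < d i) (h : ∑ i, m i ^ 2 = 2) (h0 : ∑ i, m i * d i = 0) :
    ∃ p q : ι, p ≠ q ∧ m p = 1 ∧ m q = -1 ∧ d p = d q ∧ (∀ i, i ≠ p → i ≠ q → m i = 0) ∧
      ∀ F : ι → ℤ, ∑ i, m i * F i = F p - F q := by
  obtain ⟨i1, hi1, h1, e1⟩ := exists_one m Finset.univ (by omega) (by omega)
  rw [h] at e1
  obtain ⟨i2, hi2, h2, e2⟩ := exists_one m (Finset.univ.erase i1) (by omega) (by omega)
  rw [e1] at e2
  have hz : ∀ i ∈ (Finset.univ.erase i1).erase i2, m i = 0 := by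
    intro i hi
    have := (Finset.sum_eq_zero_iff_of_nonneg (fun j _ => sq_nonneg (m j))).mp
      (e2.trans (by norm_num)) i hi
    exact pow_eq_zero_iff (two_ne_zero) |>.mp this
  have h21 : i2 ≠ i1 := Finset.ne_of_mem_erase hi2
  have key : ∀ F : ι → ℤ, ∑ i, m i * F i = m i1 * F i1 + m i2 * F i2 := by
    intro F
    rw [← Finset.add_sum_erase Finset.univ _ (Finset.mem_univ i1),
      ← Finset.add_sum_erase (Finset.univ.erase i1) _ hi2,
      Finset.sum_eq_zero (s := (Finset.univ.erase i1).erase i2)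
        (fun i hi => by rw [hz i hi]; simp)]
    ring
  have hz' : ∀ i, i ≠ i1 → i ≠ i2 → m i = 0 := by
    intro i h1 h2
    exact hz i (by simp [h1, h2])
  have hs := key d
  rw [h0] at hs
  have d1 := hd i1
  have d2 := hd i2
  rcases sq_eq_one_iff_of_side_cond h1 with a | a <;>
    rcases sq_eq_one_iff_of_side_cond h2 with b | b
  · rw [a, b] at hs; omega
  · refine ⟨i1, i2, h21.symm, a, b, by rw [a, b] at hs; omega, hz', fun F => ?_⟩
    rw [key F, a, b]; ring
  · refine ⟨i2, i1, h21, b, a, by rw [a, b] at hs; omega, fun i h1 h2 => hz' i h2 h1, fun F => ?_⟩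
    rw [key F, a, b]; ring
  · rw [a, b] at hs; omega

/-- the same for sums of complex numbers. -/
theorem sum_two {ι : Type*} [Fintype ι] [DecidableEq ι] (m : ι → ℤ) {p q : ι} (hpq : p ≠ q)
    (hp : m p = 1) (hq : m q = -1) (hz : ∀ i, i ≠ p → i ≠ q → m i = 0) (F : ι → ℚ) :
    ∑ i, (m i : ℚ) * F i = F p - F q := by
  rw [← Finset.add_sum_erase Finset.univ _ (Finset.mem_univ p),
    ← Finset.add_sum_erase (Finset.univ.erase p) _
      (show q ∈ Finset.univ.erase p by simp [hpq.symm]),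
    Finset.sum_eq_zero (s := (Finset.univ.erase p).erase q) (fun i hi => by
      rw [hz i (by simp only [Finset.mem_erase] at hi; exact hi.2.1)
        (by simp only [Finset.mem_erase] at hi; exact hi.1)]; simp), hp, hq]
  push_cast
  ring

/-- The case where the elements of `S` are only conjugate to their inverses. -/
theorem num_two {ι : Type*} [Fintype ι] [DecidableEq ι] (n : ℕ) (a b c : ι → ℤ) (d : ι → ℕ)
    (i0 : ι) (hd : ∀ i, 0 < d i) (hab : ∀ i, (3 : ℤ) ∣ b i - a i)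
    (haa : ∑ i, a i * a i = 9) (hbb : ∑ i, b i * b i = 9) (hab0 : ∑ i, a i * b i = 0)
    (hac : ∑ i, a i * c i = 0) (hbc : ∑ i, b i * c i = 0)
    (had : ∑ i, a i * (d i : ℤ) = 0) (hbd : ∑ i, b i * (d i : ℤ) = 0)
    (hdd : ∑ i, d i ^ 2 = n) (ha0 : a i0 = 1) (hb0 : b i0 = 1) (hd0 : d i0 = 1)
    (T1 : (n : ℚ) * ∑ i, (a i : ℚ) * b i * c i / d i = 81)
    (T2 : (n : ℚ) * ∑ i, (a i : ℚ) * a i * c i / d i = 0) : n ≤ 36 := by
  choose m hm using hab
  have hb : ∀ i, b i = a i + 3 * m i := fun i => by have := hm i; omega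
  have am : ∑ i, m i * a i = -3 := by
    have : ∑ i, a i * b i = ∑ i, a i * a i + 3 * ∑ i, m i * a i := by
      rw [Finset.mul_sum, ← Finset.sum_add_distrib]
      exact Finset.sum_congr rfl fun i _ => by rw [hb]; ring
    rw [haa, hab0] at this
    omega
  have mm : ∑ i, m i ^ 2 = 2 := by
    have : ∑ i, b i * b i = ∑ i, a i * a i + 6 * ∑ i, m i * a i + 9 * ∑ i, m i ^ 2 := by
      rw [Finset.mul_sum, Finset.mul_sum, ← Finset.sum_add_distrib, ← Finset.sum_add_distrib]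
      exact Finset.sum_congr rfl fun i _ => by rw [hb]; ring
    rw [haa, hbb, am] at this
    omega
  have md : ∑ i, m i * (d i : ℤ) = 0 := by
    have : ∑ i, b i * (d i : ℤ) = ∑ i, a i * (d i : ℤ) + 3 * ∑ i, m i * (d i : ℤ) := by
      rw [Finset.mul_sum, ← Finset.sum_add_distrib]
      exact Finset.sum_congr rfl fun i _ => by rw [hb]; ring
    rw [had, hbd] at this
    omega
  have mc : ∑ i, m i * c i = 0 := by
    have : ∑ i, b i * c i = ∑ i, a i * c i + 3 * ∑ i, m i * c i := by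
      rw [Finset.mul_sum, ← Finset.sum_add_distrib]
      exact Finset.sum_congr rfl fun i _ => by rw [hb]; ring
    rw [hac, hbc] at this
    omega
  obtain ⟨p, q, hpq, hp, hq, hdpq, hz, hF⟩ := exists_two m (fun i => (d i : ℤ))
    (fun i => by have := hd i; omega) mm md
  rw [hF] at am mc
  have hdpq' : d p = d q := by exact_mod_cast hdpq
  have T3 : (n : ℚ) * ∑ i, (m i : ℚ) * ((a i : ℚ) * c i / d i) = 27 := by
    have : (n : ℚ) * ∑ i, (a i : ℚ) * b i * c i / d i - (n : ℚ) * ∑ i, (a i : ℚ) * a i * c i / d i =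
        3 * ((n : ℚ) * ∑ i, (m i : ℚ) * ((a i : ℚ) * c i / d i)) := by
      rw [← mul_sub, ← Finset.sum_sub_distrib, mul_left_comm, Finset.mul_sum (a := (3 : ℚ))]
      congr 1
      refine Finset.sum_congr rfl fun i _ => ?_
      rw [hb]; push_cast; ring
    rw [T1, T2] at this
    linarith
  rw [sum_two m hpq hp hq hz, hdpq'] at T3
  have hcq : c p = c q := by omega
  have haq : a p = a q - 3 := by omega
  have hdq : (d q : ℚ) ≠ 0 := by exact_mod_cast (hd q).ne'
  rw [hcq, haq] at T3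
  have T4 : (n : ℤ) * (- c q) = 9 * d q := by
    have : (n : ℚ) * (- c q) = 9 * d q := by
      push_cast at T3
      field_simp at T3
      linarith
    exact_mod_cast this
  have hdq1 := hd q
  have hn : 2 * d q ^ 2 + 1 ≤ n := by
    have hi0p : i0 ≠ p := by
      rintro rfl
      have := hb i0
      rw [ha0, hb0, hp] at this
      omega
    have hi0q : i0 ≠ q := by
      rintro rfl
      have := hb i0
      rw [ha0, hb0, hq] at this
      omega
    rw [← hdd, ← Finset.add_sum_erase Finset.univ _ (Finset.mem_univ i0),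
      ← Finset.add_sum_erase (Finset.univ.erase i0) _
        (show p ∈ Finset.univ.erase i0 by simp [hi0p.symm]),
      ← Finset.add_sum_erase ((Finset.univ.erase i0).erase p) _
        (show q ∈ (Finset.univ.erase i0).erase p by simp [hi0q.symm, hpq.symm]), hd0, hdpq']
    have : 0 ≤ ∑ i ∈ ((Finset.univ.erase i0).erase p).erase q, d i ^ 2 := Nat.zero_le _
    omega
  have hc1 : 1 ≤ - c q := by
    by_contra hcon
    push Not at hcon
    have : (n : ℤ) * (- c q) ≤ 0 := mul_nonpos_of_nonneg_of_nonpos (by positivity) (by omega)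
    omega
  have hn2 : (n : ℤ) ≤ 9 * d q := by
    rw [← T4]
    nlinarith
  have hdq4 : d q ≤ 4 := by
    by_contra hcon
    push Not at hcon
    have h1 : (n : ℤ) ≥ 2 * (d q : ℤ) ^ 2 + 1 := by exact_mod_cast hn
    have h2 : (5 : ℤ) ≤ d q := by exact_mod_cast hcon
    nlinarith
  omega

/-- Arithmetic of the second case. -/
theorem arith (n D : ℕ) (d1 d2 d3 : ℕ) (e1 e2 e3 : ℤ) (h1 : e1 = 1 ∨ e1 = -1)
    (h2 : e2 = 1 ∨ e2 = -1) (h3 : e3 = 1 ∨ e3 = -1)
    (hn : (n : ℚ) * (1 - 2 / D + e1 / d1 + e2 / d2 + e3 / d3) = 162)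
    (hs : 1 + (D : ℤ) + e1 * d1 + e2 * d2 + e3 * d3 = 0)
    (hsq : 1 + 2 * D ^ 2 + d1 ^ 2 + d2 ^ 2 + d3 ^ 2 ≤ n)
    (hD : (9 : ℤ) ∣ (D : ℤ) + 4) (m1 : (9 : ℤ) ∣ (d1 : ℤ) - e1) (m2 : (9 : ℤ) ∣ (d2 : ℤ) - e2)
    (m3 : (9 : ℤ) ∣ (d3 : ℤ) - e3) (p1 : 1 < d1) (p2 : 1 < d2) (p3 : 1 < d3) : n = 360 := by
  have hD5 : 5 ≤ D := by omega
  have b1 : 8 ≤ d1 := by rcases h1 with rfl | rfl <;> omega
  have b2 : 8 ≤ d2 := by rcases h2 with rfl | rfl <;> omega
  have b3 : 8 ≤ d3 := by rcases h3 with rfl | rfl <;> omega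
  have g : ∀ (d : ℕ) (e : ℤ), 8 ≤ d → (e = 1 ∨ e = -1) → -(1 / 8 : ℚ) ≤ e / d := by
    intro d e hd he
    have hd' : (8 : ℚ) ≤ d := by exact_mod_cast hd
    rcases he with rfl | rfl
    · have : (0 : ℚ) ≤ ((1 : ℤ) : ℚ) / d := by positivity
      linarith
    · push_cast
      rw [neg_div]
      have : (1 : ℚ) / d ≤ 1 / 8 := one_div_le_one_div_of_le (by norm_num) hd'
      linarith
  have g1 := g d1 e1 b1 h1
  have g2 := g d2 e2 b2 h2
  have g3 := g d3 e3 b3 h3
  have gD : (2 : ℚ) / D ≤ 2 / 5 := by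
    have : (5 : ℚ) ≤ D := by exact_mod_cast hD5
    rw [div_le_div_iff₀ (by linarith) (by norm_num)]
    linarith
  have hn720 : n ≤ 720 := by
    have h0 : (0 : ℚ) ≤ n := by positivity
    have : (n : ℚ) * (9 / 40) ≤ 162 := by
      rw [← hn]
      apply mul_le_mul_of_nonneg_left _ h0
      linarith
    have : (n : ℚ) ≤ 720 := by linarith
    exact_mod_cast this
  have cD : D = 5 ∨ D = 14 := by
    have : D ≤ 18 := by nlinarith
    omega
  have u1 : d1 ≤ 26 := by nlinarith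
  have u2 : d2 ≤ 26 := by nlinarith
  have u3 : d3 ≤ 26 := by nlinarith
  have hn0 : (n : ℚ) = 162 / (1 - 2 / D + e1 / d1 + e2 / d2 + e3 / d3) := by
    have : (1 - 2 / D + e1 / d1 + e2 / d2 + e3 / d3 : ℚ) ≠ 0 := by
      intro h
      rw [h] at hn
      norm_num at hn
    rw [eq_div_iff this]
    exact hn
  have c1 : (e1 = 1 ∧ (d1 = 10 ∨ d1 = 19)) ∨ (e1 = -1 ∧ (d1 = 8 ∨ d1 = 17 ∨ d1 = 26)) := by
    rcases h1 with rfl | rfl <;> omega
  have c2 : (e2 = 1 ∧ (d2 = 10 ∨ d2 = 19)) ∨ (e2 = -1 ∧ (d2 = 8 ∨ d2 = 17 ∨ d2 = 26)) := by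
    rcases h2 with rfl | rfl <;> omega
  have c3 : (e3 = 1 ∧ (d3 = 10 ∨ d3 = 19)) ∨ (e3 = -1 ∧ (d3 = 8 ∨ d3 = 17 ∨ d3 = 26)) := by
    rcases h3 with rfl | rfl <;> omega
  have hnz : ((n : ℤ) : ℚ) = n := by norm_cast
  rcases cD with rfl | rfl <;>
  rcases c1 with ⟨rfl, rfl | rfl⟩ | ⟨rfl, rfl | rfl | rfl⟩ <;>
  rcases c2 with ⟨rfl, rfl | rfl⟩ | ⟨rfl, rfl | rfl | rfl⟩ <;>
  rcases c3 with ⟨rfl, rfl | rfl⟩ | ⟨rfl, rfl | rfl | rfl⟩ <;>
  first
  | (exfalso; omega)
  | (norm_num at hn0; exact_mod_cast hn0)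

/-- three characters. -/
theorem exists_three' {ι : Type*} [Fintype ι] [DecidableEq ι] (m : ι → ℤ) (s : Finset ι)
    (h : ∑ i ∈ s, m i ^ 2 = 3) :
    ∃ i1 ∈ s, ∃ i2 ∈ s, ∃ i3 ∈ s, i2 ≠ i1 ∧ i3 ≠ i1 ∧ i3 ≠ i2 ∧ (m i1 = 1 ∨ m i1 = -1) ∧
      (m i2 = 1 ∨ m i2 = -1) ∧ (m i3 = 1 ∨ m i3 = -1) ∧
      ∀ i ∈ s, i ≠ i1 → i ≠ i2 → i ≠ i3 → m i = 0 := by
  obtain ⟨i1, hi1, h1, e1⟩ := exists_one m s (by omega) (by omega)
  rw [h] at e1
  obtain ⟨i2, hi2, h2, e2⟩ := exists_one m (s.erase i1) (by omega) (by omega)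
  rw [e1] at e2
  obtain ⟨i3, hi3, h3, e3⟩ := exists_one m ((s.erase i1).erase i2) (by omega) (by omega)
  rw [e2] at e3
  have hz : ∀ i ∈ ((s.erase i1).erase i2).erase i3, m i = 0 := by
    intro i hi
    have := (Finset.sum_eq_zero_iff_of_nonneg (fun j _ => sq_nonneg (m j))).mp
      (e3.trans (by norm_num)) i hi
    exact pow_eq_zero_iff (two_ne_zero) |>.mp this
  simp only [Finset.mem_erase] at hi2 hi3 hz
  exact ⟨i1, hi1, i2, hi2.2, i3, hi3.2.2, hi2.1, hi3.2.1, hi3.1,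
    sq_eq_one_iff_of_side_cond h1, sq_eq_one_iff_of_side_cond h2, sq_eq_one_iff_of_side_cond h3,
    fun i hi a b c => hz i ⟨c, b, a, hi⟩⟩

/-- The case of two classes of elements of order three. -/
theorem num_four {ι : Type*} [Fintype ι] [DecidableEq ι] (n : ℕ) (a b : ι → ℤ) (d : ι → ℕ)
    (i0 : ι) (hd : ∀ i, 0 < d i) (hab : ∀ i, (3 : ℤ) ∣ a i - b i)
    (haa : ∑ i, a i * a i = 9) (hbb : ∑ i, b i * b i = 9) (hab0 : ∑ i, a i * b i = 0)
    (had : ∑ i, a i * (d i : ℤ) = 0) (hbd : ∑ i, b i * (d i : ℤ) = 0)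
    (hdd : ∑ i, d i ^ 2 = n) (ha0 : a i0 = 1) (hb0 : b i0 = 1) (hd0 : d i0 = 1)
    (hd1 : ∀ i, d i = 1 → i = i0)
    (h9 : ∀ i, (9 : ℤ) ∣ (d i : ℤ) + 4 * a i + 4 * b i)
    (T1 : (n : ℚ) * ∑ i, (a i : ℚ) * a i * b i / d i = 162)
    (T2 : (81 : ℚ) ≤ (n : ℚ) * ∑ i, (a i : ℚ) * a i * a i / d i) : n ≤ 36 ∨ n = 360 := by
  choose m hm using hab
  have ha : ∀ i, a i = b i + 3 * m i := fun i => by have := hm i; omega
  have am : ∑ i, m i * a i = 3 := by
    have : ∑ i, a i * b i = ∑ i, a i * a i - 3 * ∑ i, m i * a i := by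
      rw [Finset.mul_sum, ← Finset.sum_sub_distrib]
      refine Finset.sum_congr rfl fun i _ => ?_
      have : b i = a i - 3 * m i := by rw [ha]; ring
      rw [this]; ring
    rw [haa, hab0] at this
    omega
  have mm : ∑ i, m i ^ 2 = 2 := by
    have : ∑ i, b i * b i = ∑ i, a i * a i - 6 * ∑ i, m i * a i + 9 * ∑ i, m i ^ 2 := by
      rw [Finset.mul_sum, Finset.mul_sum, ← Finset.sum_sub_distrib, ← Finset.sum_add_distrib]
      refine Finset.sum_congr rfl fun i _ => ?_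
      have : b i = a i - 3 * m i := by rw [ha]; ring
      rw [this]; ring
    rw [haa, hbb, am] at this
    omega
  have md : ∑ i, m i * (d i : ℤ) = 0 := by
    have : ∑ i, a i * (d i : ℤ) = ∑ i, b i * (d i : ℤ) + 3 * ∑ i, m i * (d i : ℤ) := by
      rw [Finset.mul_sum, ← Finset.sum_add_distrib]
      exact Finset.sum_congr rfl fun i _ => by rw [ha]; ring
    rw [had, hbd] at this
    omega
  obtain ⟨p, q, hpq, hp, hq, hdpq, hz, hF⟩ := exists_two m (fun i => (d i : ℤ))
    (fun i => by have := hd i; omega) mm md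
  rw [hF] at am
  have hdpq' : d p = d q := by exact_mod_cast hdpq
  have hbp : b p = a p - 3 := by have := ha p; rw [hp] at this; omega
  have hbq : b q = a q + 3 := by have := ha q; rw [hq] at this; omega
  have haq : a q = a p - 3 := by omega
  have hi0p : i0 ≠ p := by
    rintro rfl
    have := ha i0
    rw [ha0, hb0, hp] at this
    omega
  have hi0q : i0 ≠ q := by
    rintro rfl
    have := ha i0
    rw [ha0, hb0, hq] at this
    omega
  have hp1 : p ∈ Finset.univ.erase i0 := by simp [hi0p.symm]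
  have hq1 : q ∈ (Finset.univ.erase i0).erase p := by simp [hi0q.symm, hpq.symm]
  set s : Finset ι := ((Finset.univ.erase i0).erase p).erase q with hs
  have split : ∀ F : ι → ℤ, ∑ i, F i = F i0 + (F p + (F q + ∑ i ∈ s, F i)) := by
    intro F
    rw [← Finset.add_sum_erase Finset.univ _ (Finset.mem_univ i0),
      ← Finset.add_sum_erase (Finset.univ.erase i0) _ hp1,
      ← Finset.add_sum_erase ((Finset.univ.erase i0).erase p) _ hq1]
  have splitN : ∀ F : ι → ℕ, ∑ i, F i = F i0 + (F p + (F q + ∑ i ∈ s, F i)) := by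
    intro F
    rw [← Finset.add_sum_erase Finset.univ _ (Finset.mem_univ i0),
      ← Finset.add_sum_erase (Finset.univ.erase i0) _ hp1,
      ← Finset.add_sum_erase ((Finset.univ.erase i0).erase p) _ hq1]
  have splitQ : ∀ F : ι → ℚ, ∑ i, F i = F i0 + (F p + (F q + ∑ i ∈ s, F i)) := by
    intro F
    rw [← Finset.add_sum_erase Finset.univ _ (Finset.mem_univ i0),
      ← Finset.add_sum_erase (Finset.univ.erase i0) _ hp1,
      ← Finset.add_sum_erase ((Finset.univ.erase i0).erase p) _ hq1]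
  have hbs : ∀ i ∈ s, b i = a i := by
    intro i hi
    simp only [hs, Finset.mem_erase, Finset.mem_univ, and_true] at hi
    have := ha i
    rw [hz i hi.2.1 hi.1] at this
    omega
  have hsq := split (fun i => a i * a i)
  rw [haa] at hsq
  simp only [ha0, haq] at hsq
  have hsnn : 0 ≤ ∑ i ∈ s, a i * a i := Finset.sum_nonneg fun i _ => mul_self_nonneg _
  have hc : a p = 1 ∨ a p = 2 := by
    have h1 : 0 < a p := by nlinarith
    have h2 : a p < 3 := by nlinarith
    omega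
  have hdq1 := hd q
  have hdq0 : (d q : ℚ) ≠ 0 := by exact_mod_cast hdq1.ne'
  have hnd := splitN (fun i => d i ^ 2)
  rw [hdd, hd0, hdpq'] at hnd
  rcases hc with hc | hc
  · -- first sign
    left
    rw [hc] at haq hbp hsq
    rw [haq] at hbq
    have T3 : (n : ℚ) * ∑ i, (m i : ℚ) * ((a i : ℚ) * a i / d i) =
        ((n : ℚ) * ∑ i, (a i : ℚ) * a i * a i / d i - 162) / 3 := by
      rw [← T1, ← mul_sub, ← Finset.sum_sub_distrib, mul_div_assoc, Finset.sum_div]
      congr 1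
      refine Finset.sum_congr rfl fun i _ => ?_
      have : (m i : ℚ) = (a i - b i) / 3 := by rw [ha]; push_cast; ring
      rw [this]; ring
    rw [sum_two m hpq hp hq hz, hdpq', hc, haq] at T3
    have T4 : (n : ℚ) ≤ 9 * d q := by
      have : (n : ℚ) * (3 / d q) ≤ 27 := by
        have h1 : (n : ℚ) * (3 / d q) =
          - (n * (((1 : ℤ) : ℚ) * ((1 : ℤ) : ℚ) / d q - ((1 - 3 : ℤ) : ℚ) * ((1 - 3 : ℤ) : ℚ) / d q)) := by
          push_cast; field_simp; ring
        rw [h1, T3]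
        linarith
      rw [mul_div_assoc', div_le_iff₀ (by positivity)] at this
      linarith
    have T5 : n ≤ 9 * d q := by exact_mod_cast T4
    have : d q ≤ 4 := by
      by_contra hcon
      push Not at hcon
      have h0 : 0 ≤ ∑ i ∈ s, d i ^ 2 := Nat.zero_le _
      nlinarith
    omega
  · right
    rw [hc] at haq hbp hsq
    rw [haq] at hbq
    have h3 : ∑ i ∈ s, a i ^ 2 = 3 := by
      have : ∑ i ∈ s, a i ^ 2 = ∑ i ∈ s, a i * a i := Finset.sum_congr rfl fun i _ => sq _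
      rw [this]; omega
    obtain ⟨i1, hi1, i2, hi2, i3, hi3, h21, h31, h32, s1, s2, s3, hrest⟩ := exists_three' a s h3
    have hi2' : i2 ∈ s.erase i1 := Finset.mem_erase.mpr ⟨h21, hi2⟩
    have hi3' : i3 ∈ (s.erase i1).erase i2 :=
      Finset.mem_erase.mpr ⟨h32, Finset.mem_erase.mpr ⟨h31, hi3⟩⟩
    have hrest' : ∀ i ∈ ((s.erase i1).erase i2).erase i3, a i = 0 := by
      intro i hi
      simp only [Finset.mem_erase] at hi
      exact hrest i hi.2.2.2 hi.2.2.1 hi.2.1 hi.1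
    have e1 : ∑ i ∈ s, a i * (d i : ℤ) = a i1 * d i1 + (a i2 * d i2 + a i3 * d i3) := by
      rw [← Finset.add_sum_erase s _ hi1, ← Finset.add_sum_erase (s.erase i1) _ hi2',
        ← Finset.add_sum_erase ((s.erase i1).erase i2) _ hi3',
        Finset.sum_eq_zero (fun i hi => by rw [hrest' i hi]; simp), add_zero]
    have e2 : ∑ i ∈ s, (a i : ℚ) * a i * b i / d i =
        a i1 / d i1 + (a i2 / d i2 + a i3 / d i3) := by
      rw [← Finset.add_sum_erase s _ hi1, ← Finset.add_sum_erase (s.erase i1) _ hi2',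
        ← Finset.add_sum_erase ((s.erase i1).erase i2) _ hi3',
        Finset.sum_eq_zero (fun i hi => by rw [hrest' i hi]; simp), add_zero,
        hbs i1 hi1, hbs i2 hi2, hbs i3 hi3]
      rcases s1 with h | h <;> rcases s2 with h' | h' <;> rcases s3 with h'' | h'' <;>
        (rw [h, h', h'']; norm_num)
    have e3 : d i1 ^ 2 + (d i2 ^ 2 + d i3 ^ 2) ≤ ∑ i ∈ s, d i ^ 2 := by
      rw [← Finset.add_sum_erase s _ hi1, ← Finset.add_sum_erase (s.erase i1) _ hi2',
        ← Finset.add_sum_erase ((s.erase i1).erase i2) _ hi3']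
      have : 0 ≤ ∑ i ∈ ((s.erase i1).erase i2).erase i3, d i ^ 2 := Nat.zero_le _
      omega
    have k1 := split (fun i => a i * (d i : ℤ))
    rw [had, e1] at k1
    simp only [ha0, hd0, hc, haq, hdpq'] at k1
    have k2 := T1
    rw [splitQ, e2, ha0, hb0, hd0, hc, haq, hdpq', hbp, hbq] at k2
    have hne : ∀ i ∈ s, i ≠ i0 := by
      intro i hi
      simp only [hs, Finset.mem_erase, Finset.mem_univ, and_true] at hi
      exact hi.2.2
    have hlt : ∀ i ∈ s, 1 < d i := by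
      intro i hi
      have h1 := hd i
      have h2 : d i ≠ 1 := fun h => hne i hi (hd1 i h)
      omega
    have h9' : ∀ i ∈ s, (9 : ℤ) ∣ (d i : ℤ) - a i := by
      intro i hi
      have := h9 i
      rw [hbs i hi] at this
      omega
    refine arith n (d q) (d i1) (d i2) (d i3) (a i1) (a i2) (a i3) s1 s2 s3 ?_ ?_ ?_ ?_
      (h9' i1 hi1) (h9' i2 hi2) (h9' i3 hi3) (hlt i1 hi1) (hlt i2 hi2) (hlt i3 hi3)
    · rw [← k2]
      push_cast
      ring
    · push_cast at k1
      linarith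
    · omega
    · have := h9 q
      rw [haq, hbq] at this
      omega

end Cfsg.Agent.H344.AltSixNum
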