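import Mathlib
import Cfsg.Agent.H344.AltSixNum
import Cfsg.Agent.H344.Triangle
import Cfsg.Agent.BenderW3.TIGram
import Cfsg.Agent.S0497
import Cfsg.Agent.Characters.Linear

/-!
# The characterization of `Alt(6)` by its elements of order three: group theory
-/

set_option autoImplicit false

namespace Cfsg.Agent.H344.AltSix

open Cfsg Cfsg.Agent.Characters.Core Cfsg.Agent.S0848 Cfsg.Agent.BenderW3.TIGram
open Cfsg.Agent.H344.AltSixNum Cfsg.Agent.H344.Triangle Cfsg.Agent.Characters.ClassMul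
open scoped ComplexConjugate

universe u

variable {G : Type u} [Group G] [Finite G]

omit [Finite G] in
/-- The value of an irreducible character at a real element of order three. -/
theorem value3 {χ : G → ℂ} (hχ : IsIrrCharacter G χ) (x : G) (hx : x ^ 3 = 1)
    (hinv : IsConj x x⁻¹) :
    ∃ (d : ℕ) (a : ℤ), χ 1 = d ∧ χ x = a ∧ (3 : ℤ) ∣ (d : ℤ) - a := by
  have hreal : χ (x ^ 2) = χ x := by
    have h1 : x ^ 2 = x⁻¹ := by rw [pow_two]; exact mul_self_of_cube hx
    obtain ⟨g, hg⟩ := isConj_iff.mp hinv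
    rw [h1, ← hg]
    exact isIrr_isClassFunction hχ x g
  obtain ⟨n, ρ, hρ, rfl⟩ := hχ
  have hζ := Complex.isPrimitiveRoot_exp 3 (by norm_num)
  obtain ⟨e, he⟩ := Characters.Galois.exists_nat_coeffs ρ x (n := 3) (by norm_num) hx hζ
  set ζ := Complex.exp (2 * Real.pi * Complex.I / (3 : ℕ)) with hζdef
  have h0 := he 0
  have h1 := he 1
  have h2 := he 2
  simp only [Finset.sum_range_succ, Finset.sum_range_zero, pow_zero, mul_zero, mul_one, zero_add,
    zero_mul, pow_one, one_mul] at h0 h1 h2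
  have hz3 : ζ ^ 3 = 1 := hζ.pow_eq_one
  have hz4 : ζ ^ (2 * 2) = ζ := by rw [show 2 * 2 = 3 + 1 by norm_num, pow_add, hz3]; ring
  have hne : ζ ≠ 1 := hζ.ne_one (by norm_num)
  have hz0 : ζ ≠ 0 := hζ.ne_zero (by norm_num)
  have hsum : ζ ^ 2 = -1 - ζ := by
    have : (ζ - 1) * (ζ ^ 2 + ζ + 1) = 0 := by linear_combination hz3
    rcases mul_eq_zero.mp this with h | h
    · exact absurd (sub_eq_zero.mp h) hne
    · linear_combination h
  rw [hz4] at h2
  rw [h1, h2] at hreal
  have h12 : (e 1 : ℂ) = e 2 := by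
    have : ((e 1 : ℂ) - e 2) * (ζ * (ζ - 1)) = 0 := by linear_combination hreal
    rcases mul_eq_zero.mp this with h | h
    · exact sub_eq_zero.mp h
    · rcases mul_eq_zero.mp h with h | h
      · exact absurd h hz0
      · exact absurd (sub_eq_zero.mp h) hne
  have h12' : e 1 = e 2 := by exact_mod_cast h12
  refine ⟨e 0 + e 1 + e 2, (e 0 : ℤ) - e 1, ?_, ?_, ?_⟩
  · rw [h0]; push_cast; ring
  · rw [h1, ← h12', hsum]; push_cast; ring
  · rw [h12']; push_cast; omega

/-- The sum of the values of a character over a subgroup is a multiple of its order. -/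
theorem exists_sum (S : Subgroup G) {χ : G → ℂ} (hχ : IsCharacter G χ) [Fintype S] :
    ∃ k : ℕ, ∑ s : S, χ s = (Nat.card S : ℂ) * k := by
  obtain ⟨k, hk⟩ := classInner_isNat (isCharacter_comp S.subtype hχ) (isCharacter_one (G := S))
  refine ⟨k, ?_⟩
  rw [classInner_def] at hk
  rw [← hk]
  have hne : (Nat.card S : ℂ) ≠ 0 := by exact_mod_cast Nat.card_pos.ne'
  simp only [Pi.one_apply, map_one, mul_one]
  rw [← mul_assoc, mul_inv_cancel₀ hne, one_mul]
  rfl

/-! ### Semiregular groups of automorphisms of a group of order nine -/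

section auto

variable {K : Type*} [Group K] [Finite K] (A : Subgroup (MulAut K))

theorem card_dvd (hA : ∀ s ∈ A, ∀ u : K, u ≠ 1 → s u = u → s = 1) :
    Nat.card A ∣ Nat.card K - 1 := by
  classical
  have : Fintype K := Fintype.ofFinite K
  have : Finite (MulAut K) := inferInstance
  have : Fintype A := Fintype.ofFinite _
  let act : MulAction A {k : K // k ≠ 1} :=
    { smul := fun a k => ⟨(a : MulAut K) k, fun h => k.2 (by
        have := congrArg ((a : MulAut K)⁻¹) h
        simpa using this)⟩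
      one_smul := fun k => rfl
      mul_smul := fun a b k => rfl }
  have h1 := MulAction.card_eq_sum_card_group_div_card_stabilizer A {k : K // k ≠ 1}
  have h2 : ∀ ω : MulAction.orbitRel.Quotient A {k : K // k ≠ 1},
      Fintype.card A / Fintype.card (MulAction.stabilizer A ω.out) = Fintype.card A := by
    intro ω
    have : MulAction.stabilizer A ω.out = ⊥ := by
      rw [eq_bot_iff]
      intro a ha
      rw [MulAction.mem_stabilizer_iff] at ha
      have h3 : (a : MulAut K) (ω.out : {k : K // k ≠ 1}) = (ω.out : {k : K // k ≠ 1}) :=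
        congrArg Subtype.val ha
      exact Subtype.ext (hA a a.2 _ (ω.out : {k : K // k ≠ 1}).2 h3)
    rw [← Nat.card_eq_fintype_card (α := MulAction.stabilizer A ω.out), this,
      Subgroup.card_bot, Nat.div_one]
  rw [Finset.sum_congr rfl (fun ω _ => h2 ω), Finset.sum_const, smul_eq_mul] at h1
  have h3 : Fintype.card {k : K // k ≠ 1} = Nat.card K - 1 := by
    rw [Fintype.card_subtype_compl, Nat.card_eq_fintype_card]
    simp
  rw [← h3, h1, Nat.card_eq_fintype_card]
  exact dvd_mul_left _ _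

variable {A}

omit [Finite K] in
theorem inv_of_sq (hab : ∀ x y : K, x * y = y * x)
    (hA : ∀ s ∈ A, ∀ u : K, u ≠ 1 → s u = u → s = 1)
    {s : MulAut K} (hs : s ∈ A) (h1 : s ≠ 1) (h2 : s * s = 1) (u : K) : s u = u⁻¹ := by
  have h3 : s (u * s u) = u * s u := by
    rw [map_mul, ← MulAut.mul_apply, h2, MulAut.one_apply, hab]
  by_contra h
  have h4 : u * s u ≠ 1 := fun h5 => h (eq_inv_of_mul_eq_one_right h5)
  exact h1 (hA s hs _ h4 h3)

end auto

/-! ### The hypothesis -/

/-- `S` is elementary abelian of order nine, self-centralizing in the strong sense, and contains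
conjugates of all elements of order three. -/
structure Hyp (S : Subgroup G) : Prop where
  cent : ∀ k ∈ S, k ≠ 1 → Subgroup.centralizer {k} = S
  card : Nat.card S = 9
  exp : ∀ a ∈ S, a ^ 3 = 1
  all : ∀ z : G, z ^ 3 = 1 → z ≠ 1 → ∃ g : G, g * z * g⁻¹ ∈ S

variable {S : Subgroup G}

omit [Finite G] in
theorem Hyp.comm (h : Hyp S) {a b : G} (ha : a ∈ S) (hb : b ∈ S) : a * b = b * a :=
  congrArg Subtype.val (comm_of h.cent ⟨a, ha⟩ ⟨b, hb⟩)

omit [Finite G] in
theorem Hyp.mem_of_comm (h : Hyp S) {a z : G} (hz : z ∈ S) (hz1 : z ≠ 1) (haz : a * z = z * a) :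
    a ∈ S := by
  rw [← h.cent z hz hz1, Subgroup.mem_centralizer_singleton_iff]
  exact haz

omit [Finite G] in
theorem Hyp.H (h : Hyp S) : ∀ z : G, z ^ 3 = 1 → z ≠ 1 → ∀ a : G, a * z = z * a →
      a ^ 3 = 1 ∧ ∀ b : G, b * z = z * b → a * b = b * a := by
  intro z hz hz1 a ha
  obtain ⟨g, hg⟩ := h.all z hz hz1
  have hg1 : g * z * g⁻¹ ≠ 1 := by
    intro h1
    apply hz1
    have : z = g⁻¹ * (g * z * g⁻¹) * g := by group
    rw [this, h1]; group
  have key : ∀ c : G, c * z = z * c → g * c * g⁻¹ ∈ S := by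
    intro c hc
    apply h.mem_of_comm hg hg1
    calc g * c * g⁻¹ * (g * z * g⁻¹) = g * (c * z) * g⁻¹ := by group
      _ = g * (z * c) * g⁻¹ := by rw [hc]
      _ = _ := by group
  constructor
  · have h1 := h.exp _ (key a ha)
    rw [conj_pow, mul_inv_eq_one] at h1
    have h2 : a ^ 3 = g⁻¹ * (g * a ^ 3) := by group
    rw [h2, h1]; group
  · intro b hb
    have h1 := h.comm (key a ha) (key b hb)
    have h2 : g * (a * b) * g⁻¹ = g * (b * a) * g⁻¹ := by
      calc g * (a * b) * g⁻¹ = g * a * g⁻¹ * (g * b * g⁻¹) := by group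
        _ = g * b * g⁻¹ * (g * a * g⁻¹) := h1
        _ = _ := by group
    exact mul_left_cancel (mul_right_cancel h2)

/-- Pairs of elements of order three whose product is an element of `S`. -/
theorem Hyp.pair (h : Hyp S) {u v z : G} (hz : z ∈ S) (hz1 : z ≠ 1) (hu : u ^ 3 = 1) (hu1 : u ≠ 1)
    (hv : v ^ 3 = 1) (huv : u * v = z) : (u ∈ S ∧ v ∈ S) ∨ (IsConj u v ∧ IsConj u z⁻¹) := by
  rcases tri h.H hu hv (by rw [huv]; exact h.exp z hz) hu1 with h1 | h1
  · left
    constructor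
    · apply h.mem_of_comm hz hz1
      rw [← huv, mul_assoc, ← h1]
    · apply h.mem_of_comm hz hz1
      rw [← huv, ← mul_assoc, ← h1]
  · rw [huv] at h1
    exact Or.inr h1

/-- conversion of class multiplication constants into rational sums. -/
theorem T_eq [Fintype (IrrCharacter G)] (x y z : G) (a b c : IrrCharacter G → ℤ)
    (d : IrrCharacter G → ℕ) (hd : ∀ χ : IrrCharacter G, (χ : G → ℂ) 1 = d χ)
    (ha : ∀ χ : IrrCharacter G, (χ : G → ℂ) x = a χ)
    (hb : ∀ χ : IrrCharacter G, (χ : G → ℂ) y = b χ)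
    (hc : ∀ χ : IrrCharacter G, (χ : G → ℂ) z = c χ)
    (hcx : Nat.card (Subgroup.centralizer ({x} : Set G)) = 9)
    (hcy : Nat.card (Subgroup.centralizer ({y} : Set G)) = 9) :
    (Nat.card G : ℚ) * ∑ χ, (a χ : ℚ) * b χ * c χ / d χ =
      81 * (Nat.card {p : G × G // IsConj x p.1 ∧ IsConj y p.2 ∧ p.1 * p.2 = z} : ℚ) := by
  have h1 := card_conj_mul_conj x y z
  rw [card_conj_mul_conj_eq, hcx, hcy] at h1
  simp only [hd, ha, hb, hc, map_intCast] at h1
  have h2 : (((Nat.card G : ℚ) * ∑ χ, (a χ : ℚ) * b χ * c χ / d χ : ℚ) : ℂ) =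
      ((81 * (Nat.card {p : G × G // IsConj x p.1 ∧ IsConj y p.2 ∧ p.1 * p.2 = z} : ℚ) : ℚ) : ℂ) := by
    push_cast
    rw [← h1]
    push_cast
    ring
  exact_mod_cast h2

theorem orth [Fintype (IrrCharacter G)] (x y : G) (a b : IrrCharacter G → ℤ)
    (ha : ∀ χ : IrrCharacter G, (χ : G → ℂ) x = a χ)
    (hb : ∀ χ : IrrCharacter G, (χ : G → ℂ) y = b χ) :
    ∑ χ, a χ * b χ = Nat.card {g : G // g * x * g⁻¹ = y} := by
  have h := column_orth x y
  simp only [ha, hb, map_intCast] at h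
  exact_mod_cast h.symm

omit [Finite G] in
theorem cube_of_conj {x y : G} (h : IsConj x y) (hx : x ^ 3 = 1) : y ^ 3 = 1 := by
  obtain ⟨g, rfl⟩ := isConj_iff.mp h
  rw [conj_pow, hx]; group

omit [Finite G] in
theorem ne_one_of_conj {x y : G} (h : IsConj x y) (hx : x ≠ 1) : y ≠ 1 := by
  rintro rfl
  exact hx (isConj_one_left.mp h)

theorem sum_degree_sq [Fintype (IrrCharacter G)] (d : IrrCharacter G → ℕ)
    (hd : ∀ χ : IrrCharacter G, (χ : G → ℂ) 1 = d χ) : ∑ χ, d χ ^ 2 = Nat.card G := by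
  have h := column_orth (1 : G) 1
  have h1 : Nat.card {a : G // a * 1 * a⁻¹ = 1} = Nat.card G :=
    Nat.card_congr (Equiv.subtypeUnivEquiv (by intro a; group))
  rw [h1] at h
  simp only [hd, Complex.conj_natCast] at h
  have h2 : Nat.card G = ∑ χ, d χ * d χ := by exact_mod_cast h
  rw [h2]
  exact Finset.sum_congr rfl fun χ _ => sq _

/-- The case where elements of `S` are conjugate only to their inverses. -/
theorem Hyp.case_two (h : Hyp S) (hf : ∀ u ∈ S, ∀ v ∈ S, IsConj u v ↔ (v = u ∨ v = u⁻¹)) :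
    Nat.card G ≤ 36 := by
  classical
  have hfin : Finite (IrrCharacter G) := finite_irr
  have := Fintype.ofFinite (IrrCharacter G)
  -- the elements
  have hex : ∃ e ∈ S, e ≠ 1 := by
    by_contra hcon
    push Not at hcon
    have : S = ⊥ := by rw [eq_bot_iff]; intro s hs; exact hcon s hs
    have h9 := h.card
    rw [this, Subgroup.card_bot] at h9
    omega
  obtain ⟨e, he, he1⟩ := hex
  have hex2 : ∃ f ∈ S, f ≠ 1 ∧ f ≠ e ∧ f ≠ e⁻¹ := by
    by_contra hcon
    push Not at hcon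
    have h1 : (S : Set G) ⊆ {1, e, e⁻¹} := by
      intro s hs
      simp only [Set.mem_insert_iff, Set.mem_singleton_iff]
      by_cases h1 : s = 1
      · exact Or.inl h1
      · by_cases h2 : s = e
        · exact Or.inr (Or.inl h2)
        · exact Or.inr (Or.inr (hcon s hs h1 h2))
    have h2 := Set.ncard_le_ncard h1 (Set.toFinite _)
    have h3 : ({1, e, e⁻¹} : Set G).ncard ≤ 3 := by
      have k1 := Set.ncard_insert_le (1 : G) {e, e⁻¹}
      have k2 := Set.ncard_insert_le e {e⁻¹}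
      rw [Set.ncard_singleton] at k2
      omega
    have h4 : (S : Set G).ncard = 9 := by
      rw [← Nat.card_coe_set_eq]; exact h.card
    omega
  obtain ⟨f, hfS, hf1, hfe, hfe'⟩ := hex2
  have he3 := h.exp e he
  have hf3 := h.exp f hfS
  have eff : f * f = f⁻¹ := mul_self_of_cube hf3
  have eee : e * e = e⁻¹ := mul_self_of_cube he3
  have hcef : e * f = f * e := h.comm he hfS
  have hefS : e * f ∈ S := mul_mem he hfS
  have hef1 : e * f ≠ 1 := fun h1 => hfe' (eq_inv_of_mul_eq_one_right h1)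
  have n1 : e * f ≠ e := fun h1 => hf1 (mul_eq_left.mp h1)
  have n2 : e * f ≠ f := fun h1 => he1 (mul_eq_right.mp h1)
  have n3 : e * f ≠ e⁻¹ := by
    rw [← eee]; intro h1; exact hfe (mul_left_cancel h1)
  have n4 : e * f ≠ f⁻¹ := by
    rw [← eff]; intro h1; exact hfe (mul_right_cancel h1).symm
  have nfe : ¬ IsConj e f := by
    rw [hf e he f hfS]; push Not; exact ⟨hfe, hfe'⟩
  have nefe : ¬ IsConj e (e * f) := by
    rw [hf e he _ hefS]; push Not; exact ⟨n1, n3⟩
  have neff : ¬ IsConj f (e * f) := by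
    rw [hf f hfS _ hefS]; push Not; exact ⟨n2, n4⟩
  have hval : ∀ χ : IrrCharacter G, ∃ (d : ℕ) (a b c : ℤ), 0 < d ∧ (χ : G → ℂ) 1 = d ∧
      (χ : G → ℂ) e = a ∧ (χ : G → ℂ) f = b ∧ (χ : G → ℂ) (e * f) = c ∧ (3 : ℤ) ∣ b - a := by
    intro χ
    obtain ⟨d0, hd0, hd0'⟩ := isIrr_apply_one χ.2
    obtain ⟨d, a, hd, ha, hda⟩ := value3 χ.2 e he3
      ((hf e he _ (inv_mem he)).mpr (Or.inr rfl))
    obtain ⟨d', b, hd', hb, hdb⟩ := value3 χ.2 f hf3
      ((hf f hfS _ (inv_mem hfS)).mpr (Or.inr rfl))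
    obtain ⟨d'', c, -, hc, -⟩ := value3 χ.2 (e * f) (h.exp _ hefS)
      ((hf _ hefS _ (inv_mem hefS)).mpr (Or.inr rfl))
    have h1 : d = d0 := by
      have : (d : ℂ) = d0 := by rw [← hd, ← hd0']
      exact_mod_cast this
    have h2 : d' = d0 := by
      have : (d' : ℂ) = d0 := by rw [← hd', ← hd0']
      exact_mod_cast this
    refine ⟨d0, a, b, c, hd0, hd0', ha, hb, hc, ?_⟩
    rw [h1] at hda
    rw [h2] at hdb
    omega
  choose d a b c hd hχ1 hχe hχf hχef hdiv using hval
  have hχ1' : ∀ χ : IrrCharacter G, (χ : G → ℂ) 1 = ((d χ : ℤ) : ℂ) := fun χ => by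
    rw [hχ1]; norm_cast
  set i0 : IrrCharacter G := ⟨1, isIrr_one⟩ with hi0
  have a0 : a i0 = 1 := by
    have : (1 : ℂ) = a i0 := hχe i0
    exact_mod_cast this.symm
  have b0 : b i0 = 1 := by
    have : (1 : ℂ) = b i0 := hχf i0
    exact_mod_cast this.symm
  have d0 : d i0 = 1 := by
    have : (1 : ℂ) = d i0 := hχ1 i0
    exact_mod_cast this.symm
  have cent9 : ∀ z ∈ S, z ≠ 1 → Nat.card (Subgroup.centralizer ({z} : Set G)) = 9 := by
    intro z hz hz1
    rw [h.cent z hz hz1, h.card]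
  have self9 : ∀ z ∈ S, z ≠ 1 → (Nat.card {g : G // g * z * g⁻¹ = z} : ℤ) = 9 := by
    intro z hz hz1
    rw [card_fiber_conj z z (IsConj.refl z), cent9 z hz hz1]
    norm_num
  have zero : ∀ x y : G, ¬ IsConj x y → (Nat.card {g : G // g * x * g⁻¹ = y} : ℤ) = 0 := by
    intro x y hxy
    rw [card_eq_zero_of_not_conj x y hxy]
    norm_num
  have nc1 : ∀ z : G, z ≠ 1 → ¬ IsConj z 1 := fun z hz hc => hz (isConj_one_left.mp hc)
  -- the two counts
  have hinv : ∀ z ∈ S, ∀ w : G, IsConj z w → w ^ 3 = 1 := fun z hz w hw =>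
    cube_of_conj hw (h.exp z hz)
  have N1 : Nat.card {p : G × G // IsConj e p.1 ∧ IsConj f p.2 ∧ p.1 * p.2 = e * f} = 1 := by
    rw [Nat.card_eq_one_iff_exists]
    refine ⟨⟨(e, f), IsConj.refl e, IsConj.refl f, rfl⟩, ?_⟩
    rintro ⟨⟨u, v⟩, hu, hv, huv⟩
    simp only at hu hv huv
    rcases h.pair hefS hef1 (hinv e he u hu) (ne_one_of_conj hu he1) (hinv f hfS v hv) huv with
      ⟨huS, hvS⟩ | ⟨h1, h2⟩
    · rcases (hf e he u huS).mp hu with rfl | rfl
      · have : v = f := mul_left_cancel huv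
        subst this
        rfl
      · exfalso
        have h3 : v = e⁻¹ * f := by
          have : v = e * (e * f) := by rw [← huv]; group
          rw [this, ← mul_assoc, eee]
        rcases (hf f hfS v hvS).mp hv with h4 | h4
        · rw [h4] at h3
          have : e = 1 := by
            have h5 := mul_eq_right.mp h3.symm
            exact inv_eq_one.mp h5
          exact he1 this
        · rw [h4] at h3
          have h5 : e * f⁻¹ = f := by
            have : f⁻¹ = e⁻¹ * f := h3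
            rw [this, mul_inv_cancel_left]
          have : e = f * f := mul_inv_eq_iff_eq_mul.mp h5
          rw [eff] at this
          exact hfe' (by rw [this, inv_inv])
    · exfalso
      exact nfe (hu.trans (h1.trans hv.symm))
  have N2 : Nat.card {p : G × G // IsConj e p.1 ∧ IsConj e p.2 ∧ p.1 * p.2 = e * f} = 0 := by
    have : IsEmpty {p : G × G // IsConj e p.1 ∧ IsConj e p.2 ∧ p.1 * p.2 = e * f} := by
      constructor
      rintro ⟨⟨u, v⟩, hu, hv, huv⟩
      simp only at hu hv huv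
      rcases h.pair hefS hef1 (hinv e he u hu) (ne_one_of_conj hu he1) (hinv e he v hv) huv with
        ⟨huS, hvS⟩ | ⟨h1, h2⟩
      · rcases (hf e he u huS).mp hu with hu' | hu' <;>
          rcases (hf e he v hvS).mp hv with hv' | hv' <;> rw [hu', hv'] at huv
        · exact hfe (mul_left_cancel huv).symm
        · rw [mul_inv_cancel] at huv; exact hef1 huv.symm
        · rw [inv_mul_cancel] at huv; exact hef1 huv.symm
        · rw [inv_mul_inv_of_cube he3] at huv; exact n1 huv.symm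
      · have h3 := hu.trans h2
        rw [hf e he _ (inv_mem hefS)] at h3
        rcases h3 with h3 | h3
        · exact n3 (inv_eq_iff_eq_inv.mp h3)
        · exact n1 (inv_injective h3)
    exact Nat.card_of_isEmpty
  refine num_two (Nat.card G) a b c d i0 hd hdiv ?_ ?_ ?_ ?_ ?_ ?_ ?_ (sum_degree_sq d hχ1) a0 b0 d0
    ?_ ?_
  · rw [orth e e a a hχe hχe, self9 e he he1]
  · rw [orth f f b b hχf hχf, self9 f hfS hf1]
  · rw [orth e f a b hχe hχf, zero e f nfe]
  · rw [orth e (e * f) a c hχe hχef, zero _ _ nefe]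
  · rw [orth f (e * f) b c hχf hχef, zero _ _ neff]
  · rw [orth e 1 a (fun χ => (d χ : ℤ)) hχe hχ1', zero _ _ (nc1 e he1)]
  · rw [orth f 1 b (fun χ => (d χ : ℤ)) hχf hχ1', zero _ _ (nc1 f hf1)]
  · rw [T_eq e f (e * f) a b c d hχ1 hχe hχf hχef (cent9 e he he1) (cent9 f hfS hf1), N1]
    norm_num
  · rw [T_eq e e (e * f) a a c d hχ1 hχe hχe hχef (cent9 e he he1) (cent9 e he he1), N2]
    norm_num

omit [Finite G] in
/-- orbits of an element of order four whose square inverts `S`. -/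
theorem orbit_four (h : Hyp S) (n : G) (hn2 : ∀ s ∈ S, n * (n * s * n⁻¹) * n⁻¹ = s⁻¹)
    {u : G} (hu : u ∈ S) (hu1 : u ≠ 1) :
    u ≠ u⁻¹ ∧ n * u * n⁻¹ ≠ 1 ∧ n * u * n⁻¹ ≠ u ∧ n * u * n⁻¹ ≠ u⁻¹ := by
  have h1 : u ≠ u⁻¹ := by
    intro h2
    rw [← mul_self_of_cube (h.exp u hu)] at h2
    exact hu1 (mul_eq_left.mp h2.symm)
  refine ⟨h1, ?_, ?_, ?_⟩
  · intro h2
    apply hu1
    have : u = n⁻¹ * (n * u * n⁻¹) * n := by group
    rw [this, h2]; group
  · intro h2
    have h3 := hn2 u hu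
    rw [h2, h2] at h3
    exact h1 h3
  · intro h2
    have h3 := hn2 u hu
    have h4 : n * u⁻¹ * n⁻¹ = (n * u * n⁻¹)⁻¹ := by group
    rw [h2, h4, h2, inv_inv] at h3
    exact h1 h3

/-- The case where there are two classes of elements of order three. -/
theorem Hyp.case_four (h : Hyp S) (n : G) (hnS : ∀ s ∈ S, n * s * n⁻¹ ∈ S)
    (hn2 : ∀ s ∈ S, n * (n * s * n⁻¹) * n⁻¹ = s⁻¹)
    (hf : ∀ u ∈ S, ∀ v ∈ S,
      IsConj u v ↔ (v = u ∨ v = u⁻¹ ∨ v = n * u * n⁻¹ ∨ v = (n * u * n⁻¹)⁻¹))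
    (hlin : ∀ χ : IrrCharacter G, (χ : G → ℂ) 1 = 1 → χ = ⟨1, isIrr_one⟩) :
    Nat.card G ≤ 36 ∨ Nat.card G = 360 := by
  classical
  have hfin : Finite (IrrCharacter G) := finite_irr
  have := Fintype.ofFinite (IrrCharacter G)
  have : Fintype G := Fintype.ofFinite G
  -- the elements
  have hex : ∃ e ∈ S, e ≠ 1 := by
    by_contra hcon
    push Not at hcon
    have : S = ⊥ := by rw [eq_bot_iff]; intro s hs; exact hcon s hs
    have h9 := h.card
    rw [this, Subgroup.card_bot] at h9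
    omega
  obtain ⟨e, he, he1⟩ := hex
  obtain ⟨hee', hf1, hfe, hfe'⟩ := orbit_four h n hn2 he he1
  set f : G := n * e * n⁻¹ with hfdef
  have hfS : f ∈ S := hnS e he
  obtain ⟨hff', -, -, -⟩ := orbit_four h n hn2 hfS hf1
  have he3 := h.exp e he
  have hf3 := h.exp f hfS
  have eff : f * f = f⁻¹ := mul_self_of_cube hf3
  have eee : e * e = e⁻¹ := mul_self_of_cube he3
  have hcef : e * f = f * e := h.comm he hfS
  have hefS : e * f ∈ S := mul_mem he hfS
  have hef1 : e * f ≠ 1 := fun h1 => hfe' (eq_inv_of_mul_eq_one_right h1)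
  have n1 : e * f ≠ e := fun h1 => hf1 (mul_eq_left.mp h1)
  have n2 : e * f ≠ f := fun h1 => he1 (mul_eq_right.mp h1)
  have n3 : e * f ≠ e⁻¹ := by
    rw [← eee]; intro h1; exact hfe (mul_left_cancel h1)
  have n4 : e * f ≠ f⁻¹ := by
    rw [← eff]; intro h1; exact hfe (mul_right_cancel h1).symm
  have n5 : e * f ≠ (e * f)⁻¹ := (orbit_four h n hn2 hefS hef1).1
  have cinv : ∀ z ∈ S, IsConj z z⁻¹ := fun z hz =>
    (hf z hz _ (inv_mem hz)).mpr (Or.inr (Or.inl rfl))
  have nefe : ¬ IsConj e (e * f) := by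
    rw [hf e he _ hefS]; push Not; exact ⟨n1, n3, n2, n4⟩
  have hval : ∀ χ : IrrCharacter G, ∃ (d : ℕ) (a b : ℤ), 0 < d ∧ (χ : G → ℂ) 1 = d ∧
      (χ : G → ℂ) e = a ∧ (χ : G → ℂ) (e * f) = b ∧ (3 : ℤ) ∣ a - b := by
    intro χ
    obtain ⟨d0, hd0, hd0'⟩ := isIrr_apply_one χ.2
    obtain ⟨d, a, hd, ha, hda⟩ := value3 χ.2 e he3 (cinv e he)
    obtain ⟨d', b, hd', hb, hdb⟩ := value3 χ.2 (e * f) (h.exp _ hefS) (cinv _ hefS)
    have h1 : d = d0 := by
      have : (d : ℂ) = d0 := by rw [← hd, ← hd0']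
      exact_mod_cast this
    have h2 : d' = d0 := by
      have : (d' : ℂ) = d0 := by rw [← hd', ← hd0']
      exact_mod_cast this
    refine ⟨d0, a, b, hd0, hd0', ha, hb, ?_⟩
    rw [h1] at hda
    rw [h2] at hdb
    omega
  choose d a b hd hχ1 hχe hχef hdiv using hval
  have hχ1' : ∀ χ : IrrCharacter G, (χ : G → ℂ) 1 = ((d χ : ℤ) : ℂ) := fun χ => by
    rw [hχ1]; norm_cast
  set i0 : IrrCharacter G := ⟨1, isIrr_one⟩ with hi0
  have a0 : a i0 = 1 := by
    have : (1 : ℂ) = a i0 := hχe i0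
    exact_mod_cast this.symm
  have b0 : b i0 = 1 := by
    have : (1 : ℂ) = b i0 := hχef i0
    exact_mod_cast this.symm
  have d0 : d i0 = 1 := by
    have : (1 : ℂ) = d i0 := hχ1 i0
    exact_mod_cast this.symm
  have cent9 : ∀ z ∈ S, z ≠ 1 → Nat.card (Subgroup.centralizer ({z} : Set G)) = 9 := by
    intro z hz hz1
    rw [h.cent z hz hz1, h.card]
  have self9 : ∀ z ∈ S, z ≠ 1 → (Nat.card {g : G // g * z * g⁻¹ = z} : ℤ) = 9 := by
    intro z hz hz1
    rw [card_fiber_conj z z (IsConj.refl z), cent9 z hz hz1]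
    norm_num
  have zero : ∀ x y : G, ¬ IsConj x y → (Nat.card {g : G // g * x * g⁻¹ = y} : ℤ) = 0 := by
    intro x y hxy
    rw [card_eq_zero_of_not_conj x y hxy]
    norm_num
  have nc1 : ∀ z : G, z ≠ 1 → ¬ IsConj z 1 := fun z hz hc => hz (isConj_one_left.mp hc)
  have hinv : ∀ z ∈ S, ∀ w : G, IsConj z w → w ^ 3 = 1 := fun z hz w hw =>
    cube_of_conj hw (h.exp z hz)
  -- the sum over `S`
  set O1 : Finset G := {e, e⁻¹, f, f⁻¹} with hO1
  set O2 : Finset G := {e * f, (e * f)⁻¹, n * (e * f) * n⁻¹, (n * (e * f) * n⁻¹)⁻¹} with hO2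
  have c4 : ∀ u ∈ S, u ≠ 1 →
      ({u, u⁻¹, n * u * n⁻¹, (n * u * n⁻¹)⁻¹} : Finset G).card = 4 := by
    intro u hu hu1
    obtain ⟨k1, k2, k3, k4⟩ := orbit_four h n hn2 hu hu1
    obtain ⟨k5, -, -, -⟩ := orbit_four h n hn2 (hnS u hu) k2
    have k6 : u ≠ (n * u * n⁻¹)⁻¹ := fun hh => k4 (by rw [hh, inv_inv, ← hh])
    have k7 : u⁻¹ ≠ (n * u * n⁻¹)⁻¹ := fun hh => k3 (inv_injective hh).symm
    rw [Finset.card_insert_of_notMem, Finset.card_insert_of_notMem,
      Finset.card_insert_of_notMem, Finset.card_singleton]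
    · simpa using k5
    · simp only [Finset.mem_insert, Finset.mem_singleton, not_or]
      exact ⟨k4.symm, k7⟩
    · simp only [Finset.mem_insert, Finset.mem_singleton, not_or]
      exact ⟨k1, k3.symm, k6⟩
  have oS : ∀ u ∈ S, ∀ g ∈ ({u, u⁻¹, n * u * n⁻¹, (n * u * n⁻¹)⁻¹} : Finset G), g ∈ S := by
    intro u hu g hg
    simp only [Finset.mem_insert, Finset.mem_singleton] at hg
    have hk := hnS _ hu
    rcases hg with rfl | rfl | rfl | rfl
    · exact hu
    · exact inv_mem hu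
    · exact hk
    · exact inv_mem hk
  have oc : ∀ u ∈ S, ∀ g ∈ ({u, u⁻¹, n * u * n⁻¹, (n * u * n⁻¹)⁻¹} : Finset G), IsConj u g := by
    intro u hu g hg
    have hgS := oS u hu g hg
    simp only [Finset.mem_insert, Finset.mem_singleton] at hg
    rw [hf u hu g hgS]
    exact hg
  have dj : Disjoint O1 O2 := by
    rw [Finset.disjoint_left]
    intro g hg hg'
    exact nefe ((oc e he g hg).trans (oc _ hefS g hg').symm)
  have dj1 : Disjoint ({1} : Finset G) (O1 ∪ O2) := by
    rw [Finset.disjoint_singleton_left, Finset.mem_union, not_or]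
    exact ⟨fun hg => nc1 e he1 (oc e he 1 hg), fun hg => nc1 _ hef1 (oc _ hefS 1 hg)⟩
  have cO1 : O1.card = 4 := c4 e he he1
  have cO2 : O2.card = 4 := c4 _ hefS hef1
  have hset : ({1} ∪ (O1 ∪ O2) : Finset G) = Finset.univ.filter (fun g : G => g ∈ S) := by
    apply Finset.eq_of_subset_of_card_le
    · intro g hg
      rw [Finset.mem_filter]
      refine ⟨Finset.mem_univ _, ?_⟩
      rw [Finset.mem_union, Finset.mem_union, Finset.mem_singleton] at hg
      rcases hg with rfl | hg | hg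
      · exact one_mem _
      · exact oS e he g hg
      · exact oS _ hefS g hg
    · rw [Finset.card_union_of_disjoint dj1, Finset.card_union_of_disjoint dj,
        Finset.card_singleton, cO1, cO2, ← Fintype.card_subtype, ← Nat.card_eq_fintype_card]
      exact h.card.le
  have h9 : ∀ χ : IrrCharacter G, (9 : ℤ) ∣ (d χ : ℤ) + 4 * a χ + 4 * b χ := by
    intro χ
    have : Fintype S := Fintype.ofFinite S
    obtain ⟨k, hk⟩ := exists_sum S (isIrr_isCharacter χ.2)
    have e1 : ∑ s : S, (χ : G → ℂ) s = ∑ g ∈ Finset.univ.filter (fun g : G => g ∈ S), (χ : G → ℂ) g := by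
      symm
      apply Finset.sum_subtype
      intro x
      simp
    have v1 : ∀ g ∈ O1, (χ : G → ℂ) g = a χ := by
      intro g hg
      obtain ⟨c, hc⟩ := isConj_iff.mp (oc e he g hg)
      rw [← hχe, ← hc]
      exact isIrr_isClassFunction χ.2 e c
    have v2 : ∀ g ∈ O2, (χ : G → ℂ) g = b χ := by
      intro g hg
      obtain ⟨c, hc⟩ := isConj_iff.mp (oc _ hefS g hg)
      rw [← hχef, ← hc]
      exact isIrr_isClassFunction χ.2 (e * f) c
    rw [e1, ← hset, Finset.sum_union dj1, Finset.sum_union dj, Finset.sum_singleton,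
      Finset.sum_congr rfl v1, Finset.sum_congr rfl v2, Finset.sum_const, Finset.sum_const, cO1,
      cO2, hχ1, h.card] at hk
    refine ⟨k, ?_⟩
    have : (((d χ : ℤ) + 4 * a χ + 4 * b χ : ℤ) : ℂ) = ((9 * k : ℤ) : ℂ) := by
      push_cast
      push_cast at hk
      simp only [nsmul_eq_mul] at hk
      push_cast at hk
      linear_combination hk
    exact_mod_cast this
  -- the counts
  have memO : ∀ u ∈ S, IsConj e u → u = e ∨ u = e⁻¹ ∨ u = f ∨ u = f⁻¹ := fun u hu hc =>
    (hf e he u hu).mp hc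
  have N1 : Nat.card {p : G × G // IsConj e p.1 ∧ IsConj e p.2 ∧ p.1 * p.2 = e * f} = 2 := by
    have hfc : IsConj e f := (hf e he f hfS).mpr (Or.inr (Or.inr (Or.inl rfl)))
    have hb : Function.Bijective (fun i : Bool =>
        (if i then ⟨(e, f), IsConj.refl e, hfc, rfl⟩ else ⟨(f, e), hfc, IsConj.refl e, hcef.symm⟩ :
          {p : G × G // IsConj e p.1 ∧ IsConj e p.2 ∧ p.1 * p.2 = e * f})) := by
      constructor
      · intro i j hij
        cases i <;> cases j
        · rfl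
        · have := congrArg (fun p => p.1.1) hij
          exact absurd this hfe
        · have := congrArg (fun p => p.1.1) hij
          exact absurd this hfe.symm
        · rfl
      · rintro ⟨⟨u, v⟩, hu, hv, huv⟩
        simp only at hu hv huv
        rcases h.pair hefS hef1 (hinv e he u hu) (ne_one_of_conj hu he1) (hinv e he v hv) huv with
          ⟨huS, hvS⟩ | ⟨h1, h2⟩
        · rcases memO u huS hu with hu' | hu' | hu' | hu' <;>
            rcases memO v hvS hv with hv' | hv' | hv' | hv' <;> rw [hu', hv'] at huv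
          · exact absurd (mul_left_cancel huv).symm hfe
          · rw [mul_inv_cancel] at huv; exact absurd huv.symm hef1
          · exact ⟨true, Subtype.ext (Prod.ext hu'.symm hv'.symm)⟩
          · exact absurd (mul_left_cancel huv).symm hff'
          · rw [inv_mul_cancel] at huv; exact absurd huv.symm hef1
          · rw [inv_mul_inv_of_cube he3] at huv; exact absurd huv.symm n1
          · exact absurd (mul_right_cancel huv).symm hee'
          · exfalso
            apply n5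
            rw [mul_inv_rev, ← (Commute.inv_inv hcef : Commute e⁻¹ f⁻¹).eq]
            exact huv.symm
          · exact ⟨false, Subtype.ext (Prod.ext hu'.symm hv'.symm)⟩
          · rw [hcef] at huv
            exact absurd (mul_left_cancel huv).symm hee'
          · rw [eff] at huv; exact absurd huv.symm n4
          · rw [mul_inv_cancel] at huv; exact absurd huv.symm hef1
          · rw [hcef] at huv
            exact absurd (mul_right_cancel huv).symm hff'
          · exfalso
            apply n5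
            rw [mul_inv_rev]
            exact huv.symm
          · rw [inv_mul_cancel] at huv; exact absurd huv.symm hef1
          · rw [inv_mul_inv_of_cube hf3] at huv; exact absurd huv.symm n2
        · exfalso
          exact nefe ((hu.trans h2).trans (cinv _ hefS).symm)
    rw [← Nat.card_eq_of_bijective _ hb]
    simp
  have N2 : 1 ≤ Nat.card {p : G × G // IsConj e p.1 ∧ IsConj e p.2 ∧ p.1 * p.2 = e} := by
    have : Nonempty {p : G × G // IsConj e p.1 ∧ IsConj e p.2 ∧ p.1 * p.2 = e} :=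
      ⟨⟨(e⁻¹, e⁻¹), cinv e he, cinv e he, inv_mul_inv_of_cube he3⟩⟩
    exact Nat.card_pos
  refine num_four (Nat.card G) a b d i0 hd hdiv ?_ ?_ ?_ ?_ ?_ (sum_degree_sq d hχ1) a0 b0 d0
    ?_ h9 ?_ ?_
  · rw [orth e e a a hχe hχe, self9 e he he1]
  · rw [orth _ _ b b hχef hχef, self9 _ hefS hef1]
  · rw [orth e (e * f) a b hχe hχef, zero _ _ nefe]
  · rw [orth e 1 a (fun χ => (d χ : ℤ)) hχe hχ1', zero _ _ (nc1 e he1)]
  · rw [orth _ 1 b (fun χ => (d χ : ℤ)) hχef hχ1', zero _ _ (nc1 _ hef1)]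
  · intro χ hχ
    apply hlin
    rw [hχ1, hχ]
    norm_num
  · rw [T_eq e e (e * f) a a b d hχ1 hχe hχe hχef (cent9 e he he1) (cent9 e he he1), N1]
    norm_num
  · rw [T_eq e e e a a a d hχ1 hχe hχe hχe (cent9 e he he1) (cent9 e he he1)]
    have : (1 : ℚ) ≤ (Nat.card {p : G × G // IsConj e p.1 ∧ IsConj e p.2 ∧ p.1 * p.2 = e} : ℚ) := by
      exact_mod_cast N2
    linarith

end Cfsg.Agent.H344.AltSix
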