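import Cfsg.Agent.H344.KillA
import Cfsg.Agent.Cit.HexD4
import Cfsg.Agent.OddHalf.LongSL.Chev

/-!
# `³D₄(q)` and the property `KH` (helper344)

`SL₂(q³)` (the outer nodes) commutes with `SL₂(p)` (the highest root).
-/

set_option autoImplicit false

namespace Cfsg.Agent.H344.KillTw

open Cfsg Cfsg.Lie Subgroup Cfsg.Agent.H344.Wr
open Cfsg.Agent.ChevalleyStructure.D4Cols (xU)
open Cfsg.Agent.ChevalleyStructure.D4Fixed (exists_frob)
open Cfsg.Agent.Lib.SL2Mat
open Cfsg.Agent.GH.LowRankD4 (ou hi high_comm good hi_mem)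
open Cfsg.Agent.Cit.HexD4

variable {N : ℕ}

theorem sq_of_comm_neg {F : Type*} [Field F] {a : Matrix.SpecialLinearGroup (Fin 2) F}
    (h : ∀ s : Matrix.SpecialLinearGroup (Fin 2) F, a * s = s * a ∨ a * s = -(s * a)) : a ^ 2 = 1 := by
  apply H356.SLTorus.sq_of_center
  rw [mem_center_iff]
  have key : ∀ s : Matrix.SpecialLinearGroup (Fin 2) F, s.1 0 0 + s.1 1 1 = 2 → a * s = s * a := by
    intro s hs
    rcases h s with h1 | h1
    · exact h1
    · -- the trace
      have h2 : a * s * a⁻¹ = -s := by rw [h1, neg_mul, mul_inv_cancel_right]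
      have h3 : (a * s * a⁻¹).1.trace = s.1.trace := by
        change (a.1 * s.1 * (a⁻¹ : Matrix.SpecialLinearGroup (Fin 2) F).1).trace = _
        rw [Matrix.trace_mul_comm, ← mul_assoc]
        have : (a⁻¹ : Matrix.SpecialLinearGroup (Fin 2) F).1 * a.1 = 1 := by
          have := congrArg Subtype.val (inv_mul_cancel a)
          exact this
        rw [this, one_mul]
      rw [h2] at h3
      have h4 : (-s : Matrix.SpecialLinearGroup (Fin 2) F).1 = -s.1 := Matrix.SpecialLinearGroup.coe_neg s
      rw [h4, Matrix.trace_neg, Matrix.trace_fin_two, hs] at h3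
      have h5 : (2 : F) * 2 = 0 := by linear_combination -h3
      have h6 : (2 : F) = 0 := by
        rcases mul_eq_zero.1 h5 with h | h <;> exact h
      rw [h1]
      apply Subtype.ext
      rw [Matrix.SpecialLinearGroup.coe_neg]
      ext i j
      rw [Matrix.neg_apply]
      have h7 : ∀ t : F, -t = t := fun t => by linear_combination (-t) * h6
      exact h7 _
  intro g
  obtain ⟨x, y, z, w, rfl⟩ := exists_up_lo g
  have hu : ∀ t, a * up t = up t * a := fun t => key _ (by change (1 : F) + 1 = 2; norm_num)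
  have hl : ∀ t, a * lo t = lo t * a := fun t => key _ (by change (1 : F) + 1 = 2; norm_num)
  have e1 : up x * lo y * up z * lo w * a = a * (up x * lo y * up z * lo w) := by
    rw [mul_assoc _ (lo w), ← hl, ← mul_assoc, mul_assoc _ (up z), ← hu, ← mul_assoc, mul_assoc _ (lo y), ← hl,
      ← mul_assoc, ← hu]
    group
  exact e1

/-- an element of the image of `SL₂` commuting with the image -/
theorem sq_of_phi {F : Type*} [Field F] {r : ℕ} (hr : r < 24) {a : Matrix.SpecialLinearGroup (Fin 2) F}
    (h : ∀ s, ou (RingHom.id F) r hr a * ou (RingHom.id F) r hr s = ou (RingHom.id F) r hr s * ou (RingHom.id F) r hr a) :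
    a ^ 2 = 1 := by
  apply sq_of_comm_neg
  intro s
  have h1 : ou (RingHom.id F) r hr (a * s * (s * a)⁻¹) = 1 := by
    rw [map_mul, map_inv, map_mul, map_mul, h s, mul_inv_cancel]
  have h2 : ChevalleyStructure.SL2Hom.phi (good r hr) F (a * s * (s * a)⁻¹) = 1 := by
    have : Matrix.SpecialLinearGroup.map (RingHom.id F) (a * s * (s * a)⁻¹) = a * s * (s * a)⁻¹ := by
      apply Subtype.ext
      ext i j
      rfl
    rw [← this]
    exact h1
  rcases OddHalf.LongSL.Chev.phi_eq_one (good r hr) h2 with h3 | h3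
  · left
    exact mul_inv_eq_one.1 h3
  · right
    rw [mul_inv_eq_iff_eq_mul] at h3
    rw [h3, neg_one_mul]

theorem kill {K : Type} [Field K] [Fintype K] {q : ℕ} (hq : IsPrimePow q) (hK : Fintype.card K = q ^ 3) (h3 : ¬ 3 ∣ q)
    (h : KH N ↥(twistedD4 K q)) : False := by
  obtain ⟨φ, hφ⟩ := exists_frob hq hK
  obtain ⟨p, hp⟩ := CharP.exists K
  obtain ⟨f, hpr, hcard⟩ := FiniteField.card K p
  have := Fact.mk hpr
  let c : ZMod p →+* K := ZMod.castHom (dvd_refl p) K
  have hc : ∀ t, φ (c t) = c t := by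
    intro t
    have h1 : (φ : K →+* K).comp c = c := Subsingleton.elim _ _
    exact congrFun (congrArg DFunLike.coe h1) t
  have hp3 : ¬ 3 ∣ Fintype.card (ZMod p) := by
    rw [ZMod.card]
    intro hd
    have : p = 3 := ((Nat.prime_dvd_prime_iff_eq Nat.prime_three hpr).1 hd).symm
    subst this
    apply h3
    have h1 : 3 ∣ q ^ 3 := by rw [← hK, hcard]; exact dvd_pow_self 3 f.2.ne'
    exact Nat.prime_three.dvd_of_dvd_pow h1
  have hhi : ∀ b : Matrix.SpecialLinearGroup (Fin 2) (ZMod p), hi c b =
      ou (RingHom.id K) 23 (by decide) (Matrix.SpecialLinearGroup.map c b) := by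
    intro b
    change ChevalleyStructure.SL2Hom.phi (good 23 (by decide)) K _ =
      ChevalleyStructure.SL2Hom.phi (good 23 (by decide)) K _
    congr 1
  -- the commutations
  have q' : ∀ {r s : ℕ}, (r, s) ∈ GH.LowRankD4.highPairs → ∀ t u : K, Commute (xU r t) (xU s u) :=
    fun h t u => high_comm h t u
  have k18 : ∀ (θ : K →+* K) (g h : Matrix.SpecialLinearGroup (Fin 2) K), ou (RingHom.id K) 23 (by decide) g *
      ou θ 18 (by decide) h = ou θ 18 (by decide) h * ou (RingHom.id K) 23 (by decide) g := fun θ g h =>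
    comm_of (RingHom.id K) θ 23 0 18 5 (by decide) (by decide) (by decide +kernel) (by decide +kernel) (q' (by decide))
      (q' (by decide)) (q' (by decide)) (q' (by decide)) g h
  have k13 : ∀ (θ : K →+* K) (g h : Matrix.SpecialLinearGroup (Fin 2) K), ou (RingHom.id K) 23 (by decide) g *
      ou θ 13 (by decide) h = ou θ 13 (by decide) h * ou (RingHom.id K) 23 (by decide) g := fun θ g h =>
    comm_of (RingHom.id K) θ 23 0 13 10 (by decide) (by decide) (by decide +kernel) (by decide +kernel) (q' (by decide))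
      (q' (by decide)) (q' (by decide)) (q' (by decide)) g h
  have k12 : ∀ (θ : K →+* K) (g h : Matrix.SpecialLinearGroup (Fin 2) K), ou (RingHom.id K) 23 (by decide) g *
      ou θ 12 (by decide) h = ou θ 12 (by decide) h * ou (RingHom.id K) 23 (by decide) g := fun θ g h =>
    comm_of (RingHom.id K) θ 23 0 12 11 (by decide) (by decide) (by decide +kernel) (by decide +kernel) (q' (by decide))
      (q' (by decide)) (q' (by decide)) (q' (by decide)) g h
  have kk : ∀ g a : Matrix.SpecialLinearGroup (Fin 2) K, pb0 φ a * ou (RingHom.id K) 23 (by decide) g =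
      ou (RingHom.id K) 23 (by decide) g * pb0 φ a := by
    intro g a
    change ou _ 18 _ _ * ou φ 13 _ _ * ou (φ.comp φ) 12 _ _ * _ = _ * (ou _ 18 _ _ * ou φ 13 _ _ * ou (φ.comp φ) 12 _ _)
    rw [mul_assoc _ (ou (φ.comp φ) 12 _ _), ← k12, ← mul_assoc, mul_assoc _ (ou φ 13 _ _), ← k13, ← mul_assoc, ← k18]
    group
  have e1 : ∀ g h : Matrix.SpecialLinearGroup (Fin 2) K, ou φ 13 (by decide) g * ou (RingHom.id K) 18 (by decide) h =
      ou (RingHom.id K) 18 (by decide) h * ou φ 13 (by decide) g := fun g h =>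
    comm_of φ (RingHom.id K) 13 10 18 5 (by decide) (by decide) (by decide +kernel) (by decide +kernel)
      (Cfsg.Agent.GH.LowRankD4.pc' (by decide)) (Cfsg.Agent.GH.LowRankD4.pc' (by decide))
      (Cfsg.Agent.GH.LowRankD4.pc' (by decide)) (Cfsg.Agent.GH.LowRankD4.pc' (by decide)) g h
  have e2 : ∀ g h : Matrix.SpecialLinearGroup (Fin 2) K, ou (φ.comp φ) 12 (by decide) g *
      ou (RingHom.id K) 18 (by decide) h = ou (RingHom.id K) 18 (by decide) h * ou (φ.comp φ) 12 (by decide) g :=
    fun g h => comm_of (φ.comp φ) (RingHom.id K) 12 11 18 5 (by decide) (by decide) (by decide +kernel)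
      (by decide +kernel)
      (Cfsg.Agent.GH.LowRankD4.pc' (by decide)) (Cfsg.Agent.GH.LowRankD4.pc' (by decide))
      (Cfsg.Agent.GH.LowRankD4.pc' (by decide)) (Cfsg.Agent.GH.LowRankD4.pc' (by decide)) g h
  refine Blocks.two_blocks h (L := K) (L' := ZMod p)
    ((pb0 φ).codRestrict (twistedD4 K q) (fun g => pb0_mem hφ g))
    ((hi c).codRestrict (twistedD4 K q) (hi_mem c hφ hc)) (fun a b => ?_) (fun a b hab => ?_) ?_ hp3
  · apply Subtype.ext
    change pb0 φ a * hi c b = hi c b * pb0 φ a
    rw [hhi, kk]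
  · have h1 : pb0 φ a * hi c b = 1 := congrArg Subtype.val hab
    rw [hhi] at h1
    constructor
    · apply sq_of_phi (r := 18) (by decide)
      intro s
      have h2 : ou (RingHom.id K) 18 (by decide) a = (ou φ 13 (by decide) a * ou (φ.comp φ) 12 (by decide) a *
          ou (RingHom.id K) 23 (by decide) (Matrix.SpecialLinearGroup.map c b))⁻¹ := by
        rw [eq_inv_iff_mul_eq_one, ← mul_assoc, ← mul_assoc]
        exact h1
      rw [h2]
      have c1 : Commute (ou φ 13 (by decide) a) (ou (RingHom.id K) 18 (by decide) s) := e1 a s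
      have c2 : Commute (ou (φ.comp φ) 12 (by decide) a) (ou (RingHom.id K) 18 (by decide) s) := e2 a s
      have c3 : Commute (ou (RingHom.id K) 23 (by decide) (Matrix.SpecialLinearGroup.map c b))
        (ou (RingHom.id K) 18 (by decide) s) := k18 _ _ s
      exact ((c1.mul_left c2).mul_left c3).inv_left
    · have h3 : (Matrix.SpecialLinearGroup.map c b) ^ 2 = 1 := by
        apply sq_of_phi (r := 23) (by decide)
        intro s
        have h2 : ou (RingHom.id K) 23 (by decide) (Matrix.SpecialLinearGroup.map c b) = (pb0 φ a)⁻¹ := by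
          rw [eq_inv_iff_mul_eq_one, ← kk]
          exact h1
        rw [h2, inv_mul_eq_iff_eq_mul, ← mul_assoc, eq_mul_inv_iff_mul_eq, kk]
      have hinj : Function.Injective (Matrix.SpecialLinearGroup.map (n := Fin 2) c) := by
        intro x y hxy
        apply Subtype.ext
        ext i j
        have := congrFun (congrFun (congrArg Subtype.val hxy) i) j
        exact c.injective this
      apply hinj
      rw [map_pow, h3, map_one]
  · rw [hK]
    have h5 : q % 9 = 1 ∨ q % 9 = 2 ∨ q % 9 = 4 ∨ q % 9 = 5 ∨ q % 9 = 7 ∨ q % 9 = 8 := by omega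
    have h6 : q ^ 3 % 9 = 1 ∨ q ^ 3 % 9 = 8 := by
      rw [Nat.pow_mod]
      rcases h5 with h | h | h | h | h | h <;> rw [h] <;> norm_num
    omega

end Cfsg.Agent.H344.KillTw
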