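import Cfsg.Agent.OrdDiv.Table
import Cfsg.Agent.H344.KillC
import Cfsg.Agent.H344.KillAlt
import Cfsg.Agent.H344.KillTw
import Cfsg.Agent.H344.KillON
import Cfsg.Agent.H344.KillO
import Cfsg.Agent.H344.OutB
import Cfsg.Agent.S0822

/-!
# The known simple groups with the property `KH` (helper344)
-/

set_option autoImplicit false

namespace Cfsg.Agent.H344.Final

open Cfsg OrdDiv List81 Cfsg.Agent.H344.Wr

universe u

/-- the result of the elimination -/
inductive Res (K : Type u) [Group K] : Prop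
  | a9 (e : Nonempty (K ≃* ↥(alternatingGroup (Fin 9)))) : Res K
  | psp4 (F : Type) (_ : Field F) (_ : Fintype F) (hF : Fintype.card F = 3) (e : Nonempty (K ≃* PSp 2 F)) : Res K
  | psp6 (F : Type) (_ : Field F) (_ : Fintype F) (hF : Fintype.card F = 2) (e : Nonempty (K ≃* PSp 3 F)) : Res K
  | psl2 (F : Type) (_ : Field F) (_ : Fintype F) (hF : Fintype.card F = 27)
      (e : Nonempty (K ≃* Matrix.ProjectiveSpecialLinearGroup (Fin 2) F)) : Res K

theorem of_equiv {K : Type u} [Group K] [Finite K] {X : Type} [Group X] {N : ℕ} (h : KH N K) (e : Nonempty (K ≃* X)) :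
    KH N X := by
  obtain ⟨e⟩ := e
  exact h.of_injective e.symm.toMonoidHom e.symm.injective

theorem g2_not {F : Type} [Field F] [Fintype F] (hq : ¬ 3 ∣ Fintype.card F)
    (h9 : ¬ 9 ∣ Fintype.card F ^ 2 - 1) {S : Type u} [Group S] (e : Nonempty (S ≃* ↥(Lie.chevG2.group F))) :
    ¬ 3 ^ 4 ∣ Nat.card S := by
  obtain ⟨e⟩ := e
  have hq1 := Fintype.one_lt_card (α := F)
  obtain ⟨h90, h91, h98⟩ := OutB.three_mod hq hq1 h9
  rw [Nat.card_congr e.toEquiv, table.{0}.g2]
  have h2 : V 1 (Fintype.card F ^ 2 - 1) := V_sq (by omega)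
  have h3 : V 1 (Fintype.card F ^ 6 - 1) ∨ V 2 (Fintype.card F ^ 6 - 1) := by
    have e6 : Fintype.card F ^ 6 - 1 = (Fintype.card F ^ 3 - 1) * (Fintype.card F ^ 3 + 1) := by
      have := Nat.sq_sub_sq (Fintype.card F ^ 3) 1
      rw [one_pow, ← pow_mul] at this
      rw [this, mul_comm]
    right
    rw [e6]
    by_cases h31 : Fintype.card F % 3 = 1
    · exact V.mul (V_cube (by omega)) (V_odd' h31)
    · have := V.mul (V_odd (k := 3) (q := Fintype.card F) (by omega) (by decide)) (V_cube' (q := Fintype.card F) (by omega))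
      simpa using this
  rcases h3 with h3 | h3
  · exact (((V0 hq).pow 6).mul h2 |>.mul h3).not_dvd (by norm_num)
  · exact (((V0 hq).pow 6).mul h2 |>.mul h3).not_dvd (by norm_num)

theorem tf4_not {F : Type} [Field F] [Fintype F] {m : ℕ} (hm : 1 ≤ m) (hF : Fintype.card F = 2 ^ (2 * m + 1))
    (h9 : ¬ 9 ∣ 2 ^ (2 * m + 1) + 1) {S : Type u} [Group S] (e : Nonempty (S ≃* ↥(Lie.twistedF4 F (2 ^ m)))) :
    ¬ 3 ^ 4 ∣ Nat.card S := by
  obtain ⟨e⟩ := e
  rw [Nat.card_congr e.toEquiv, table.{0}.tf4 F m hm hF]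
  set q := 2 ^ (2 * m + 1) with hq
  have h2 : q % 3 = 2 := by
    rw [hq, pow_succ, pow_mul, Nat.mul_mod, Nat.pow_mod]
    norm_num
  have h25 : q % 9 = 2 ∨ q % 9 = 5 := by omega
  have a1 : V 0 (q ^ 12) := (V0 (by omega)).pow 12
  have a2 : V 0 (q - 1) := by
    have := V_odd (k := 1) h2 (by decide)
    rwa [pow_one] at this
  have a3 : V 2 (q ^ 3 + 1) := V_cube' h25
  have a4 : V 1 (q ^ 4 - 1) := V_four (by omega)
  have a5 : V 0 (q ^ 6 + 1) := V0 (by
    intro h
    have : q ^ 6 % 3 = 1 := by rw [Nat.pow_mod, h2]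
    omega)
  exact ((((a1.mul a2).mul a3).mul a4).mul a5).not_dvd (by norm_num)

theorem spor_not {S : Type u} [Group S] {x : Grp × ℕ} (hx : x ∈ spor) (h : Real x.1 S) (h4 : x.2 % 81 ≠ 0) :
    ¬ 3 ^ 4 ∣ Nat.card S := by
  rw [table.{u}.spor S x hx h]
  intro hd
  exact h4 (Nat.mod_eq_zero_of_dvd hd)

/-- **The elimination.** -/
theorem elim {N : ℕ} (hN : N ∣ 648) {K : Type u} [Group K] [Finite K] (h : KH N K) (hk : Kind K)
    (h27 : 27 ∣ Nat.card K) (hA : 81 ∣ Nat.card (MulAut K)) : Res K := by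
  cases hk with
  | alt n h9 h11 e =>
    obtain rfl | rfl | rfl : n = 9 ∨ n = 10 ∨ n = 11 := by omega
    · exact .a9 e
    · exact (KillAlt.alt10 (of_equiv h e)).elim
    · exact (KillAlt.alt11 (of_equiv h e)).elim
  | psl2 F i1 i2 hq e =>
    refine .psl2 F i1 i2 (KillA.psl2 (of_equiv h e) ?_) e
    obtain ⟨e'⟩ := e
    rwa [← Nat.card_congr e'.toEquiv]
  | psl3a F i1 i2 hq e => exact (KillA.psl3a (of_equiv h e) hq).elim
  | psl3b F i1 i2 hq e => exact (KillA.psl3b (of_equiv h e) hq).elim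
  | psl3c F i1 i2 hq e =>
    obtain ⟨e⟩ := e
    rw [OutA.card_mulAut_congr e] at hA
    exact (OutB.psl3c hq hA).elim
  | psl4a F i1 i2 hq e => exact (KillA.psl4a (of_equiv h e) hq).elim
  | psl45b F i1 i2 n hn hq e => exact (KillA.psl45b (by omega) (of_equiv h e) hq).elim
  | psl67 F i1 i2 n hn hq e => exact (KillC.psl67 hn hq (of_equiv h e) hN).elim
  | psu3a F i1 i2 q hF hq e => exact (KillA.psu3a hF (of_equiv h e) hq).elim
  | psu3b F i1 i2 q hF hq e => exact (KillA.psu3b hF (of_equiv h e) hq).elim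
  | psu3c F i1 i2 hF e =>
    obtain ⟨e⟩ := e
    rw [OutA.card_mulAut_congr e] at hA
    exact (OutB.psu3c hF hA).elim
  | psu4a F i1 i2 q hF hq e =>
    have h2 := KillA.psu4a hF (of_equiv h e) hq
    subst h2
    have : Fact (Nat.Prime 3) := ⟨Nat.prime_three⟩
    obtain ⟨e⟩ := e
    obtain ⟨e'⟩ := S0822.result (F := F) (K := ZMod 3) (by rw [hF]; norm_num) (ZMod.card 3)
    exact .psp4 (ZMod 3) inferInstance inferInstance (ZMod.card 3) ⟨e.trans e'⟩
  | psu45b F i1 i2 n q hn hF hq e => exact (KillA.psu45b hF (by omega) (of_equiv h e) hq).elim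
  | psu67 F i1 i2 n q hn hF hq e => exact (KillB.psu67 hF (by omega) (of_equiv h e) hq).elim
  | psp4a F i1 i2 hq e => exact .psp4 F i1 i2 hq e
  | psp4b F i1 i2 hq e => exact (KillA.psp4b (of_equiv h e) hq).elim
  | psp6 F i1 i2 hq e => exact .psp6 F i1 i2 (KillB.psp6 (of_equiv h e) hq) e
  | oodd F i1 i2 hq ho e => exact (KillO.oodd hq ho (of_equiv h e)).elim
  | ominus F i1 i2 a b hq hab e => exact (KillO.ominus hq hab (of_equiv h e)).elim
  | g2 F i1 i2 h3 hq h9 e => exact (OutB.g2 h3 hq h9 e (g2_not hq h9 e) hA).elim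
  | td4 F i1 i2 q hq hF h3 e => exact (KillTw.kill hq hF h3 (of_equiv h e)).elim
  | tf4 F i1 i2 m hm hF h9 e => exact (OutB.tf4 hm hF h9 e (tf4_not hm hF h9 e) hA).elim
  | tits h1 => exact (OutB.tits h1 (spor_not (x := (.tits, 17971200)) (by decide) h1 (by norm_num)) hA).elim
  | m12 h1 => exact (OutA.of_out h1 S2061.result (by norm_num)
      (spor_not (x := (.m12, 95040)) (by decide) h1 (by norm_num)) hA).elim
  | m24 h1 => exact (OutA.of_out h1 S2064.result (by norm_num)
      (spor_not (x := (.m24, 244823040)) (by decide) h1 (by norm_num)) hA).elim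
  | j2 h1 => exact (OutA.of_out h1 S2066.result (by norm_num)
      (spor_not (x := (.j2, 604800)) (by decide) h1 (by norm_num)) hA).elim
  | j4 h1 => exact (OutA.of_out h1 S2068.result (by norm_num)
      (spor_not (x := (.j4, 86775571046077562880)) (by decide) h1 (by norm_num)) hA).elim
  | he h1 => exact (OutA.of_out h1 S2075.result (by norm_num)
      (spor_not (x := (.he, 4030387200)) (by decide) h1 (by norm_num)) hA).elim
  | ru h1 => exact (OutA.of_out h1 S2077.result (by norm_num)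
      (spor_not (x := (.ru, 145926144000)) (by decide) h1 (by norm_num)) hA).elim
  | on h1 => exact (KillON.kill (of_equiv h h1)).elim

/-- **The elimination, from a known simple group.** -/
theorem elim_known {N : ℕ} (hN : N ∣ 648) {K : Type u} [Group K] [Finite K] (h : KH N K)
    (hk : IsKnownSimple' K) (hna : ¬ ∀ a b : K, a * b = b * a) (h3 : 3 ∣ Nat.card K) (h243 : ¬ 243 ∣ Nat.card K)
    (hA : 81 ∣ Nat.card (MulAut K)) : Res K := by
  by_cases h27 : 27 ∣ Nat.card K
  · exact elim hN h (kind_of_known table hk hna h27 h243) h27 hA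
  · exact (OutA.not_dvd_mulAut (H341.ThreeList.kind_of_known table hk hna h3 h27) h27 hA).elim

end Cfsg.Agent.H344.Final
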