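import Cfsg.Agent.H344.Reduce
import Cfsg.Agent.H344.Final

/-!
# The possible minimal normal subgroups (helper344)
-/

set_option autoImplicit false

namespace Cfsg.Agent.H344.Cases

open Subgroup Cfsg Cfsg.Agent.H344.Wr Cfsg.Agent.H344.Reduce

universe u

variable {G : Type u} [Group G]

theorem not_243 [Finite G] (S : Sylow 3 G) (hS : Nat.card (S : Subgroup G) = 81) : ¬ 243 ∣ Nat.card G := by
  intro h
  have : Fact (Nat.Prime 3) := ⟨Nat.prime_three⟩
  have h1 : ¬ 3 ∣ (S : Subgroup G).index := S.not_dvd_index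
  have h2 := (S : Subgroup G).card_mul_index
  rw [hS] at h2
  rw [← h2] at h
  exact h1 (Nat.dvd_of_mul_dvd_mul_left (by norm_num) (show 81 * 3 ∣ _ from h))

theorem dvd_81 [Finite G] (S : Sylow 3 G) (hS : Nat.card (S : Subgroup G) = 81) : 81 ∣ Nat.card G := by
  rw [← hS]
  exact Subgroup.card_subgroup_dvd_card _

/-- **The cases.** -/
theorem cases [Finite G] {S : Sylow 3 G} {J : Subgroup G} {x : G} (h : Hyp (S : Subgroup G) J x)
    (sig : ∀ K : Subgroup G, (Nat.card K).Coprime 3 → (∀ j ∈ J, K.map (MulAut.conj j).toMonoidHom = K) → K = ⊥)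
    (known : ∀ (L : Type u) [Group L] [Finite L] [IsSimpleGroup L], IsKnownSimple' L)
    (hN : Nat.card (centralizer ({x} : Set G)) ∣ 648) :
    (∃ M : Subgroup G, M.Normal ∧ x ∈ M ∧ (∀ a ∈ M, ∀ b ∈ M, a * b = b * a) ∧ IsPGroup 3 M) ∨
    ∃ K : Subgroup G, K.Normal ∧ x ∈ K ∧ centralizer (K : Set G) = ⊥ ∧ IsSimpleGroup K ∧ Final.Res K := by
  rcases dichotomy h sig OrdDiv.table known with h1 | ⟨K, hK, hs, hna, hxK, hc⟩
  · exact Or.inl h1
  · right
    refine ⟨K, hK, hxK, hc, hs, ?_⟩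
    have h3 : 3 ∣ Nat.card K := by
      have h1 : orderOf (⟨x, hxK⟩ : K) = 3 := by rw [Subgroup.orderOf_mk, h.ord]
      rw [← h1]
      exact orderOf_dvd_natCard _
    refine Final.elim_known hN ((h.kh sig).of_injective K.subtype (Subgroup.subtype_injective _)) (known K) hna h3
      (fun h243 => not_243 S h.cardS (h243.trans (Subgroup.card_subgroup_dvd_card _))) ?_
    exact (dvd_81 S h.cardS).trans (Subgroup.card_dvd_of_injective _ (conjNormal_injective K hc))

end Cfsg.Agent.H344.Cases
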