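import Cfsg.Agent.H344.Groups

/-!
# `PSp₄(3)` and `Sp₆(2)` have 3-central elements of order 3 commuting with an element of order 4 (helper344)
-/

set_option autoImplicit false

namespace Cfsg.Agent.H344.Excl

open Subgroup Cfsg Matrix Cfsg.Agent.H344.Wr

theorem kh_false {X : Type*} [Group X] (h : KH 162 X) {y g t : X} (hy : orderOf y = 3) (hg : orderOf g = 9)
    (hyg : y * g = g * y) (ht : orderOf t = 4) (hyt : t * y = y * t) : False := by
  have h1 := h.nine y g hy hg hyg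
  have h2 : orderOf (⟨t, mem_centralizer_singleton_iff.2 hyt⟩ : centralizer ({y} : Set X)) = 4 := by
    rw [Subgroup.orderOf_mk, ht]
  have h3 : 4 ∣ Nat.card (centralizer ({y} : Set X)) := by
    rw [← h2]
    exact orderOf_dvd_natCard _
  have := h3.trans h1
  norm_num at this

section Four

instance instFactThree : Fact (Nat.Prime 3) := ⟨Nat.prime_three⟩

def g4 : symplecticGroup (Fin 2) (ZMod 3) :=
  ⟨fromBlocks !![1, 1; 0, 1] !![0, 1; 0, 1] 0 !![1, 0; -1, 1], by rw [SymplecticGroup.mem_iff]; decide⟩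

def t4 : symplecticGroup (Fin 2) (ZMod 3) :=
  ⟨fromBlocks !![1, 0; 0, 0] !![0, 0; 0, -1] !![0, 0; 0, 1] !![1, 0; 0, 0], by rw [SymplecticGroup.mem_iff]; decide⟩

theorem g4_pow : g4 ^ 9 = 1 := by decide +kernel

theorem g4_comm : g4 ^ 3 * t4 = t4 * g4 ^ 3 := by decide +kernel

theorem t4_pow : t4 ^ 4 = 1 := by decide +kernel

/-- an element moving both -/
def s4 : symplecticGroup (Fin 2) (ZMod 3) :=
  ⟨fromBlocks !![0, 1; 1, 0] 0 0 !![0, 1; 1, 0], by rw [SymplecticGroup.mem_iff]; decide⟩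

theorem g4_s : g4 ^ 3 * s4 ≠ s4 * g4 ^ 3 := by decide +kernel

theorem t4_s : t4 ^ 2 * s4 ≠ s4 * t4 ^ 2 := by decide +kernel

theorem psp4 (h : KH 162 (PSp 2 (ZMod 3))) : False := by
  let π := QuotientGroup.mk' (center (symplecticGroup (Fin 2) (ZMod 3)))
  have key : ∀ a : symplecticGroup (Fin 2) (ZMod 3), a * s4 ≠ s4 * a → π a ≠ 1 := by
    intro a ha h1
    have h2 := (QuotientGroup.eq_one_iff _).1 h1
    exact ha (mem_center_iff.1 h2 s4).symm
  have hy : π (g4 ^ 3) ≠ 1 := key _ g4_s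
  have hg9 : orderOf (π g4) = 3 ^ 2 := by
    apply orderOf_eq_prime_pow
    · rw [pow_one, ← map_pow]
      exact hy
    · rw [← map_pow, show 3 ^ 2 = 9 by norm_num, g4_pow, map_one]
  have ht4 : orderOf (π t4) = 2 ^ 2 := by
    have : Fact (Nat.Prime 2) := ⟨Nat.prime_two⟩
    apply orderOf_eq_prime_pow
    · rw [pow_one, ← map_pow]
      exact key _ t4_s
    · rw [← map_pow, show 2 ^ 2 = 4 by norm_num, t4_pow, map_one]
  refine kh_false h (y := π (g4 ^ 3)) (g := π g4) (t := π t4) ?_ hg9 ?_ ht4 ?_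
  · refine orderOf_eq_prime ?_ hy
    rw [← map_pow, ← pow_mul, show 3 * 3 = 9 by norm_num, g4_pow, map_one]
  · rw [← map_mul, ← map_mul, ← pow_succ, ← pow_succ']
  · rw [← map_mul, ← map_mul, g4_comm]

end Four

section Six

def y6 : symplecticGroup (Fin 3) (ZMod 2) :=
  ⟨fromBlocks 0 1 1 1, by rw [SymplecticGroup.mem_iff]; decide +kernel⟩

def g6 : symplecticGroup (Fin 3) (ZMod 2) :=
  ⟨fromBlocks !![0, 1, 0; 0, 0, 1; 0, 0, 0] !![0, 0, 0; 0, 0, 0; 1, 0, 0] !![0, 0, 0; 0, 0, 0; 1, 0, 0]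
    !![0, 1, 0; 0, 0, 1; 1, 0, 0], by rw [SymplecticGroup.mem_iff]; decide +kernel⟩

def t6 : symplecticGroup (Fin 3) (ZMod 2) :=
  ⟨fromBlocks !![1, 1, 1; 1, 0, 1; 1, 1, 0] !![0, 0, 0; 0, 1, 1; 0, 1, 1] !![0, 0, 0; 0, 1, 1; 0, 1, 1]
    !![1, 1, 1; 1, 1, 0; 1, 0, 1], by rw [SymplecticGroup.mem_iff]; decide +kernel⟩

theorem sp6 (h : KH 162 (symplecticGroup (Fin 3) (ZMod 2))) : False := by
  have hg9 : orderOf g6 = 3 ^ 2 := by
    apply orderOf_eq_prime_pow
    · rw [pow_one]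
      decide +kernel
    · decide +kernel
  have ht4 : orderOf t6 = 2 ^ 2 := by
    have : Fact (Nat.Prime 2) := ⟨Nat.prime_two⟩
    apply orderOf_eq_prime_pow
    · rw [pow_one]
      decide +kernel
    · decide +kernel
  refine kh_false h (y := y6) (g := g6) (t := t6) ?_ hg9 ?_ ht4 ?_
  · refine orderOf_eq_prime ?_ ?_
    · decide +kernel
    · decide +kernel
  · decide +kernel
  · decide +kernel

end Six

end Cfsg.Agent.H344.Excl
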