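import Cfsg.Agent.H344.FactOutB
import Cfsg.Agent.H761.LieExt
import Cfsg.Agent.H566.SporAlt
import Cfsg.Agent.H426.LieFam
import Cfsg.Agent.ThreePrime.Main
import Cfsg.Agent.S0000
import Cfsg.Agent.S0205

/-!
# The index of the fixed points of a coprime automorphism of prime order (helper344, task 2424 of helper672)

* `dvd_index` : `S` of Lie type in characteristic `r`, `x` an automorphism of prime order `t ∤ |S|`: `r ∣ |S : C_S(x)|`;
* `not_dvd_sub` : `S` of Lie type in characteristic `r`, `5 ≤ t` prime, `t ∤ |S|`: `t ∤ r - 1`;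
* `factOut` : `FactOut`.
-/

set_option autoImplicit false

namespace Cfsg.Agent.H344.FactOutRow

open Cfsg Cfsg.Agent.H672.Four Cfsg.Agent.H426.LieFam Cfsg.Agent.H414.LieShape

universe u

variable {S : Type u} [Group S] [Finite S] [IsSimpleGroup S]

omit [IsSimpleGroup S] [Finite S] in
theorem dvd_card {r : ℕ} (hr : r.Prime) (h : IsLieTypeChar r S) : r ∣ Nat.card S := by
  obtain ⟨fam, f, d, N, -, hSh⟩ := exists_fam hr h
  exact hSh.chr

theorem dvd_index (hna : ¬ IsMulCommutative S) {r : ℕ} (hr : r.Prime) (h : IsLieTypeChar r S) {x : MulAut S}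
    (hx : (orderOf x).Prime) (hS : ¬ orderOf x ∣ Nat.card S) : r ∣ (FixA x).index := by
  have : Fact r.Prime := ⟨hr⟩
  obtain ⟨θ, hθ, hext⟩ := Cfsg.Agent.H761.LieExt.lie_ext hna h
  have hd := dvd_card hr h
  refine dvd_index_of hna hr ?_ θ hθ hext x hx ?_
  · exact (hr.dvd_iff_one_le_factorization Nat.card_pos.ne').1 hd
  · rintro h1
    exact hS (h1 ▸ hd)

omit [IsSimpleGroup S] [Finite S] in
theorem not_dvd_sub {r : ℕ} (hr : r.Prime) (h : IsLieTypeChar r S) {t : ℕ} (ht : t.Prime) (ht5 : 5 ≤ t)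
    (hS : ¬ t ∣ Nat.card S) : ¬ t ∣ r - 1 := by
  intro hd
  obtain ⟨fam, f, d, N, hIs, hSh⟩ := exists_fam hr h
  have hr1 : 0 < r - 1 := by have := hr.two_le; omega
  have hle : t ≤ r - 1 := Nat.le_of_dvd hr1 hd
  have hd1 : t ∣ r ^ f - 1 := hd.trans (by simpa using Nat.sub_dvd_pow_sub_pow r 1 f)
  have hd2 : t ∣ (r ^ f) ^ 2 - 1 := hd1.trans (by simpa using Nat.sub_dvd_pow_sub_pow (r ^ f) 1 2)
  have key : Fac.sub 2 ∈ fam.facs → False := fun hm => hS (hSh.dvd_of_fac ht ht5 hm hd2)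
  cases fam with
  | psl n =>
    obtain ⟨hn, -⟩ := hIs
    exact key (List.mem_map.2 ⟨0, List.mem_range.2 (by omega), rfl⟩)
  | psp n =>
    obtain ⟨hn, -⟩ := hIs
    exact key (List.mem_map.2 ⟨0, List.mem_range.2 (by omega), rfl⟩)
  | psu n =>
    obtain ⟨hn, -⟩ := hIs
    exact key (List.mem_map.2 ⟨0, List.mem_range.2 (by omega), by simp⟩)
  | oodd n =>
    obtain ⟨hn, -⟩ := hIs
    exact key (List.mem_map.2 ⟨0, List.mem_range.2 (by omega), rfl⟩)
  | oplus n =>
    obtain ⟨hn, -⟩ := hIs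
    exact key (List.mem_cons_of_mem _ (List.mem_map.2 ⟨0, List.mem_range.2 (by omega), rfl⟩))
  | ominus n =>
    obtain ⟨hn, -⟩ := hIs
    exact key (List.mem_cons_of_mem _ (List.mem_map.2 ⟨0, List.mem_range.2 (by omega), rfl⟩))
  | g2 => exact key (by simp [Fam.facs])
  | f4 => exact key (by simp [Fam.facs])
  | e6 => exact key (by simp [Fam.facs])
  | e7 => exact key (by simp [Fam.facs])
  | e8 => exact key (by simp [Fam.facs])
  | te6 => exact key (by simp [Fam.facs])
  | td4 => exact key (by simp [Fam.facs])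
  | sz =>
    obtain ⟨h2, -⟩ := hIs
    omega
  | tf4 =>
    obtain ⟨h2, -⟩ := hIs
    omega
  | ree =>
    obtain ⟨h3, -⟩ := hIs
    omega

/-- The groups of Lie type. -/
theorem lie_row (hna : ¬ IsMulCommutative S) {r : ℕ} (hr : r.Prime) (h : IsLieTypeChar r S) (h2 : 2 ∣ Nat.card S)
    (x : MulAut S) (hx : (orderOf x).Prime) (hS : ¬ orderOf x ∣ Nat.card S) :
    ∃ r : ℕ, r.Prime ∧ r ∣ (FixA x).index ∧ ¬ orderOf x ∣ r - 1 := by
  have ht2 : orderOf x ≠ 2 := fun h1 => hS (h1 ▸ h2)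
  rcases eq_or_ne (orderOf x) 3 with h3 | h3
  · have hsz := Cfsg.Agent.ThreePrime.Main.isoSuzuki' hna (h3 ▸ hS)
    have hlie : IsLieTypeChar 2 S := by
      unfold IsLieTypeChar
      tauto
    refine ⟨2, Nat.prime_two, dvd_index hna Nat.prime_two hlie hx hS, ?_⟩
    rw [h3]
    norm_num
  · refine ⟨r, hr, dvd_index hna hr h hx hS, not_dvd_sub hr h hx ?_ hS⟩
    have h0 := hx.two_le
    rcases Nat.lt_or_ge (orderOf x) 5 with h5 | h5
    · exfalso
      have h4 : orderOf x = 4 := by omega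
      rw [h4] at hx
      exact absurd hx (by norm_num)
    · exact h5

/-- **S4773-F4.** -/
theorem factOut : Cfsg.Agent.H672.Four.FactOut.{u} := by
  intro S _ _ _ hna x hx hS
  have hna' : ¬ ∀ a b : S, a * b = b * a := fun h => hna ⟨⟨h⟩⟩
  have h2 : 2 ∣ Nat.card S := by
    by_contra h
    have hodd : Odd (Nat.card S) := Nat.odd_iff.2 (Nat.two_dvd_ne_zero.1 h)
    have : Group.IsSolvable S := Cfsg.Agent.S0205.result hodd
    exact hna' fun a b => IsSimpleGroup.comm_iff_isSolvable.2 this a b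
  have hodd : Cfsg.Agent.BpSpor.Inn.OddInn S → False := by
    intro h
    have hb : Subgroup.zpowers x = ⊥ := Cfsg.Agent.H566.eq_bot_of_oddInn h h2 (by
      rw [Nat.card_zpowers]
      exact (Nat.Prime.coprime_iff_not_dvd hx).2 hS)
    rw [Subgroup.zpowers_eq_bot] at hb
    rw [hb, orderOf_one] at hx
    exact Nat.not_prime_one hx
  rcases Cfsg.Agent.PreUniq.known_cases (Cfsg.Agent.S0000.result (G := S)) with h | h | ⟨r, hr, h⟩ | h | h
  · exfalso
    have hf : Fact (Nat.card S).Prime := ⟨h⟩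
    have hc : IsCyclic S := isCyclic_of_prime_card (p := Nat.card S) rfl
    obtain ⟨g, hg⟩ := hc.exists_generator
    exact hna' fun a b => by
      obtain ⟨i, rfl⟩ := hg a
      obtain ⟨j, rfl⟩ := hg b
      exact zpow_mul_comm g i j
  · obtain ⟨n, hn, ⟨e⟩⟩ := h
    rcases Nat.lt_or_ge n 7 with h7 | h7
    · have hn' : n = 5 ∨ n = 6 := by omega
      rcases hn' with rfl | rfl
      · let i1 : Fintype (GaloisField 2 2) := Fintype.ofFinite _
        have hc : Fintype.card (GaloisField 2 2) = 4 := by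
          rw [← Nat.card_eq_fintype_card, GaloisField.card 2 2 (by norm_num)]; norm_num
        obtain ⟨f⟩ := Cfsg.Agent.S0252.result hc
        exact lie_row hna Nat.prime_two (Or.inl ⟨GaloisField 2 2, inferInstance, inferInstance, inferInstance, 2,
          le_rfl, fun _ => (by rw [hc]; try norm_num), ⟨e.trans f.symm⟩⟩) h2 x hx hS
      · let i1 : Fintype (GaloisField 3 2) := Fintype.ofFinite _
        have hc : Fintype.card (GaloisField 3 2) = 9 := by
          rw [← Nat.card_eq_fintype_card, GaloisField.card 3 2 (by norm_num)]; norm_num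
        obtain ⟨f⟩ := Cfsg.Agent.S0254.result hc
        exact lie_row hna Nat.prime_three (Or.inl ⟨GaloisField 3 2, inferInstance, inferInstance, inferInstance, 2,
          le_rfl, fun _ => (by rw [hc]; try norm_num), ⟨e.trans f.symm⟩⟩) h2 x hx hS
    · exact (hodd (Cfsg.Agent.BpSpor.Inn.OddInn.congr e fun p hp hp2 =>
        Cfsg.Agent.CpAut.autInner_alt h7 hp hp2)).elim
  · exact lie_row hna hr h h2 x hx hS
  · exact (hodd (Cfsg.Agent.BpSpor.Inn.tits h)).elim
  · exact (hodd (Cfsg.Agent.H566.oddInn_sporadic h)).elim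

end Cfsg.Agent.H344.FactOutRow
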