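import Cfsg.Agent.H344.FactOutA
import Cfsg.Agent.H576.Kazarin
import Cfsg.Agent.H691.StExt
import Cfsg.Agent.S0138
import Cfsg.Agent.S0142
import Cfsg.Agent.S1494
import Cfsg.Agent.S1495

/-!
# An extendible irreducible character of degree a power of `r` (helper344, task 2424 of helper672)

`dvd_index_of` : if `S` has an irreducible character of degree `r ^ k`, `k ≥ 1`, which extends to `Aut S`, then `r` divides
`|S : C_S(x)|` for every automorphism `x` of prime order `t ≠ r`.
-/

set_option autoImplicit false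

namespace Cfsg.Agent.H344.FactOutRow

open Cfsg Cfsg.Agent.H672.Four

universe u

theorem dvd_index_of {S : Type u} [Group S] [Finite S] [IsSimpleGroup S] (hna : ¬ IsMulCommutative S) {r k : ℕ}
    (hr : r.Prime) (hk : 1 ≤ k) (θ : IrrCharacter S) (hθ : charDegree (θ : S → ℂ) = r ^ k)
    (hext : Cfsg.Agent.H671.H5.ExtAut θ) (x : MulAut S) (hx : (orderOf x).Prime) (hxr : orderOf x ≠ r) :
    r ∣ (FixA x).index := by
  by_contra hcon
  obtain ⟨⟨_, n, ρ, hρ, rfl⟩, hψ⟩ := hext
  change ∀ s : S, ρ.character (MulAut.conj s) = (θ : S → ℂ) s at hψ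
  have hZ : Subgroup.center S = ⊥ := by
    rcases (inferInstance : (Subgroup.center S).Normal).eq_bot_or_eq_top with h | h
    · exact h
    · exact absurd ⟨⟨fun a b => (Subgroup.mem_center_iff.1 (h ▸ Subgroup.mem_top b : b ∈ Subgroup.center S) a)⟩⟩ hna
  -- the restriction to `S`
  let σ : Representation ℂ S (Fin n → ℂ) := ρ.comp (MulAut.conj : S →* MulAut S)
  have hσ : σ.character = (θ : S → ℂ) := funext hψ
  have hσi : σ.IsIrreducible := Cfsg.Agent.Characters.Core.isIrreducible_of_isIrrCharacter σ (hσ ▸ θ.2)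
  have hn : n = r ^ k := by
    rw [← hθ]
    symm
    apply Cfsg.Agent.Blocks.Basic.charDegree_of_eq
    rw [← hσ, Representation.char_one, Module.finrank_fin_fun]
  -- the subgroup `Inn S ⟨x⟩`
  let H : Subgroup (MulAut S) := (MulAut.conj : S →* MulAut S).range ⊔ Subgroup.zpowers x
  have hxH : x ∈ H := Subgroup.mem_sup_right (Subgroup.mem_zpowers x)
  have hmem : ∀ s : S, MulAut.conj s ∈ H := fun s => Subgroup.mem_sup_left ⟨s, rfl⟩
  let f : S →* H := (MulAut.conj : S →* MulAut S).codRestrict H hmem
  let τ : Representation ℂ H (Fin n → ℂ) := ρ.comp H.subtype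
  have hτ : τ.IsIrreducible := Cfsg.Agent.H691.StExt.isIrreducible_of_restrict τ f hσi
  have hind := index_cent hZ x H rfl hxH
  have hcop : Nat.Coprime (Module.finrank ℂ (Fin n → ℂ)) (Subgroup.centralizer ({(⟨x, hxH⟩ : H)} : Set H)).index := by
    rw [Module.finrank_fin_fun, hind, hn]
    exact Nat.Coprime.pow_left k ((Nat.Prime.coprime_iff_not_dvd hr).2 hcon)
  have hval : τ.character ⟨x, hxH⟩ = ρ.character x := rfl
  rcases Cfsg.Agent.S0142.result τ ⟨x, hxH⟩ hcop with h0 | h1
  · -- the value is not zero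
    rw [hval] at h0
    have hgen : IsGeneralizedCharacter (MulAut S) ρ.character :=
      ⟨ρ.character, 0, ⟨n, ρ, rfl⟩, Cfsg.Agent.Characters.Core.isCharacter_zero, by rw [sub_zero]⟩
    obtain ⟨ω, hω, hw⟩ := Cfsg.Agent.S1494.result ρ.character hgen (orderOf x) hx x 1 rfl (by rw [mul_one, one_mul])
    rw [mul_one, h0, Representation.char_one, Module.finrank_fin_fun, zero_sub] at hw
    have hd := Cfsg.Agent.S1495.result (orderOf x) hx (-(n : ℤ)) ω hω (by rw [← hw]; push_cast; rfl)
    rw [dvd_neg, Int.natCast_dvd_natCast, hn] at hd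
    exact hxr ((Nat.prime_dvd_prime_iff_eq hx hr).1 (hx.dvd_of_dvd_pow hd))
  · -- `x` acts as a scalar
    obtain ⟨ω, hω⟩ := (Cfsg.Agent.S0138.result τ ⟨x, hxH⟩).1 h1
    change ρ x = ω • LinearMap.id at hω
    have hcomm : ∀ s : S, σ (x s) = σ s := by
      intro s
      change ρ (MulAut.conj (x s)) = ρ (MulAut.conj s)
      have e1 : MulAut.conj (x s) * x = x * MulAut.conj s := by
        rw [← conj_conj, inv_mul_cancel_right]
      have e2 : ρ (MulAut.conj (x s)) * ρ x = ρ x * ρ (MulAut.conj s) := by rw [← map_mul, e1, map_mul]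
      have hω0 : ω ≠ 0 := by
        rintro rfl
        rw [zero_smul] at hω
        have h2 : ρ x * ρ x⁻¹ = 1 := by rw [← map_mul, mul_inv_cancel, map_one]
        rw [hω, zero_mul] at h2
        have h3 : (0 : ℂ) = (n : ℂ) := by
          have := congrArg (LinearMap.trace ℂ (Fin n → ℂ)) h2
          rw [map_zero, LinearMap.trace_one, Module.finrank_fin_fun] at this
          exact this
        have h4 : n = 0 := by exact_mod_cast h3.symm
        rw [hn] at h4
        exact (pow_pos hr.pos k).ne' h4
      rw [hω] at e2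
      have e3 : ω • ρ (MulAut.conj (x s)) = ω • ρ (MulAut.conj s) := by
        refine LinearMap.ext fun v => ?_
        have := LinearMap.congr_fun e2 v
        simpa [Module.End.mul_apply] using this
      exact smul_right_injective _ hω0 e3
    rcases (inferInstance : σ.ker.Normal).eq_bot_or_eq_top with hK | hK
    · have hx1 : x = 1 := by
        refine MulEquiv.ext fun s => ?_
        have h5 : x s * s⁻¹ ∈ σ.ker := by
          rw [MonoidHom.mem_ker, map_mul, hcomm, ← map_mul, mul_inv_cancel, map_one]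
        rw [hK, Subgroup.mem_bot, mul_inv_eq_one] at h5
        exact h5
      rw [hx1, orderOf_one] at hx
      exact Nat.not_prime_one hx
    · have h6 : n = 1 := by
        apply Cfsg.Agent.H576.Kazarin.degree_eq_one σ hσi
        rw [eq_top_iff]
        intro s _
        have h7 : s ∈ σ.ker := hK ▸ Subgroup.mem_top s
        refine ⟨1, one_ne_zero, ?_⟩
        rw [MonoidHom.mem_ker.1 h7, one_smul]
        rfl
      rw [hn] at h6
      exact (Nat.one_lt_pow (by omega) hr.one_lt).ne' h6

end Cfsg.Agent.H344.FactOutRow
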