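import Cfsg.Agent.LieClassical.FieldTransfer

/-!
# A four-group normalized by an element of order 3 in `A₅` and in `PSL₂(7)` (helper344)
-/

set_option autoImplicit false

namespace Cfsg.Agent.H344.FourSub

open Subgroup Matrix

/-- `y` of order 3 normalizes a nontrivial subgroup of order prime to 3 -/
def Has (T : Type*) [Group T] : Prop :=
  ∃ y : T, orderOf y = 3 ∧ ∃ W : Subgroup T, (Nat.card W).Coprime 3 ∧ W ≠ ⊥ ∧ ∀ w ∈ W, y * w * y⁻¹ ∈ W

theorem Has.of_equiv {T T' : Type*} [Group T] [Group T'] (e : T ≃* T') (h : Has T) : Has T' := by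
  obtain ⟨y, hy, W, h1, h2, h3⟩ := h
  refine ⟨e y, by rw [MulEquiv.orderOf_eq, hy], W.map e.toMonoidHom, ?_, ?_, ?_⟩
  · rwa [Subgroup.card_map_of_injective e.injective]
  · intro h4
    rw [Subgroup.map_eq_bot_iff_of_injective _ e.injective] at h4
    exact h2 h4
  · rintro _ ⟨w, hw, rfl⟩
    refine ⟨_, h3 w hw, ?_⟩
    simp

theorem of_four {T : Type*} [Group T] {y a b : T} (hy : orderOf y = 3) (ha : a ^ 2 = 1) (hb : b ^ 2 = 1)
    (hab : a * b = b * a) (ha1 : a ≠ 1) (h1 : y * a * y⁻¹ = b) (h2 : y * b * y⁻¹ = a * b) : Has T := by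
  have hc : ∀ (s : zpowers a) (t : zpowers b), Commute ((zpowers a).subtype s) ((zpowers b).subtype t) := by
    rintro ⟨_, m, rfl⟩ ⟨_, n, rfl⟩
    exact (Commute.zpow_zpow (show Commute a b from hab) m n)
  let φ : zpowers a × zpowers b →* T := MonoidHom.noncommCoprod (zpowers a).subtype (zpowers b).subtype hc
  have hφ : ∀ s t, φ (s, t) = s.1 * t.1 := fun s t => rfl
  refine ⟨y, hy, φ.range, ?_, ?_, ?_⟩
  · have h3 : Nat.card φ.range ∣ 2 * 2 := by
      refine (Subgroup.card_range_dvd φ).trans ?_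
      rw [Nat.card_prod, Nat.card_zpowers, Nat.card_zpowers]
      exact mul_dvd_mul (orderOf_dvd_of_pow_eq_one ha) (orderOf_dvd_of_pow_eq_one hb)
    exact Nat.Coprime.coprime_dvd_left h3 (by norm_num)
  · intro h3
    apply ha1
    have : a ∈ φ.range := ⟨(⟨a, mem_zpowers a⟩, 1), by rw [hφ]; simp⟩
    rw [h3] at this
    exact this
  · rintro _ ⟨⟨⟨_, m, rfl⟩, ⟨_, n, rfl⟩⟩, rfl⟩
    rw [hφ]
    have e1 : y * (a ^ m * b ^ n) * y⁻¹ = b ^ m * (a * b) ^ n := by
      have : y * (a ^ m * b ^ n) * y⁻¹ = (y * a * y⁻¹) ^ m * (y * b * y⁻¹) ^ n := by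
        rw [← MulAut.conj_apply, ← MulAut.conj_apply, ← MulAut.conj_apply, map_mul, map_zpow, map_zpow]
      rw [this, h1, h2]
    change y * (a ^ m * b ^ n) * y⁻¹ ∈ _
    rw [e1]
    have ia : a ∈ φ.range := ⟨(⟨a, mem_zpowers a⟩, 1), by rw [hφ]; simp⟩
    have ib : b ∈ φ.range := ⟨(1, ⟨b, mem_zpowers b⟩), by rw [hφ]; simp⟩
    exact mul_mem (zpow_mem ib m) (zpow_mem (mul_mem ia ib) n)

theorem alt5 : Has ↥(alternatingGroup (Fin 5)) := by
  refine of_four (y := ⟨Equiv.swap 0 1 * Equiv.swap 1 2, Equiv.Perm.mem_alternatingGroup.2 (by decide)⟩)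
    (a := ⟨Equiv.swap 0 1 * Equiv.swap 2 3, Equiv.Perm.mem_alternatingGroup.2 (by decide)⟩) (b := ⟨Equiv.swap 1 2 * Equiv.swap 0 3, Equiv.Perm.mem_alternatingGroup.2 (by decide)⟩) ?_ ?_ ?_ ?_
    ?_ ?_ ?_
  · have : Fact (Nat.Prime 3) := ⟨Nat.prime_three⟩
    exact orderOf_eq_prime (by decide) (by decide)
  all_goals decide

section

instance instFactSeven : Fact (Nat.Prime 7) := ⟨by norm_num⟩

/-- a matrix of `SL₂(7)` -/
def mk (a b c d : ZMod 7) (h : a * d - b * c = 1) : SpecialLinearGroup (Fin 2) (ZMod 7) :=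
  ⟨!![a, b; c, d], by rw [Matrix.det_fin_two_of]; exact h⟩

theorem psl7 : Has (ProjectiveSpecialLinearGroup (Fin 2) (ZMod 7)) := by
  let π := QuotientGroup.mk' (center (SpecialLinearGroup (Fin 2) (ZMod 7)))
  let i := mk 0 1 (-1) 0 (by decide)
  let j := mk 2 3 3 (-2) (by decide)
  let y := mk 4 6 0 2 (by decide)
  have hneg : π (-1) = 1 := by
    refine (QuotientGroup.eq_one_iff _).2 ?_
    rw [mem_center_iff]
    intro g
    rw [mul_neg, neg_mul, mul_one, one_mul]
  have hi : i ^ 2 = -1 := by decide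
  have hj : j ^ 2 = -1 := by decide
  have hij : i * j = -1 * (j * i) := by decide
  have hyi : y * i * y⁻¹ = j := by decide
  have hyj : y * j * y⁻¹ = i * j := by decide
  have hy3 : y ^ 3 = 1 := by decide
  refine of_four (y := π y) (a := π i) (b := π j) ?_ ?_ ?_ ?_ ?_ ?_ ?_
  · have : Fact (Nat.Prime 3) := ⟨Nat.prime_three⟩
    refine orderOf_eq_prime (by rw [← map_pow, hy3, map_one]) fun h => ?_
    have h1 := (QuotientGroup.eq_one_iff _).1 h
    rw [mem_center_iff] at h1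
    exact absurd (h1 i) (by decide)
  · rw [← map_pow, hi, hneg]
  · rw [← map_pow, hj, hneg]
  · rw [← map_mul, ← map_mul, hij, map_mul, hneg, one_mul]
  · intro h
    have h1 := (QuotientGroup.eq_one_iff _).1 h
    rw [mem_center_iff] at h1
    exact absurd (h1 j) (by decide)
  · rw [← map_mul, ← map_inv, ← map_mul, hyi]
  · rw [← map_mul, ← map_inv, ← map_mul, hyj, map_mul]

theorem psl7' {F : Type*} [Field F] [Fintype F] (hF : Fintype.card F = 7) :
    Has (ProjectiveSpecialLinearGroup (Fin 2) F) :=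
  psl7.of_equiv (LieClassical.FieldTransfer.pslCongr
    (FiniteField.ringEquivOfCardEq ((ZMod.card 7).trans hF.symm)))

end

end Cfsg.Agent.H344.FourSub
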