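import Mathlib

/-!
# Centralizers of the elements of order 3 in the symmetric group of degree 9 (helper344)
-/

set_option autoImplicit false

namespace Cfsg.Agent.H344.Nine

open Equiv.Perm Subgroup

theorem exists_replicate {σ : Equiv.Perm (Fin 9)} (h : orderOf σ = 3) :
    ∃ k, 1 ≤ k ∧ k ≤ 3 ∧ σ.cycleType = Multiset.replicate k 3 := by
  obtain ⟨n, hn⟩ := cycleType_prime_order (σ := σ) (by rw [h]; exact Nat.prime_three)
  rw [h] at hn
  refine ⟨n + 1, by omega, ?_, hn⟩
  have h1 : σ.cycleType.sum ≤ 9 := by
    rw [sum_cycleType]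
    exact (Finset.card_le_univ _).trans (by simp)
  rw [hn, Multiset.sum_replicate] at h1
  simp at h1
  omega

theorem card_centralizer {σ : Equiv.Perm (Fin 9)} {k : ℕ} (hk : 1 ≤ k) (h : σ.cycleType = Multiset.replicate k 3) :
    Nat.card (centralizer ({σ} : Set (Equiv.Perm (Fin 9)))) = (9 - k * 3).factorial * (3 ^ k * k.factorial) := by
  rw [nat_card_centralizer, h, Multiset.sum_replicate, Multiset.prod_replicate, Fintype.card_fin, smul_eq_mul]
  rw [Multiset.toFinset_replicate, if_neg (by omega), Finset.prod_singleton, Multiset.count_replicate_self, mul_assoc]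

theorem card_centralizer_of {σ : Equiv.Perm (Fin 9)} (h : orderOf σ = 3) :
    Nat.card (centralizer ({σ} : Set (Equiv.Perm (Fin 9)))) = 2160 ∨
    Nat.card (centralizer ({σ} : Set (Equiv.Perm (Fin 9)))) = 108 ∨
    (Nat.card (centralizer ({σ} : Set (Equiv.Perm (Fin 9)))) = 162 ∧
      ¬ centralizer ({σ} : Set (Equiv.Perm (Fin 9))) ≤ alternatingGroup (Fin 9)) := by
  obtain ⟨k, h1, h3, hk⟩ := exists_replicate h
  rw [card_centralizer h1 hk]
  interval_cases k
  · left; decide
  · right; left; decide
  · right; right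
    refine ⟨by decide, fun h4 => ?_⟩
    rw [centralizer_le_alternating_iff] at h4
    have := h4.2.2 3
    rw [hk, Multiset.count_replicate_self] at this
    omega

end Cfsg.Agent.H344.Nine
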