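import Cfsg.Agent.H344.Cases
import Cfsg.Agent.H344.Nine
import Cfsg.Agent.H344.Count
import Cfsg.Agent.S2119
import Cfsg.Agent.S0814
import Cfsg.Agent.LieClassical.SympCenter
import Cfsg.Agent.LieClassical.FieldTransfer

/-!
# Numerical facts and embeddings for the four possible groups (helper344)
-/

set_option autoImplicit false

namespace Cfsg.Agent.H344.Groups

open Subgroup Cfsg Matrix Cfsg.Agent.H344.Reduce

universe u

section Orders

variable {F : Type*} [Field F] [Fintype F]

theorem card_psp4 {F : Type} [Field F] [Fintype F] (hF : Fintype.card F = 3) : Nat.card (PSp 2 F) = 25920 := by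
  have hc := H341.ThreeList.card_psp (F := F) (m := 2) (by norm_num)
  rw [hF, Finset.prod_range_succ, Finset.prod_range_succ, Finset.prod_range_zero] at hc
  norm_num at hc
  omega

theorem card_aut_psp4 {F : Type} [Field F] [Fintype F] (hF : Fintype.card F = 3) :
    Nat.card (MulAut (PSp 2 F)) = 51840 := by
  have : Fact (Nat.Prime 3) := ⟨Nat.prime_three⟩
  rw [S0814.result (F := F) 3 1 le_rfl (by rw [hF]; norm_num) 2 le_rfl (fun _ => by norm_num), card_psp4 hF]
  norm_num

theorem card_psp6 {F : Type} [Field F] [Fintype F] (hF : Fintype.card F = 2) : Nat.card (PSp 3 F) = 1451520 := by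
  have hc := H341.ThreeList.card_psp (F := F) (m := 3) (by norm_num)
  rw [hF, Finset.prod_range_succ, Finset.prod_range_succ, Finset.prod_range_succ, Finset.prod_range_zero] at hc
  norm_num at hc
  omega

theorem card_aut_psp6 {F : Type} [Field F] [Fintype F] (hF : Fintype.card F = 2) :
    Nat.card (MulAut (PSp 3 F)) = 1451520 := by
  have : Fact (Nat.Prime 2) := ⟨Nat.prime_two⟩
  rw [S0814.result (F := F) 2 1 le_rfl (by rw [hF]; norm_num) 3 (by norm_num) (fun h => by norm_num at h), card_psp6 hF]
  norm_num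

theorem card_psl27 {F : Type} [Field F] [Fintype F] (hF : Fintype.card F = 27) :
    Nat.card (Matrix.ProjectiveSpecialLinearGroup (Fin 2) F) = 9828 := by
  have hc := S0243.result (F := F) hF 2 le_rfl
  rw [Fin.prod_univ_two] at hc
  norm_num at hc
  omega

theorem card_aut_psl27 {F : Type} [Field F] [Fintype F] (hF : Fintype.card F = 27) :
    Nat.card (MulAut (Matrix.ProjectiveSpecialLinearGroup (Fin 2) F)) = 58968 := by
  have : Fact (Nat.Prime 3) := ⟨Nat.prime_three⟩
  rw [S0813.result (F := F) 3 3 (by norm_num) (by rw [hF]; norm_num) 2 le_rfl (fun _ => by norm_num),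
    OutA.card_pgl le_rfl, hF]
  norm_num

theorem card_alt9 : Nat.card ↥(alternatingGroup (Fin 9)) = 181440 := by
  have h := nat_card_alternatingGroup (α := Fin 9)
  rw [h, Nat.card_eq_fintype_card, Fintype.card_fin]
  decide

end Orders

/-- `PSp₆(2) ≅ Sp₆(2)` -/
theorem psp6_equiv {F : Type} [Field F] [Fintype F] (hF : Fintype.card F = 2) {F₂ : Type*} [Field F₂] [Fintype F₂]
    (hF₂ : Fintype.card F₂ = 2) : Nonempty (PSp 3 F ≃* symplecticGroup (Fin 3) F₂) := by
  have hc : center (symplecticGroup (Fin 3) F) = ⊥ := by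
    rw [eq_bot_iff]
    intro A hA
    obtain ⟨r, hr⟩ := (LieClassical.SympCenter.mem_center_iff 3 A).1 hA
    rw [mem_bot]
    apply Subtype.ext
    rw [hr]
    have h0 : r ≠ 0 := by
      rintro rfl
      have h1 := congrFun (congrFun (SymplecticGroup.mem_iff.1 A.2) (Sum.inl 0)) (Sum.inr 0)
      rw [hr] at h1
      simp [Matrix.J] at h1
    rw [KillC.unit_eq_one hF h0, one_smul]
    rfl
  let e1 : PSp 3 F ≃* symplecticGroup (Fin 3) F :=
    (QuotientGroup.quotientMulEquivOfEq hc).trans QuotientGroup.quotientBot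
  exact ⟨e1.trans (LieClassical.FieldTransfer.spCongr (Fin 3) (FiniteField.ringEquivOfCardEq (hF.trans hF₂.symm)))⟩

variable {G : Type u} [Group G]

/-- embedding of `G` into the automorphism group of a group isomorphic to `K` -/
theorem exists_embedding (K : Subgroup G) [K.Normal] (h : centralizer (K : Set G) = ⊥) {X : Type*} [Group X]
    (e : K ≃* X) : ∃ φ : G →* MulAut X, Function.Injective φ ∧ ∀ k : K, φ k = MulAut.conj (e k) := by
  refine ⟨(MulAut.congr e).toMonoidHom.comp (MulAut.conjNormal : G →* MulAut K),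
    (MulAut.congr e).injective.comp (conjNormal_injective K h), fun k => ?_⟩
  ext x
  change e ((MulAut.conjNormal (k : G) : MulAut K) (e.symm x)) = e k * x * (e k)⁻¹
  have h1 : (MulAut.conjNormal (k : G) : MulAut K) (e.symm x) = k * e.symm x * k⁻¹ := by
    apply Subtype.ext
    rw [MulAut.conjNormal_apply]
    rfl
  rw [h1, map_mul, map_mul, map_inv, e.apply_symm_apply]

/-- the order of the centralizer divides -/
theorem card_centralizer_dvd {H : Type*} [Group H] (φ : G →* H) (hφ : Function.Injective φ) (x : G) :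
    Nat.card (centralizer ({x} : Set G)) ∣ Nat.card (centralizer ({φ x} : Set H)) := by
  rw [← Subgroup.card_map_of_injective hφ]
  apply Subgroup.card_dvd_of_le
  rintro _ ⟨g, hg, rfl⟩
  have := mem_centralizer_singleton_iff.1 hg
  rw [mem_centralizer_singleton_iff, ← map_mul, ← map_mul, this]

/-- embedding into the symmetric group -/
theorem exists_perm (K : Subgroup G) [K.Normal] (h : centralizer (K : Set G) = ⊥)
    (e : K ≃* ↥(alternatingGroup (Fin 9))) : ∃ φ : G →* Equiv.Perm (Fin 9), Function.Injective φ ∧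
      ∀ k : K, φ k = (e k : Equiv.Perm (Fin 9)) := by
  obtain ⟨φ, hφ, hk⟩ := exists_embedding K h e
  have hb := S2119.result 9 (by norm_num) (by norm_num)
  let ψ := MulEquiv.ofBijective _ hb
  refine ⟨ψ.symm.toMonoidHom.comp φ, ψ.symm.injective.comp hφ, fun k => ?_⟩
  change ψ.symm (φ k) = _
  rw [MulEquiv.symm_apply_eq, hk]
  ext x : 2
  change _ = ((MulAut.conjNormal (e k : Equiv.Perm (Fin 9)) : MulAut ↥(alternatingGroup (Fin 9))) x :
    Equiv.Perm (Fin 9))
  rw [MulAut.conjNormal_apply]
  rfl

end Cfsg.Agent.H344.Groups
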