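import Cfsg.Agent.H344.Blocks
import Cfsg.Agent.H344.List81
import Cfsg.Agent.H356.KillPSU
import Cfsg.Agent.H356.KillPSp

/-!
# Classical groups and the property `KH` (helper344)

Tori and blocks; the tools are those of helper356.
-/

set_option autoImplicit false

namespace Cfsg.Agent.H344.KillA

open Matrix Subgroup Cfsg Cfsg.Agent.H344.Wr Cfsg.Agent.H356 Cfsg.Agent.H356.SLTwo Cfsg.Agent.H356.SLTorus

variable {K : Type*} [Group K] {N : ℕ} {F : Type*} [Field F]

theorem not_eighty (h : KH N K) {A : Subgroup K} (hA : ∀ a ∈ A, ∀ b ∈ A, a * b = b * a)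
    (hc : Nat.card A = 81) : False := by
  have := (h.ab A hA (by rw [hc]; norm_num)).1
  omega

theorem not_nine (h : KH N K) {A : Subgroup K} (hA : ∀ a ∈ A, ∀ b ∈ A, a * b = b * a)
    (hc : 27 ∣ Nat.card A) {a : K} (ha : a ∈ A) (ho : 9 ∣ orderOf a) : False := by
  have h1 := (h.ab A hA hc).2 a ha
  have h2 := ho.trans (orderOf_dvd_of_pow_eq_one h1)
  exact absurd (Nat.le_of_dvd (by norm_num) h2) (by norm_num)

/-- three commuting blocks modulo the centre -/
theorem hi_of_center {H G : Type*} [Group H] [Group G] {L : Type*} [Field L] (π : H →* G) (hπ : π.ker ≤ center H)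
    (f g k : SpecialLinearGroup (Fin 2) L →* H) (hf : Function.Injective f) (hg : Function.Injective g)
    (hk : Function.Injective k) (hfg : ∀ a b, f a * g b = g b * f a)
    (hfk : ∀ a b, f a * k b = k b * f a) (hgk : ∀ a b, g a * k b = k b * g a) (a b c : SpecialLinearGroup (Fin 2) L)
    (h : π (f a) * π (g b) * π (k c) = 1) : a ^ 2 = 1 ∧ b ^ 2 = 1 ∧ c ^ 2 = 1 := by
  have hz : f a * g b * k c ∈ center H := hπ (by rw [MonoidHom.mem_ker, map_mul, map_mul, h])
  rw [mem_center_iff] at hz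
  refine ⟨sq_of_center (mem_center_iff.2 fun s => ?_), sq_of_center (mem_center_iff.2 fun s => ?_),
    sq_of_center (mem_center_iff.2 fun s => ?_)⟩
  · apply hf
    rw [map_mul, map_mul]
    have h1 := hz (f s)
    have e1 : f a * g b * k c * f s = f a * f s * (g b * k c) := by
      rw [mul_assoc (f a * g b), ← hfk, ← mul_assoc, mul_assoc (f a), ← hfg]
      group
    rw [e1] at h1
    have e2 : f s * (f a * g b * k c) = f s * f a * (g b * k c) := by group
    rw [e2] at h1
    exact mul_right_cancel h1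
  · apply hg
    rw [map_mul, map_mul]
    have h1 := hz (g s)
    have e1 : f a * g b * k c * g s = g b * g s * (f a * k c) := by
      rw [mul_assoc (f a * g b), ← hgk, hfg a b]
      calc g b * f a * (g s * k c) = g b * (f a * g s) * k c := by group
        _ = _ := by rw [hfg]; group
    have e2 : g s * (f a * g b * k c) = g s * g b * (f a * k c) := by
      rw [hfg]; group
    rw [e1, e2] at h1
    exact mul_right_cancel h1
  · apply hk
    rw [map_mul, map_mul]
    have h1 := hz (k s)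
    have e1 : f a * g b * k c * k s = k c * k s * (f a * g b) := by
      have : f a * g b * (k c * k s) = k c * k s * (f a * g b) := by
        rw [← map_mul, mul_assoc, hgk, ← mul_assoc, hfk, mul_assoc]
      rw [← this]; group
    have e2 : k s * (f a * g b * k c) = k s * k c * (f a * g b) := by
      rw [mul_assoc (f a), hgk, ← mul_assoc (f a), hfk]; group
    rw [e1, e2] at h1
    exact mul_right_cancel h1

/-! ### `PSL_n` -/

theorem psl2 [Fintype F] (h : KH N (Matrix.ProjectiveSpecialLinearGroup (Fin 2) F))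
    (h27 : 27 ∣ Nat.card (Matrix.ProjectiveSpecialLinearGroup (Fin 2) F)) : Fintype.card F = 27 := by
  have hq : 1 < Fintype.card F := Fintype.one_lt_card
  have hc := Num.psl2 hq (Cfsg.Agent.S0243.result (F := F) rfl 2 le_rfl)
  have h81 : 3 ^ 3 ∣ Fintype.card F * (Fintype.card F ^ 2 - 1) := hc ▸ dvd_mul_of_dvd_right h27 _
  by_cases h3 : Fintype.card F % 3 = 0
  · have h1 : Nat.Coprime (3 ^ 3) (Fintype.card F ^ 2 - 1) := by
      refine Num.cop3 ?_ 3
      have e1 : Fintype.card F ^ 2 % 3 = 0 := by simp [Nat.pow_mod, h3]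
      have e2 : 1 ≤ Fintype.card F ^ 2 := Nat.one_le_pow _ _ (by omega)
      omega
    have h2 := h1.dvd_of_dvd_mul_right h81
    obtain ⟨A, hA, hcA⟩ := KillPSL.exists_root (F := F)
    have h4 := (h.ab A hA (by rw [hcA]; exact h2)).1
    rw [hcA] at h4
    exact h4
  · exfalso
    have h0 := KillPSL.three_ne_zero_of h3
    have h2 : 3 ^ 3 ∣ Fintype.card F ^ 2 - 1 := (Num.cop3 h3 3).dvd_of_dvd_mul_left h81
    obtain ⟨A, hA, hcA, a, ha, ho⟩ := exists_one (F := F) h0 (n := 3) (by rw [Nat.card_eq_fintype_card]; exact h2)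
      (QuotientGroup.mk' (center (Matrix.SpecialLinearGroup (Fin 2) F))) (by rw [QuotientGroup.ker_mk'])
      (MonoidHom.id _) Function.injective_id
    exact not_nine h hA (by rw [hcA]; norm_num) ha (by rw [ho]; norm_num)

theorem psl3a [Fintype F] (h : KH N (Matrix.ProjectiveSpecialLinearGroup (Fin 3) F)) (h9 : 9 ∣ Fintype.card F - 1) :
    False := by
  obtain ⟨ζ, hζ⟩ := KillPSL.exists_orderOf (F := F) h9
  have hz9 : ζ ^ 9 = 1 := hζ ▸ pow_orderOf_eq_one ζ
  obtain ⟨A, hA, hcA, a, ha, ho⟩ := Diag.exists_nine (KillPSL.lin F 3) hζ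
    (KillPSL.dg_Dg ![1, ζ, ζ ^ 8] (by
      rw [Fin.prod_univ_three]
      change 1 * ζ * ζ ^ 8 = 1
      rw [one_mul, ← pow_succ']
      exact hz9))
    (KillPSL.dg_Dg ![ζ, ζ, ζ ^ 7] (by
      rw [Fin.prod_univ_three]
      change ζ * ζ * ζ ^ 7 = 1
      rw [mul_assoc, ← pow_succ', ← pow_succ']
      exact hz9))
  exact not_nine h hA (by rw [hcA]) ha (by rw [ho])

theorem three_ne [Fintype F] (h : ¬ 3 ∣ Fintype.card F) : (3 : F) ≠ 0 :=
  KillPSL.three_ne_zero_of (by omega)

theorem psl3b [Fintype F] (h : KH N (Matrix.ProjectiveSpecialLinearGroup (Fin 3) F)) (h9 : 27 ∣ Fintype.card F + 1) :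
    False := by
  have hb : 2 * 1 ≤ 3 := by norm_num
  obtain ⟨A, hA, hcA, a, ha, ho⟩ := exists_one (F := F) (KillPSL.three_ne_zero_of (by omega)) (n := 3)
    (by
      rw [Nat.card_eq_fintype_card]
      have : Fintype.card F ^ 2 - 1 = (Fintype.card F + 1) * (Fintype.card F - 1) := by
        simpa using Nat.sq_sub_sq (Fintype.card F) 1
      rw [this]
      exact dvd_mul_of_dvd_left h9 _)
    (QuotientGroup.mk' (center (Matrix.SpecialLinearGroup (Fin 3) F))) (by rw [QuotientGroup.ker_mk'])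
    (KillPSL.f hb 0) (KillPSL.f_injective hb 0)
  exact not_nine h hA (by rw [hcA]; norm_num) ha (by rw [ho]; norm_num)

theorem psl45b {n : ℕ} [Fintype F] (hn : 4 ≤ n) (h : KH N (Matrix.ProjectiveSpecialLinearGroup (Fin n) F))
    (h9 : 9 ∣ Fintype.card F + 1) : False := by
  have hb : 2 * 2 ≤ n := hn
  have h3' := KillPSL.three_ne_zero_of (F := F) (by omega)
  have h9' : 3 ^ 2 ∣ Nat.card F ^ 2 - 1 := by
    rw [Nat.card_eq_fintype_card]
    have : Fintype.card F ^ 2 - 1 = (Fintype.card F + 1) * (Fintype.card F - 1) := by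
      simpa using Nat.sq_sub_sq (Fintype.card F) 1
    rw [this]
    exact dvd_mul_of_dvd_left h9 _
  obtain ⟨A, hA, hcA, -⟩ := exists_two (F := F) (K := F) h3' h3' h9' h9'
    (QuotientGroup.mk' (center (Matrix.SpecialLinearGroup (Fin n) F))) (by rw [QuotientGroup.ker_mk'])
    (KillPSL.f hb 0) (KillPSL.f_injective hb 0) (KillPSL.f hb 1) (KillPSL.f_injective hb 1)
    (KillPSL.f_comm hb (by decide))
  exact not_eighty h hA hcA

theorem psl4a [Fintype F] (h : KH N (Matrix.ProjectiveSpecialLinearGroup (Fin 4) F))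
    (h1 : Fintype.card F % 3 = 1) : False := by
  classical
  have hq : 1 < Fintype.card F := Fintype.one_lt_card
  obtain ⟨ω, hω⟩ := KillPSL.exists_orderOf (F := F) (m := 3) (by omega)
  have hω3 : ω ^ 3 = 1 := hω ▸ pow_orderOf_eq_one ω
  have hω1 : ω ≠ 1 := by
    rintro rfl
    rw [orderOf_one] at hω
    norm_num at hω
  have hpr : ω * ω ^ 2 = 1 := by rw [← pow_succ']; exact hω3
  obtain ⟨E, hE, hcE, hrep⟩ := Diag.exists_four (KillPSL.lin F 4) hω3 hω1
    (KillPSL.dg_Dg ![ω, ω ^ 2, 1, 1] (by rw [Fin.prod_univ_four]; simpa using hpr))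
    (KillPSL.dg_Dg ![1, ω, ω ^ 2, 1] (by rw [Fin.prod_univ_four]; simpa using hpr))
    (KillPSL.dg_Dg ![1, 1, ω, ω ^ 2] (by rw [Fin.prod_univ_four]; simpa using hpr))
  let v := (QuotientGroup.mk' (center (Matrix.SpecialLinearGroup (Fin 4) F))).comp (KillPSL.tv F)
  have hv : Function.Injective v := by
    rw [injective_iff_map_eq_one]
    intro t ht
    have h1 : KillPSL.tv F t ∈ center (Matrix.SpecialLinearGroup (Fin 4) F) := (QuotientGroup.eq_one_iff _).1 ht
    obtain ⟨r, -, hr⟩ := Matrix.SpecialLinearGroup.mem_center_iff.1 h1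
    have h2 : (scalar (Fin 4) r) 0 3 = t.toAdd := by
      rw [hr]
      change Matrix.transvection (0 : Fin 4) 3 t.toAdd 0 3 = t.toAdd
      simp [Matrix.transvection]
    rw [scalar_apply, diagonal_apply_ne _ (by decide)] at h2
    exact Multiplicative.toAdd.injective h2.symm
  have hcard : Nat.card v.range = Fintype.card F := by
    rw [Nat.card_congr (MonoidHom.ofInjective hv).symm.toEquiv, ← Nat.card_eq_fintype_card]
    rfl
  have hbot := h.sig E v.range hE hcE (by
    rw [hcard]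
    exact (Num.cop3 (a := Fintype.card F) (by omega) 1).symm) (by
    rintro a ha _ ⟨s, rfl⟩
    obtain ⟨g, t, hd, rfl⟩ := hrep a ha
    have ht3 : t 3 ≠ 0 := by
      intro h0
      have h2 := g.2
      have h3 : g.1 = diagonal t := hd
      rw [h3, det_diagonal, Finset.prod_eq_zero (Finset.mem_univ 3) h0] at h2
      exact zero_ne_one h2
    refine ⟨Multiplicative.ofAdd (t 0 * s.toAdd * (t 3)⁻¹), ?_⟩
    rw [eq_mul_inv_iff_mul_eq]
    change QuotientGroup.mk' (center (Matrix.SpecialLinearGroup (Fin 4) F)) _ *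
      QuotientGroup.mk' (center (Matrix.SpecialLinearGroup (Fin 4) F)) g =
      QuotientGroup.mk' (center (Matrix.SpecialLinearGroup (Fin 4) F)) g *
      QuotientGroup.mk' (center (Matrix.SpecialLinearGroup (Fin 4) F)) (KillPSL.tv F s)
    rw [← map_mul, ← map_mul]
    congr 1
    apply Subtype.ext
    have h3 : g.1 = diagonal t := hd
    change Matrix.transvection 0 3 (t 0 * s.toAdd * (t 3)⁻¹) * g.1 = g.1 * Matrix.transvection 0 3 s.toAdd
    rw [h3]
    refine (KillPSL.diag_mul_tv ?_).symm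
    rw [mul_assoc, inv_mul_cancel₀ ht3, mul_one])
  rw [hbot] at hcard
  simp at hcard
  omega

/-! ### `PSU_n` -/

theorem psu3a {q : ℕ} [Fintype F] (hF : Fintype.card F = q ^ 2) (h : KH N (PSU 3 F q)) (h9 : 9 ∣ q + 1) : False := by
  have hd : 9 ∣ Fintype.card F - 1 := by
    rw [hF]
    have : q ^ 2 - 1 = (q + 1) * (q - 1) := by
      simpa using Nat.sq_sub_sq q 1
    rw [this]
    exact dvd_mul_of_dvd_left h9 _
  obtain ⟨ζ, hζ⟩ := KillPSL.exists_orderOf (F := F) hd
  have hz9 : ζ ^ 9 = 1 := hζ ▸ pow_orderOf_eq_one ζ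
  have hzq : ζ ^ (q + 1) = 1 := by
    rw [← orderOf_dvd_iff_pow_eq_one, hζ]
    exact h9
  have hzq' : ∀ j : ℕ, (ζ ^ j) ^ (q + 1) = 1 := fun j => by rw [← pow_mul, mul_comm, pow_mul, hzq, one_pow]
  obtain ⟨A, hA, hcA, a, ha, ho⟩ := Diag.exists_nine (KillPSU.lin hF (by norm_num)) hζ
    (KillPSU.dg_Dg ![1, ζ, ζ ^ 8] (by
      rw [Fin.prod_univ_three]
      change 1 * ζ * ζ ^ 8 = 1
      rw [one_mul, ← pow_succ']
      exact hz9) (by
      intro i
      fin_cases i
      · exact one_pow _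
      · exact hzq
      · exact hzq' 8))
    (KillPSU.dg_Dg ![ζ, ζ, ζ ^ 7] (by
      rw [Fin.prod_univ_three]
      change ζ * ζ * ζ ^ 7 = 1
      rw [mul_assoc, ← pow_succ', ← pow_succ']
      exact hz9) (by
      intro i
      fin_cases i
      · exact hzq
      · exact hzq
      · exact hzq' 7))
  exact not_nine h hA (by rw [hcA]) ha (by rw [ho])

theorem psu3b {q : ℕ} [Fintype F] (hF : Fintype.card F = q ^ 2) (h : KH N (PSU 3 F q)) (h9 : 27 ∣ q - 1) : False := by
  have hq1 : 1 < q := by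
    by_contra hq
    have : Fintype.card F ≤ 1 := by rw [hF]; nlinarith
    exact absurd (Fintype.one_lt_card (α := F)) (by omega)
  obtain ⟨K, _, _, hK, hf⟩ := KillPSU.exists_blocks hF
  obtain ⟨f, hi, -⟩ := hf 3
  obtain ⟨A, hA, hcA, a, ha, ho⟩ := exists_one (F := K) (KillPSL.three_ne_zero_of (by rw [hK]; omega)) (n := 3)
    (by
      rw [Nat.card_eq_fintype_card, hK]
      have : q ^ 2 - 1 = (q + 1) * (q - 1) := by
        simpa using Nat.sq_sub_sq q 1
      rw [this]
      exact dvd_mul_of_dvd_right h9 _)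
    (QuotientGroup.mk' (center (SU 3 F q))) (by rw [QuotientGroup.ker_mk'])
    (f 0 (by omega)) (hi _ _)
  exact not_nine h hA (by rw [hcA]; norm_num) ha (by rw [ho]; norm_num)

theorem psu45b {n q : ℕ} [Fintype F] (hF : Fintype.card F = q ^ 2) (hn : 4 ≤ n) (h : KH N (PSU n F q))
    (h9 : 9 ∣ q - 1) : False := by
  have hq1 : 1 < q := by
    by_contra hq
    have : Fintype.card F ≤ 1 := by rw [hF]; nlinarith
    exact absurd (Fintype.one_lt_card (α := F)) (by omega)
  obtain ⟨K, _, _, hK, hf⟩ := KillPSU.exists_blocks hF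
  obtain ⟨f, hi, hc⟩ := hf n
  have h3' : (3 : K) ≠ 0 := KillPSL.three_ne_zero_of (by rw [hK]; omega)
  have h9' : 3 ^ 2 ∣ Nat.card K ^ 2 - 1 := by
    rw [Nat.card_eq_fintype_card, hK]
    have : q ^ 2 - 1 = (q + 1) * (q - 1) := by
      simpa using Nat.sq_sub_sq q 1
    rw [this]
    exact dvd_mul_of_dvd_right h9 _
  obtain ⟨A, hA, hcA, -⟩ := exists_two (F := K) (K := K) h3' h3' h9' h9'
    (QuotientGroup.mk' (center (SU n F q))) (by rw [QuotientGroup.ker_mk'])
    (f 0 (by omega)) (hi _ _) (f 2 (by omega)) (hi _ _) (hc _ _ _ _ (by omega))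
  exact not_eighty h hA hcA

theorem psu4a {q : ℕ} [Fintype F] (hF : Fintype.card F = q ^ 2) (h : KH N (PSU 4 F q)) (h2 : q % 3 = 2) : q = 2 := by
  have hd : q + 1 ∣ Fintype.card F - 1 := by
    rw [hF]
    have : q ^ 2 - 1 = (q + 1) * (q - 1) := by
      simpa using Nat.sq_sub_sq q 1
    rw [this]
    exact dvd_mul_right _ _
  have h3d : 3 ∣ q + 1 := by omega
  obtain ⟨ω, hω⟩ := KillPSL.exists_orderOf (F := F) (h3d.trans hd)
  obtain ⟨ζ, hζ⟩ := KillPSL.exists_orderOf (F := F) hd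
  have hω3 : ω ^ 3 = 1 := hω ▸ pow_orderOf_eq_one ω
  have hω1 : ω ≠ 1 := by
    rintro rfl
    rw [orderOf_one] at hω
    norm_num at hω
  have hωq : ω ^ (q + 1) = 1 := by
    rw [← orderOf_dvd_iff_pow_eq_one, hω]
    exact h3d
  have hωq' : (ω ^ 2) ^ (q + 1) = 1 := by rw [← pow_mul, mul_comm, pow_mul, hωq, one_pow]
  have hpr : ω * ω ^ 2 = 1 := by rw [← pow_succ']; exact hω3
  have L := KillPSU.lin (n := 4) hF (by norm_num)
  obtain ⟨E, hE, hcE, hrep⟩ := Diag.exists_four L hω3 hω1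
    (KillPSU.dg_Dg ![ω, ω ^ 2, 1, 1] (by rw [Fin.prod_univ_four]; simpa using hpr)
      (by intro i; fin_cases i; exacts [hωq, hωq', one_pow _, one_pow _]))
    (KillPSU.dg_Dg ![1, ω, ω ^ 2, 1] (by rw [Fin.prod_univ_four]; simpa using hpr)
      (by intro i; fin_cases i; exacts [one_pow _, hωq, hωq', one_pow _]))
    (KillPSU.dg_Dg ![1, 1, ω, ω ^ 2] (by rw [Fin.prod_univ_four]; simpa using hpr)
      (by intro i; fin_cases i; exacts [one_pow _, one_pow _, hωq, hωq']))
  have hle : E ≤ Diag.tor (KillPSU.iota F 4 q) := by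
    intro a ha
    obtain ⟨g, t, hd, rfl⟩ := hrep a ha
    exact ⟨g, t, hd, rfl⟩
  have h27 : 27 ∣ Nat.card (Diag.tor (KillPSU.iota F 4 q)) := by
    rw [← hcE]
    exact Subgroup.card_dvd_of_le hle
  have hall := (h.ab _ (Diag.tor_comm L) h27).2
  have hz1 : ζ ^ (q + 1) = 1 := hζ ▸ pow_orderOf_eq_one ζ
  have hzq' : (ζ ^ q) ^ (q + 1) = 1 := by rw [← pow_mul, mul_comm, pow_mul, hz1, one_pow]
  have hg : Diag.Dg (KillPSU.iota F 4 q) (KillPSU.dg ![ζ, ζ ^ q, 1, 1] (by
      rw [Fin.prod_univ_four]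
      have : ζ * ζ ^ q = 1 := by rw [← pow_succ']; exact hz1
      simpa using this)
      (by intro i; fin_cases i; exacts [hz1, hzq', one_pow _, one_pow _])) ![ζ, ζ ^ q, 1, 1] := KillPSU.dg_Dg _ _ _
  have h4 := hall _ ⟨_, _, hg, rfl⟩
  rw [← map_pow] at h4
  have h5 := (QuotientGroup.eq_one_iff _).1 h4
  have h6 := (hg.pow 3).eq_of_scalar L h5 0 2
  have h7 : ζ ^ 3 = 1 := by simpa using h6
  have h8 := orderOf_dvd_of_pow_eq_one h7
  rw [hζ] at h8
  have h9 := Nat.le_of_dvd (by norm_num) h8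
  omega

/-! ### `PSp_4` -/

theorem psp4b [Fintype F] (h : KH N (PSp 2 F)) (h9 : 9 ∣ Fintype.card F ^ 2 - 1) : False := by
  have hq : 1 < Fintype.card F := Fintype.one_lt_card
  have h3 : (3 : F) ≠ 0 := KillPSL.three_ne_zero_of (by
    intro h0
    have e1 : Fintype.card F ^ 2 % 3 = 0 := by simp [Nat.pow_mod, h0]
    have e2 : 1 ≤ Fintype.card F ^ 2 := Nat.one_le_pow _ _ (by omega)
    omega)
  have h9' : 3 ^ 2 ∣ Nat.card F ^ 2 - 1 := by
    rw [Nat.card_eq_fintype_card]
    exact h9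
  obtain ⟨A, hA, hcA, -⟩ := exists_two (F := F) (K := F) h3 h3 h9' h9'
    (QuotientGroup.mk' (center (symplecticGroup (Fin 2) F))) (by rw [QuotientGroup.ker_mk'])
    (KillPSp.f 0) (KillPSp.f_injective 0) (KillPSp.f 1) (KillPSp.f_injective 1) (KillPSp.f_comm (by decide))
  exact not_eighty h hA hcA

end Cfsg.Agent.H344.KillA
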