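import Cfsg.Agent.H344.KillA
import Cfsg.Agent.LieClassical.SympCenter

/-!
# Three blocks: `PSL_n(q)`, `PSU_n(q)` (`n = 6, 7`) and `PSp_6(q)` (helper344)
-/

set_option autoImplicit false

namespace Cfsg.Agent.H344.KillB

open Matrix Subgroup Cfsg Cfsg.Agent.H344.Wr Cfsg.Agent.H356 Cfsg.Agent.H344.KillA Cfsg.Agent.H344.Blocks

variable {N : ℕ}

theorem un_not_center (L : Type) [Field L] : un L (Multiplicative.ofAdd 1) ∉ center (SpecialLinearGroup (Fin 2) L) := by
  intro h
  obtain ⟨r, -, hr⟩ := Matrix.SpecialLinearGroup.mem_center_iff.1 h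
  have h2 : (scalar (Fin 2) r) 0 1 = (1 : L) := by
    rw [hr]
    rfl
  rw [scalar_apply, diagonal_apply_ne _ (by decide)] at h2
  exact zero_ne_one h2

theorem center_of_injective {H : Type*} [Group H] {L : Type*} [Field L] (f : SpecialLinearGroup (Fin 2) L →* H)
    (hf : Function.Injective f) {a : SpecialLinearGroup (Fin 2) L} (h : f a ∈ center H) :
    a ∈ center (SpecialLinearGroup (Fin 2) L) := by
  rw [mem_center_iff] at h ⊢
  intro s
  apply hf
  rw [map_mul, map_mul, h]

theorem psl67 {F : Type} [Field F] [Fintype F] {n : ℕ} (hn : 6 ≤ n)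
    (h : KH N (Matrix.ProjectiveSpecialLinearGroup (Fin n) F)) (h3 : ¬ 3 ∣ Fintype.card F) : Fintype.card F = 2 := by
  have hb : 2 * 3 ≤ n := by omega
  set π := QuotientGroup.mk' (center (SpecialLinearGroup (Fin n) F)) with hπ
  refine three_blocks h h3 (π.comp (KillPSL.f hb 0)) (π.comp (KillPSL.f hb 1)) (π.comp (KillPSL.f hb 2))
    (fun a b => ?_) (fun a b => ?_) (fun a b => ?_) (fun a b c h1 => ?_) (fun a ha => ?_)
  · simp only [MonoidHom.comp_apply]
    rw [← map_mul, KillPSL.f_comm hb (by decide), map_mul]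
  · simp only [MonoidHom.comp_apply]
    rw [← map_mul, KillPSL.f_comm hb (by decide), map_mul]
  · simp only [MonoidHom.comp_apply]
    rw [← map_mul, KillPSL.f_comm hb (by decide), map_mul]
  · exact hi_of_center π (by rw [hπ, QuotientGroup.ker_mk']) _ _ _ (KillPSL.f_injective hb 0)
      (KillPSL.f_injective hb 1) (KillPSL.f_injective hb 2) (KillPSL.f_comm hb (by decide))
      (KillPSL.f_comm hb (by decide)) (KillPSL.f_comm hb (by decide)) a b c h1
  · have h1 : KillPSL.f hb 0 a ∈ center (SpecialLinearGroup (Fin n) F) := (QuotientGroup.eq_one_iff _).1 ha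
    obtain ⟨r, -, hr⟩ := Matrix.SpecialLinearGroup.mem_center_iff.1 h1
    have h2 : (KillPSL.f hb 0 a : Matrix (Fin n) (Fin n) F) = scalar (Fin n) r := hr.symm
    have e : ∀ i : Fin 3, ∀ s t : Fin 2, (scalar (Fin n) r) (KillPSL.eqv hb (Sum.inl (s, i)))
        (KillPSL.eqv hb (Sum.inl (t, i))) = ((Pi.mulSingle 0 a : Fin 3 → SpecialLinearGroup (Fin 2) F) i :
          Matrix (Fin 2) (Fin 2) F) s t := by
      intro i s t
      rw [← h2]
      exact KillPSL.blk_apply hb _ i s t
    have e1 := e 1 0 0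
    rw [Pi.mulSingle_eq_of_ne (by decide), scalar_apply, diagonal_apply_eq] at e1
    have hr1 : r = 1 := by rw [e1]; rfl
    apply Subtype.ext
    ext s t
    have e0 := e 0 s t
    rw [Pi.mulSingle_eq_same, hr1, map_one] at e0
    rw [← e0]
    change (1 : Matrix (Fin n) (Fin n) F) _ _ = (1 : Matrix (Fin 2) (Fin 2) F) s t
    rw [one_apply, one_apply]
    by_cases hst : s = t
    · subst hst; simp
    · rw [if_neg hst, if_neg]
      intro h5
      apply hst
      simpa using h5

theorem psu67 {F : Type*} [Field F] [Fintype F] {n q : ℕ} (hF : Fintype.card F = q ^ 2) (hn : 6 ≤ n)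
    (h : KH N (PSU n F q)) (h3 : q % 3 = 1) : False := by
  obtain ⟨K, _, _, hK, hf⟩ := KillPSU.exists_blocks hF
  obtain ⟨f, hi, hc⟩ := hf n
  set π := QuotientGroup.mk' (center (SU n F q)) with hπ
  have c1 : ∀ a b, f 0 (by omega) a * f 2 (by omega) b = f 2 (by omega) b * f 0 (by omega) a :=
    hc _ _ _ _ (by omega)
  have c2 : ∀ a b, f 0 (by omega) a * f 4 (by omega) b = f 4 (by omega) b * f 0 (by omega) a :=
    hc _ _ _ _ (by omega)
  have c3 : ∀ a b, f 2 (by omega) a * f 4 (by omega) b = f 4 (by omega) b * f 2 (by omega) a :=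
    hc _ _ _ _ (by omega)
  refine three_blocks_one h (L := K) (by rw [hK]; exact h3) (π.comp (f 0 (by omega))) (π.comp (f 2 (by omega)))
    (π.comp (f 4 (by omega))) (fun a b => ?_) (fun a b => ?_) (fun a b => ?_) (fun a b c h1 => ?_) (fun ha => ?_)
  · simp only [MonoidHom.comp_apply]
    rw [← map_mul, c1, map_mul]
  · simp only [MonoidHom.comp_apply]
    rw [← map_mul, c2, map_mul]
  · simp only [MonoidHom.comp_apply]
    rw [← map_mul, c3, map_mul]
  · exact hi_of_center π (by rw [hπ, QuotientGroup.ker_mk']) _ _ _ (hi _ _) (hi _ _) (hi _ _) c1 c2 c3 a b c h1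
  · exact un_not_center K (center_of_injective _ (hi _ _) ((QuotientGroup.eq_one_iff _).1 ha))

theorem psp6 {F : Type} [Field F] [Fintype F] (h : KH N (PSp 3 F)) (h3 : ¬ 3 ∣ Fintype.card F) :
    Fintype.card F = 2 := by
  set π := QuotientGroup.mk' (center (symplecticGroup (Fin 3) F)) with hπ
  refine three_blocks h h3 (π.comp (KillPSp.f 0)) (π.comp (KillPSp.f 1)) (π.comp (KillPSp.f 2))
    (fun a b => ?_) (fun a b => ?_) (fun a b => ?_) (fun a b c h1 => ?_) (fun a ha => ?_)
  · simp only [MonoidHom.comp_apply]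
    rw [← map_mul, KillPSp.f_comm (by decide), map_mul]
  · simp only [MonoidHom.comp_apply]
    rw [← map_mul, KillPSp.f_comm (by decide), map_mul]
  · simp only [MonoidHom.comp_apply]
    rw [← map_mul, KillPSp.f_comm (by decide), map_mul]
  · exact hi_of_center π (by rw [hπ, QuotientGroup.ker_mk']) _ _ _ (KillPSp.f_injective 0)
      (KillPSp.f_injective 1) (KillPSp.f_injective 2) (KillPSp.f_comm (by decide))
      (KillPSp.f_comm (by decide)) (KillPSp.f_comm (by decide)) a b c h1
  · have h1 : KillPSp.f 0 a ∈ center (symplecticGroup (Fin 3) F) := (QuotientGroup.eq_one_iff _).1 ha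
    obtain ⟨r, hr⟩ := (LieClassical.SympCenter.mem_center_iff 3 _).1 h1
    have h2 : KillPSp.bm (Pi.mulSingle 0 a : Fin 3 → SpecialLinearGroup (Fin 2) F) =
        r • (1 : Matrix (Fin 3 ⊕ Fin 3) (Fin 3 ⊕ Fin 3) F) := hr
    have e1 := congrFun (congrFun h2 (Sum.inl 1)) (Sum.inl 1)
    have hr1 : r = 1 := by
      simp [KillPSp.bm] at e1
      exact e1.symm
    rw [hr1, one_smul] at h2
    apply Subtype.ext
    ext s t
    fin_cases s <;> fin_cases t
    · have := congrFun (congrFun h2 (Sum.inl 0)) (Sum.inl 0)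
      simpa [KillPSp.bm] using this
    · have := congrFun (congrFun h2 (Sum.inl 0)) (Sum.inr 0)
      simpa [KillPSp.bm] using this
    · have := congrFun (congrFun h2 (Sum.inr 0)) (Sum.inl 0)
      simpa [KillPSp.bm] using this
    · have := congrFun (congrFun h2 (Sum.inr 0)) (Sum.inr 0)
      simpa [KillPSp.bm] using this

end Cfsg.Agent.H344.KillB
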