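import Cfsg.Agent.H950.Count

/-!
# The number of `m`-subspaces modulo a prime (helper344, S4243, task 3494)

* `not_two_dvd` : `q` odd, `n = 2 ^ v * k`, `k` odd: the number of `2 ^ v`-subspaces of `F^n` is odd;
* `not_dvd_of_mod` : `e` the order of `q` modulo `p`, `e ∤ n`: `p` does not divide the number of `(n % e)`-subspaces;
* `not_dvd_of_dvd` : `e ∣ n`, `p ∤ n / e`: `p` does not divide the number of `e`-subspaces.
-/

set_option autoImplicit false

namespace Cfsg.Agent.H344.Kw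

open Module

/-- `q ^ (a s) - 1 = (q ^ a - 1) * u` -/
theorem pow_sub_one (Q s : ℕ) (hQ : 1 ≤ Q) : Q ^ s - 1 = (Q - 1) * ∑ i ∈ Finset.range s, Q ^ i := by
  obtain ⟨c, rfl⟩ : ∃ c, Q = c + 1 := ⟨Q - 1, by omega⟩
  have h : (c + 1 - 1) * ∑ i ∈ Finset.range s, (c + 1) ^ i + 1 = (c + 1) ^ s := by
    rw [Nat.add_sub_cancel]
    induction s with
    | zero => simp
    | succ s ih =>
      rw [Finset.sum_range_succ, mul_add, pow_succ]
      have h2 : c * ∑ i ∈ Finset.range s, (c + 1) ^ i + 1 = (c + 1) ^ s := ih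
      calc c * ∑ i ∈ Finset.range s, (c + 1) ^ i + c * (c + 1) ^ s + 1 =
          (c * ∑ i ∈ Finset.range s, (c + 1) ^ i + 1) + c * (c + 1) ^ s := by ring
        _ = (c + 1) ^ s + c * (c + 1) ^ s := by rw [h2]
        _ = (c + 1) ^ s * (c + 1) := by ring
  omega

theorem sum_modEq {p Q s : ℕ} (h : Q ≡ 1 [MOD p]) : ∑ i ∈ Finset.range s, Q ^ i ≡ s [MOD p] := by
  induction s with
  | zero => rfl
  | succ s ih =>
    rw [Finset.sum_range_succ]
    have h2 : Q ^ s ≡ 1 [MOD p] := by simpa using h.pow s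
    exact ih.add h2

theorem exists_odd_factor {Q s : ℕ} (hQ : Odd Q) (hs : Odd s) : ∃ u, Odd u ∧ Q ^ s - 1 = (Q - 1) * u := by
  refine ⟨∑ i ∈ Finset.range s, Q ^ i, ?_, pow_sub_one Q s hQ.pos⟩
  have h : Q ≡ 1 [MOD 2] := by
    rw [Nat.odd_iff] at hQ
    exact hQ
  have h2 := sum_modEq (s := s) h
  rw [Nat.odd_iff] at hs ⊢
  rw [← hs]
  exact h2

/-- two exponents with the same 2-part -/
theorem exists_ratio {q a b c : ℕ} (hq : Odd q) (ha : ∃ s, Odd s ∧ a = 2 ^ c * s) (hb : ∃ s, Odd s ∧ b = 2 ^ c * s) :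
    ∃ u u' : ℕ, Odd u ∧ Odd u' ∧ (q ^ b - 1) * u = (q ^ a - 1) * u' := by
  obtain ⟨s, hs, rfl⟩ := ha
  obtain ⟨s', hs', rfl⟩ := hb
  obtain ⟨u, hu, h1⟩ := exists_odd_factor (hq.pow (n := 2 ^ c)) hs
  obtain ⟨u', hu', h2⟩ := exists_odd_factor (hq.pow (n := 2 ^ c)) hs'
  refine ⟨u, u', hu, hu', ?_⟩
  rw [pow_mul, pow_mul, h1, h2]
  ring

theorem exists_two_part {i : ℕ} (hi : 0 < i) : ∃ c s, Odd s ∧ i = 2 ^ c * s := by
  obtain ⟨c, s, hs, rfl⟩ := Nat.exists_eq_pow_mul_and_not_dvd hi.ne' 2 (by norm_num)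
  exact ⟨c, s, Nat.odd_iff.2 (by omega), rfl⟩

/-- the 2-part of `n - m + i`, `0 < i ≤ 2 ^ v`, `n - m` divisible by `2 ^ (v + 1)` -/
theorem two_part_add {v i t : ℕ} (hi : 0 < i) (hiv : i ≤ 2 ^ v) :
    ∃ c, (∃ s, Odd s ∧ i = 2 ^ c * s) ∧ ∃ s, Odd s ∧ 2 ^ (v + 1) * t + i = 2 ^ c * s := by
  obtain ⟨c, s, hs, h⟩ := exists_two_part hi
  have hc : c ≤ v := by
    by_contra hc
    have h1 : 2 ^ (v + 1) ≤ 2 ^ c := Nat.pow_le_pow_right (by norm_num) (by omega)
    have h2 : 2 ^ c ≤ i := by rw [h]; exact Nat.le_mul_of_pos_right _ hs.pos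
    have h3 : 2 ^ (v + 1) = 2 * 2 ^ v := by rw [pow_succ]; ring
    have h4 : 0 < 2 ^ v := pow_pos (by norm_num) v
    omega
  refine ⟨c, ⟨s, hs, h⟩, 2 ^ (v + 1 - c) * t + s, ?_, ?_⟩
  · have h1 : Even (2 ^ (v + 1 - c) * t) := by
      have : Even (2 ^ (v + 1 - c)) := by
        rw [Nat.even_pow]
        exact ⟨by norm_num, by omega⟩
      exact this.mul_right t
    exact h1.add_odd hs
  · rw [h, mul_add, ← mul_assoc, ← pow_add]
    congr 3
    omega

variable {F : Type*} [Field F] [Fintype F] {V : Type*} [AddCommGroup V] [Module F V] [FiniteDimensional F V]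

/-- **`p = 2`**. -/
theorem not_two_dvd (hq : Odd (Fintype.card F)) {v k : ℕ} (hk : Odd k) (hV : finrank F V = 2 ^ v * k) :
    ¬ 2 ∣ Nat.card {W : Submodule F V // finrank F W = 2 ^ v} := by
  set q := Fintype.card F with hqd
  set m := 2 ^ v with hm
  have hm0 : 0 < m := pow_pos (by norm_num) v
  have hkm : m ≤ m * k := Nat.le_mul_of_pos_right _ hk.pos
  have h := H950.card_subspaces_eq (F := F) (V := V) hV hkm rfl
  rw [← hqd] at h
  set N := Nat.card {W : Submodule F V // finrank F W = m}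
  have key : ∀ j : Fin m, ∃ u : ℕ × ℕ, Odd u.1 ∧ Odd u.2 ∧
      (q ^ (m * k - j.val) - 1) * u.1 = (q ^ (m - j.val) - 1) * u.2 := by
    intro j
    obtain ⟨t, ht⟩ : ∃ t, k = 2 * t + 1 := hk
    obtain ⟨c, h1, h2⟩ := two_part_add (v := v) (i := m - j.val) (t := t) (by omega) (by omega)
    obtain ⟨u, u', hu, hu', e⟩ := exists_ratio hq h1 h2
    refine ⟨(u, u'), hu, hu', ?_⟩
    have h3 : 2 ^ (v + 1) * t + (m - j.val) = m * k - j.val := by
      have h4 : 2 ^ (v + 1) * t = m * (2 * t) := by rw [pow_succ, hm]; ring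
      have h5 : m * k = m * (2 * t) + m := by rw [ht]; ring
      rw [h4, h5]
      omega
    rw [h3] at e
    exact e
  choose u hu1 hu2 hu using key
  have hpos : 0 < ∏ j : Fin m, (q ^ (m - j.val) - 1) := by
    apply Finset.prod_pos
    intro j _
    have h1 : 1 < q := Fintype.one_lt_card
    have : 1 < q ^ (m - j.val) := Nat.one_lt_pow (by omega) h1
    omega
  have h1 : N * ∏ j : Fin m, (u j).1 = ∏ j : Fin m, (u j).2 := by
    apply Nat.eq_of_mul_eq_mul_left hpos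
    calc (∏ j : Fin m, (q ^ (m - j.val) - 1)) * (N * ∏ j : Fin m, (u j).1) =
        (N * ∏ j : Fin m, (q ^ (m - j.val) - 1)) * ∏ j : Fin m, (u j).1 := by ring
      _ = (∏ j : Fin m, (q ^ (m * k - j.val) - 1)) * ∏ j : Fin m, (u j).1 := by rw [h]
      _ = ∏ j : Fin m, (q ^ (m * k - j.val) - 1) * (u j).1 := by rw [Finset.prod_mul_distrib]
      _ = ∏ j : Fin m, (q ^ (m - j.val) - 1) * (u j).2 := Finset.prod_congr rfl fun j _ => hu j
      _ = _ := by rw [Finset.prod_mul_distrib]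
  have h2 : Odd (∏ j : Fin m, (u j).2) := Finset.prod_induction _ Odd (fun _ _ h h2 => h.mul h2) odd_one fun j _ => hu2 j
  rw [← h1] at h2
  intro hd
  have h3 : Odd N := Nat.Odd.of_mul_left h2
  rw [Nat.odd_iff] at h3
  omega

/-- **`e ∤ n`**. -/
theorem not_dvd_of_mod {p e n : ℕ} (hp : p.Prime) (he : ∀ i, p ∣ Fintype.card F ^ i - 1 ↔ e ∣ i)
    (he0 : 0 < e) (hV : finrank F V = n) :
    ¬ p ∣ Nat.card {W : Submodule F V // finrank F W = n % e} := by
  intro hd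
  have h := H950.card_subspaces_eq (F := F) (V := V) hV (Nat.mod_le n e) rfl
  have h1 : p ∣ ∏ j : Fin (n % e), (Fintype.card F ^ (n - j.val) - 1) := h ▸ Dvd.dvd.mul_right hd _
  obtain ⟨j, -, hj⟩ := (hp.prime.dvd_finsetProd_iff _).1 h1
  rw [he] at hj
  have h2 := Nat.mod_lt n he0
  have h3 := j.2
  have h4 := Nat.div_add_mod n e
  obtain ⟨c, hc⟩ := hj
  -- `n - j = e c`, `n = e d + n % e`
  have h5 : n % e = (n % e - j.val) + j.val := by omega
  have h6 : e * c = e * (n / e) + (n % e - j.val) := by omega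
  have h7 : e ∣ n % e - j.val := by
    rw [← Nat.dvd_add_right (Dvd.intro _ rfl : e ∣ e * (n / e)), ← h6]
    exact Dvd.intro _ rfl
  have h8 := Nat.le_of_dvd (by omega) h7
  omega

/-- **`e ∣ n`**. -/
theorem not_dvd_of_dvd {p e k : ℕ} (hp : p.Prime) (he : ∀ i, p ∣ Fintype.card F ^ i - 1 ↔ e ∣ i)
    (he0 : 0 < e) (hV : finrank F V = e * k) (hk0 : 0 < k) (hk : ¬ p ∣ k) :
    ¬ p ∣ Nat.card {W : Submodule F V // finrank F W = e} := by
  intro hd
  set q := Fintype.card F with hqd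
  have hq : 1 < q := Fintype.one_lt_card
  have hle : e ≤ e * k := Nat.le_mul_of_pos_right _ hk0
  have h := H950.card_subspaces_eq (F := F) (V := V) hV hle rfl
  rw [← hqd] at h
  set N := Nat.card {W : Submodule F V // finrank F W = e}
  obtain ⟨d, rfl⟩ : ∃ d, e = d + 1 := ⟨e - 1, by omega⟩
  rw [Fin.prod_univ_succ, Fin.prod_univ_succ] at h
  simp only [Fin.val_zero, Nat.sub_zero, Fin.val_succ] at h
  have hpos : 0 < q ^ (d + 1) - 1 := by
    have : 1 < q ^ (d + 1) := Nat.one_lt_pow (by omega) hq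
    omega
  have hsum : q ^ ((d + 1) * k) - 1 = (q ^ (d + 1) - 1) * ∑ i ∈ Finset.range k, (q ^ (d + 1)) ^ i := by
    rw [pow_mul]
    exact pow_sub_one _ _ (Nat.one_le_pow _ _ (by omega))
  rw [hsum] at h
  have h1 : N * ∏ j : Fin d, (q ^ (d + 1 - (j.val + 1)) - 1) =
      (∑ i ∈ Finset.range k, (q ^ (d + 1)) ^ i) * ∏ j : Fin d, (q ^ ((d + 1) * k - (j.val + 1)) - 1) := by
    apply Nat.eq_of_mul_eq_mul_left hpos
    linarith [h]
  have h2 : p ∣ (∑ i ∈ Finset.range k, (q ^ (d + 1)) ^ i) * ∏ j : Fin d, (q ^ ((d + 1) * k - (j.val + 1)) - 1) :=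
    h1 ▸ Dvd.dvd.mul_right hd _
  rcases hp.dvd_mul.1 h2 with h3 | h3
  · have h4 : q ^ (d + 1) ≡ 1 [MOD p] := by
      have h5 : p ∣ q ^ (d + 1) - 1 := (he _).2 dvd_rfl
      exact ((Nat.modEq_iff_dvd' (by omega)).2 h5).symm
    have h5 := sum_modEq (s := k) h4
    exact hk ((h5.dvd_iff dvd_rfl).1 h3)
  · obtain ⟨j, -, hj⟩ := (hp.prime.dvd_finsetProd_iff _).1 h3
    rw [he] at hj
    have h4 : d + 1 ∣ j.val + 1 := by
      have h5 := (Nat.dvd_sub (Dvd.intro _ rfl : d + 1 ∣ (d + 1) * k) hj)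
      have h6 : (d + 1) * k - ((d + 1) * k - (j.val + 1)) = j.val + 1 := by
        have := j.2
        omega
      rwa [h6] at h5
    have h5 := Nat.le_of_dvd (by omega) h4
    have := j.2
    omega

end Cfsg.Agent.H344.Kw
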