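import Cfsg.Agent.H838.KW.Cent
import Mathlib.LinearAlgebra.Matrix.SpecialLinearGroup
import Mathlib.LinearAlgebra.Matrix.SchurComplement

/-!
# The parabolic principle for `SL_n(F)` (helper344, S4243, task 3494)

* `exists_fixed` : a `p`-subgroup of `SL_n(F)` fixes an `m`-subspace if `p` does not divide the number of `m`-subspaces;
* `rad W` : the unipotent radical of the stabiliser of `W`;
* `mem_center_of_commute` : a `p`-element, `p ≠ r`, fixing `W` and commuting with `rad W` is a scalar;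
* `noP_psl` : the parabolic principle.
-/

set_option autoImplicit false
set_option linter.unusedSectionVars false

namespace Cfsg.Agent.H344.Kw

open Module Matrix Cfsg.Agent.H146.KW Cfsg.Agent.H838.KW

variable {F : Type} [Field F] [Fintype F] {n : ℕ}

local notation "SLn" => Matrix.SpecialLinearGroup (Fin n) F
local notation "Vn" => (Fin n → F)

/-- the image of a subspace -/
def im (g : SLn) (W : Submodule F Vn) : Submodule F Vn := W.map (Matrix.SpecialLinearGroup.toLin' g : Vn →ₗ[F] Vn)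

theorem mem_im {g : SLn} {W : Submodule F Vn} {v : Vn} : v ∈ im g W ↔ ∃ w ∈ W, (g : Matrix (Fin n) (Fin n) F) *ᵥ w = v :=
  Iff.rfl

theorem im_one (W : Submodule F Vn) : im (1 : SLn) W = W := by
  ext v
  rw [mem_im]
  constructor
  · rintro ⟨w, hw, rfl⟩
    rwa [Matrix.SpecialLinearGroup.coe_one, one_mulVec]
  · intro hv
    exact ⟨v, hv, by rw [Matrix.SpecialLinearGroup.coe_one, one_mulVec]⟩

theorem im_mul (g h : SLn) (W : Submodule F Vn) : im (g * h) W = im g (im h W) := by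
  ext v
  rw [mem_im, mem_im]
  constructor
  · rintro ⟨w, hw, rfl⟩
    exact ⟨_, mem_im.2 ⟨w, hw, rfl⟩, by rw [Matrix.SpecialLinearGroup.coe_mul, mulVec_mulVec]⟩
  · rintro ⟨_, hw', rfl⟩
    obtain ⟨w, hw, rfl⟩ := mem_im.1 hw'
    exact ⟨w, hw, by rw [Matrix.SpecialLinearGroup.coe_mul, mulVec_mulVec]⟩

theorem finrank_im (g : SLn) (W : Submodule F Vn) : finrank F (im g W) = finrank F W :=
  LinearEquiv.finrank_map_eq (Matrix.SpecialLinearGroup.toLin' g) W

/-- the action on the `m`-subspaces -/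
@[reducible] def act (P : Subgroup SLn) (m : ℕ) : MulAction P {W : Submodule F Vn // finrank F W = m} where
  smul g W := ⟨im g.1 W.1, by rw [finrank_im, W.2]⟩
  one_smul W := Subtype.ext (im_one _)
  mul_smul g h W := Subtype.ext (im_mul _ _ _)

theorem exists_fixed {p : ℕ} [Fact p.Prime] {P : Subgroup SLn} (hP : IsPGroup p P) {m : ℕ}
    (h : ¬ p ∣ Nat.card {W : Submodule F Vn // finrank F W = m}) :
    ∃ W : Submodule F Vn, finrank F W = m ∧ ∀ g ∈ P, im g W = W := by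
  let _ := act P m
  have : Finite (Submodule F Vn) := Finite.of_injective (fun W => (W : Set Vn)) SetLike.coe_injective
  obtain ⟨W, hW⟩ := hP.nonempty_fixed_point_of_prime_not_dvd_card _ h
  refine ⟨W.1, W.2, fun g hg => ?_⟩
  exact congrArg Subtype.val (hW ⟨g, hg⟩)

/-- the unipotent radical of the stabiliser of `W` -/
def rad (W : Submodule F Vn) : Subgroup SLn where
  carrier := {g | (∀ v : Vn, (g : Matrix (Fin n) (Fin n) F) *ᵥ v - v ∈ W) ∧
    ∀ w ∈ W, (g : Matrix (Fin n) (Fin n) F) *ᵥ w = w}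
  one_mem' := ⟨fun v => by simp, fun w _ => by simp⟩
  mul_mem' := by
    rintro g h ⟨hg1, hg2⟩ ⟨hh1, hh2⟩
    refine ⟨fun v => ?_, fun w hw => ?_⟩
    · rw [Matrix.SpecialLinearGroup.coe_mul, ← mulVec_mulVec]
      have h1 := W.add_mem (hg1 ((h : Matrix (Fin n) (Fin n) F) *ᵥ v)) (hh1 v)
      rwa [sub_add_sub_cancel] at h1
    · rw [Matrix.SpecialLinearGroup.coe_mul, ← mulVec_mulVec, hh2 w hw, hg2 w hw]
  inv_mem' := by
    rintro g ⟨hg1, hg2⟩
    have hinv : ∀ v : Vn, ((g⁻¹ : SLn) : Matrix (Fin n) (Fin n) F) *ᵥ ((g : Matrix (Fin n) (Fin n) F) *ᵥ v) = v := by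
      intro v
      rw [mulVec_mulVec, ← Matrix.SpecialLinearGroup.coe_mul, inv_mul_cancel, Matrix.SpecialLinearGroup.coe_one, one_mulVec]
    have hinv' : ∀ v : Vn, (g : Matrix (Fin n) (Fin n) F) *ᵥ (((g⁻¹ : SLn) : Matrix (Fin n) (Fin n) F) *ᵥ v) = v := by
      intro v
      rw [mulVec_mulVec, ← Matrix.SpecialLinearGroup.coe_mul, mul_inv_cancel, Matrix.SpecialLinearGroup.coe_one, one_mulVec]
    have h2 : ∀ w ∈ W, ((g⁻¹ : SLn) : Matrix (Fin n) (Fin n) F) *ᵥ w = w := by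
      intro w hw
      have := hinv w
      rwa [hg2 w hw] at this
    refine ⟨fun v => ?_, h2⟩
    have h3 := hg1 (((g⁻¹ : SLn) : Matrix (Fin n) (Fin n) F) *ᵥ v)
    rw [hinv'] at h3
    have h4 := W.neg_mem h3
    rwa [neg_sub] at h4

theorem mem_rad {W : Submodule F Vn} {g : SLn} : g ∈ rad W ↔ (∀ v : Vn, (g : Matrix (Fin n) (Fin n) F) *ᵥ v - v ∈ W) ∧
    ∀ w ∈ W, (g : Matrix (Fin n) (Fin n) F) *ᵥ w = w := Iff.rfl

theorem rad_conj {W : Submodule F Vn} {s : SLn} (hs : im s W = W) {a : SLn} (ha : a ∈ rad W) : s * a * s⁻¹ ∈ rad W := by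
  obtain ⟨h1, h2⟩ := ha
  have hinv' : ∀ v : Vn, (s : Matrix (Fin n) (Fin n) F) *ᵥ (((s⁻¹ : SLn) : Matrix (Fin n) (Fin n) F) *ᵥ v) = v := by
    intro v
    rw [mulVec_mulVec, ← Matrix.SpecialLinearGroup.coe_mul, mul_inv_cancel, Matrix.SpecialLinearGroup.coe_one, one_mulVec]
  have hinv : ∀ v : Vn, ((s⁻¹ : SLn) : Matrix (Fin n) (Fin n) F) *ᵥ ((s : Matrix (Fin n) (Fin n) F) *ᵥ v) = v := by
    intro v
    rw [mulVec_mulVec, ← Matrix.SpecialLinearGroup.coe_mul, inv_mul_cancel, Matrix.SpecialLinearGroup.coe_one, one_mulVec]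
  have hsW : ∀ w ∈ W, (s : Matrix (Fin n) (Fin n) F) *ᵥ w ∈ W := fun w hw => by
    rw [← hs]; exact mem_im.2 ⟨w, hw, rfl⟩
  have hsW' : ∀ w ∈ W, ((s⁻¹ : SLn) : Matrix (Fin n) (Fin n) F) *ᵥ w ∈ W := fun w hw => by
    rw [← hs] at hw
    obtain ⟨v, hv, rfl⟩ := mem_im.1 hw
    rwa [hinv]
  refine ⟨fun v => ?_, fun w hw => ?_⟩
  · rw [Matrix.SpecialLinearGroup.coe_mul, Matrix.SpecialLinearGroup.coe_mul, ← mulVec_mulVec, ← mulVec_mulVec]
    have h3 := hsW _ (h1 (((s⁻¹ : SLn) : Matrix (Fin n) (Fin n) F) *ᵥ v))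
    rwa [mulVec_sub, hinv'] at h3
  · rw [Matrix.SpecialLinearGroup.coe_mul, Matrix.SpecialLinearGroup.coe_mul, ← mulVec_mulVec, ← mulVec_mulVec,
      h2 _ (hsW' w hw), hinv']

/-- the transvections in `rad W` -/
theorem exists_trans {W : Submodule F Vn} {w φ : Vn} (hw : w ∈ W) (hφ : ∀ v ∈ W, φ ⬝ᵥ v = 0) :
    ∃ a ∈ rad W, ∀ v : Vn, (a : Matrix (Fin n) (Fin n) F) *ᵥ v = v + (φ ⬝ᵥ v) • w := by
  have hdet : (1 + vecMulVec w φ).det = 1 := by
    rw [vecMulVec_eq Unit, det_one_add_replicateCol_mul_replicateRow, hφ w hw, add_zero]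
  have hact : ∀ v : Vn, (1 + vecMulVec w φ) *ᵥ v = v + (φ ⬝ᵥ v) • w := by
    intro v
    rw [add_mulVec, one_mulVec, vecMulVec_mulVec]
    congr 1
    ext i
    simp [mul_comm]
  refine ⟨⟨1 + vecMulVec w φ, hdet⟩, ⟨fun v => ?_, fun v hv => ?_⟩, hact⟩
  · show (1 + vecMulVec w φ) *ᵥ v - v ∈ W
    rw [hact, add_sub_cancel_left]
    exact W.smul_mem _ hw
  · show (1 + vecMulVec w φ) *ᵥ v = v
    rw [hact, hφ v hv, zero_smul, add_zero]

/-- the annihilator of `W` in coordinates -/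
theorem exists_ann {W : Submodule F Vn} {v : Vn} (hv : v ∉ W) : ∃ φ : Vn, (∀ w ∈ W, φ ⬝ᵥ w = 0) ∧ φ ⬝ᵥ v = 1 := by
  obtain ⟨f, hf1, hf2⟩ := Submodule.exists_le_ker_of_notMem hv
  have hrep : ∀ (f : Vn →ₗ[F] F) (x : Vn), (fun i => f (Pi.single i 1)) ⬝ᵥ x = f x := by
    intro f x
    conv_rhs => rw [← Finset.univ_sum_single x, map_sum]
    simp only [dotProduct]
    refine Finset.sum_congr rfl fun i _ => ?_
    have : Pi.single i (x i) = x i • (Pi.single i (1 : F) : Vn) := by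
      ext j
      by_cases h : j = i
      · subst h; simp
      · simp [h]
    rw [this, map_smul, smul_eq_mul, mul_comm]
  refine ⟨fun i => ((f v)⁻¹ • f) (Pi.single i 1), fun w hw => ?_, ?_⟩
  · rw [hrep, LinearMap.smul_apply, LinearMap.mem_ker.1 (hf2 hw), smul_zero]
  · rw [hrep, LinearMap.smul_apply, smul_eq_mul, inv_mul_cancel₀ hf1]

theorem isPGroup_rad {r : ℕ} [hr : Fact r.Prime] [CharP F r] (W : Submodule F Vn) : IsPGroup r (rad W) := by
  rintro ⟨g, hg1, hg2⟩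
  have key : ∀ (m : ℕ) (v : Vn), ((g ^ m : SLn) : Matrix (Fin n) (Fin n) F) *ᵥ v =
      v + (m : F) • ((g : Matrix (Fin n) (Fin n) F) *ᵥ v - v) := by
    intro m
    induction m with
    | zero => intro v; rw [pow_zero, Matrix.SpecialLinearGroup.coe_one, one_mulVec, Nat.cast_zero, zero_smul, add_zero]
    | succ m ih =>
      intro v
      rw [pow_succ', Matrix.SpecialLinearGroup.coe_mul, ← mulVec_mulVec, ih, mulVec_add, mulVec_smul,
        hg2 _ (hg1 v), Nat.cast_succ, add_smul, one_smul]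
      abel
  refine ⟨1, Subtype.ext ?_⟩
  show g ^ r ^ 1 = 1
  rw [pow_one]
  apply Subtype.ext
  apply Matrix.toLin'.injective
  apply LinearMap.ext
  intro v
  rw [toLin'_apply, toLin'_apply]
  refine (key r v).trans ?_
  rw [CharP.cast_eq_zero, zero_smul, add_zero]
  show v = ((1 : SLn) : Matrix (Fin n) (Fin n) F) *ᵥ v
  rw [Matrix.SpecialLinearGroup.coe_one, one_mulVec]

/-- **A `p`-element commuting with `rad W` is a scalar.** -/
theorem mem_center_of_commute {W : Submodule F Vn} (hW0 : W ≠ ⊥) (hW1 : W ≠ ⊤) {s : SLn}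
    (hc : ∀ a ∈ rad W, a * s = s * a) {p k : ℕ} (hs : s ^ p ^ k = 1) (hp0 : (p : F) ≠ 0) :
    s ∈ Subgroup.center SLn := by
  obtain ⟨w0, hw0, hw0'⟩ := Submodule.exists_mem_ne_zero_of_ne_bot hW0
  obtain ⟨v0, hv0⟩ : ∃ v0, v0 ∉ W := by
    by_contra h
    push Not at h
    exact hW1 (eq_top_iff.2 fun v _ => h v)
  obtain ⟨φ0, hφ0, hφ1⟩ := exists_ann hv0
  have star : ∀ w ∈ W, ∀ φ : Vn, (∀ v ∈ W, φ ⬝ᵥ v = 0) → ∀ v : Vn,
      (φ ⬝ᵥ ((s : Matrix (Fin n) (Fin n) F) *ᵥ v)) • w = (φ ⬝ᵥ v) • ((s : Matrix (Fin n) (Fin n) F) *ᵥ w) := by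
    intro w hw φ hφ v
    obtain ⟨a, ha, hav⟩ := exists_trans hw hφ
    have h1 := hc a ha
    have h2 : (a : Matrix (Fin n) (Fin n) F) *ᵥ ((s : Matrix (Fin n) (Fin n) F) *ᵥ v) =
        (s : Matrix (Fin n) (Fin n) F) *ᵥ ((a : Matrix (Fin n) (Fin n) F) *ᵥ v) := by
      rw [mulVec_mulVec, mulVec_mulVec, ← Matrix.SpecialLinearGroup.coe_mul, ← Matrix.SpecialLinearGroup.coe_mul, h1]
    rw [hav, hav, mulVec_add, mulVec_smul] at h2
    exact add_left_cancel h2
  obtain ⟨c, hcd⟩ : ∃ c : F, c = φ0 ⬝ᵥ ((s : Matrix (Fin n) (Fin n) F) *ᵥ v0) := ⟨_, rfl⟩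
  have hsW : ∀ w ∈ W, (s : Matrix (Fin n) (Fin n) F) *ᵥ w = c • w := by
    intro w hw
    have := star w hw φ0 hφ0 v0
    rw [hφ1, one_smul, ← hcd] at this
    exact this.symm
  have hN : ∀ v : Vn, (s : Matrix (Fin n) (Fin n) F) *ᵥ v - c • v ∈ W := by
    intro v
    by_contra hv
    obtain ⟨φ, h1, h2⟩ := exists_ann hv
    have h3 := star w0 hw0 φ h1 v
    rw [hsW w0 hw0, smul_smul] at h3
    have h4 : φ ⬝ᵥ ((s : Matrix (Fin n) (Fin n) F) *ᵥ v) = (φ ⬝ᵥ v) * c := smul_left_injective F hw0' h3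
    rw [dotProduct_sub, dotProduct_smul, h4, smul_eq_mul, mul_comm, sub_self] at h2
    exact zero_ne_one h2
  have key : ∀ (m : ℕ) (v : Vn), ((s ^ m : SLn) : Matrix (Fin n) (Fin n) F) *ᵥ v =
      c ^ m • v + ((m : F) * c ^ (m - 1)) • ((s : Matrix (Fin n) (Fin n) F) *ᵥ v - c • v) := by
    intro m
    induction m with
    | zero =>
      intro v
      rw [pow_zero, Matrix.SpecialLinearGroup.coe_one, one_mulVec, Nat.cast_zero, zero_mul, zero_smul, add_zero,
        pow_zero, one_smul]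
    | succ m ih =>
      intro v
      rw [pow_succ', Matrix.SpecialLinearGroup.coe_mul, ← mulVec_mulVec, ih, mulVec_add, mulVec_smul, mulVec_smul,
        hsW _ (hN v), smul_smul, Nat.cast_succ, Nat.add_sub_cancel]
      have h1 : (m : F) * c ^ (m - 1) * c = m * c ^ m := by
        rcases Nat.eq_zero_or_pos m with rfl | hm
        · simp
        · rw [mul_assoc, ← pow_succ, Nat.sub_add_cancel hm]
      rw [h1, pow_succ, add_mul, one_mul, add_smul, smul_sub (c ^ m), smul_smul (c ^ m)]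
      abel
  have hp0' : ((p ^ k : ℕ) : F) ≠ 0 := by
    rw [Nat.cast_pow]
    exact pow_ne_zero _ hp0
  have hcm : c ^ p ^ k = 1 := by
    have h1 := key (p ^ k) w0
    rw [hs, Matrix.SpecialLinearGroup.coe_one, one_mulVec, hsW w0 hw0, sub_self, smul_zero, add_zero] at h1
    have h2 : (1 : F) • w0 = c ^ p ^ k • w0 := by rw [one_smul]; exact h1
    exact (smul_left_injective F hw0' h2).symm
  have hc0 : c ≠ 0 := by
    rintro rfl
    have hpk : p ^ k ≠ 0 := by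
      intro h
      rw [h, Nat.cast_zero] at hp0'
      exact hp0' rfl
    rw [zero_pow hpk] at hcm
    exact zero_ne_one hcm
  have hsv : ∀ v : Vn, (s : Matrix (Fin n) (Fin n) F) *ᵥ v = c • v := by
    intro v
    have h1 := key (p ^ k) v
    rw [hs, Matrix.SpecialLinearGroup.coe_one, one_mulVec, hcm, one_smul] at h1
    have h2 := (left_eq_add.1 h1)
    rcases smul_eq_zero.1 h2 with h3 | h3
    · exact absurd h3 (mul_ne_zero hp0' (pow_ne_zero _ hc0))
    · exact sub_eq_zero.1 h3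
  rw [Subgroup.mem_center_iff]
  intro g
  apply Subtype.ext
  apply Matrix.toLin'.injective
  apply LinearMap.ext
  intro v
  rw [toLin'_apply, toLin'_apply]
  show ((g * s : SLn) : Matrix (Fin n) (Fin n) F) *ᵥ v = ((s * g : SLn) : Matrix (Fin n) (Fin n) F) *ᵥ v
  rw [Matrix.SpecialLinearGroup.coe_mul, Matrix.SpecialLinearGroup.coe_mul, ← mulVec_mulVec, ← mulVec_mulVec, hsv,
    hsv, mulVec_smul]

/-- **The parabolic principle.** -/
theorem noP_psl {p r : ℕ} [Fact p.Prime] [hr : Fact r.Prime] [CharP F r] (hpr : p ≠ r) {m : ℕ} (hm0 : 0 < m)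
    (hmn : m < n) (h : ¬ p ∣ Nat.card {W : Submodule F Vn // finrank F W = m})
    (hZ : ¬ r ∣ Nat.card (Subgroup.center SLn)) :
    NoP p r (Matrix.ProjectiveSpecialLinearGroup (Fin n) F) := by
  have hp0 : (p : F) ≠ 0 := by
    rw [Ne, CharP.cast_eq_zero_iff F r p]
    intro hd
    exact hpr ((Nat.prime_dvd_prime_iff_eq hr.out Fact.out).1 hd).symm
  refine noP_of_central (G := SLn) (Z := Subgroup.center SLn) hZ fun H hH hrH x hx hxp => ?_
  obtain ⟨P⟩ : Nonempty (Sylow p SLn) := inferInstance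
  obtain ⟨W, hWm, hW⟩ := exists_fixed P.isPGroup' h
  have hW0 : W ≠ ⊥ := by
    rintro rfl
    rw [finrank_bot] at hWm
    omega
  have hW1 : W ≠ ⊤ := by
    rintro rfl
    rw [finrank_top, finrank_fin_fun] at hWm
    omega
  refine mem_of_normalizes hH hrH P (isPGroup_rad (r := r) W) (fun s hs a ha => rad_conj (hW s hs) ha)
    (fun s hs hc => ?_) hx hxp
  obtain ⟨k, hk⟩ := P.isPGroup' ⟨s, hs⟩
  exact mem_center_of_commute hW0 hW1 hc (congrArg Subtype.val hk) hp0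

end Cfsg.Agent.H344.Kw
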