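import Cfsg.Agent.H356.RedSimple
import Cfsg.Agent.Lib.Cores
import Cfsg.Prelude.Def_Transfer

/-!
# The group `3^{1+2} : SL(2,3)` without central involution (helper344)
-/

set_option autoImplicit false

namespace Cfsg.Agent.H344.LocA

open Subgroup Matrix

structure CC (H : Type*) [Group H] (R : Subgroup H) (a : H) : Prop where
  cardH : Nat.card H = 648
  cardR : Nat.card R = 27
  nR : R.Normal
  expR : ∀ r ∈ R, r ^ 3 = 1
  ac : ∀ h : H, a * h = h * a
  ao : orderOf a = 3
  aR : a ∈ R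
  comR : ∀ x ∈ R, ∀ y ∈ R, x * y * x⁻¹ * y⁻¹ ∈ zpowers a
  cenR : ∀ z ∈ R, (∀ r ∈ R, z * r = r * z) → z ∈ zpowers a
  nt : ∀ t : H, (∀ h, t * h = h * t) → t ^ 2 = 1 → t = 1

theorem sq_eq_one_iff : ∀ s : SpecialLinearGroup (Fin 2) (ZMod 3), s ^ 2 = 1 → s = 1 ∨ s = -1 := by
  decide +kernel

theorem card_sl : Nat.card (SpecialLinearGroup (Fin 2) (ZMod 3)) = 24 := by
  rw [Nat.card_eq_fintype_card]
  decide +kernel

/-- a nontrivial normal subgroup of `SL(2,3)` contains `-1` -/
theorem neg_one_mem (M : Subgroup (SpecialLinearGroup (Fin 2) (ZMod 3))) [M.Normal] (hM : M ≠ ⊥) : -1 ∈ M := by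
  by_cases h2 : 2 ∣ Nat.card M
  · have : Fact (Nat.Prime 2) := ⟨Nat.prime_two⟩
    obtain ⟨s, hs⟩ := exists_prime_orderOf_dvd_card' 2 h2
    have hs' : orderOf (s : SpecialLinearGroup (Fin 2) (ZMod 3)) = 2 := by rw [Subgroup.orderOf_coe, hs]
    rcases sq_eq_one_iff s (orderOf_dvd_iff_pow_eq_one.1 hs'.dvd) with h1 | h1
    · rw [h1, orderOf_one] at hs'
      norm_num at hs'
    · rw [← h1]
      exact s.2
  · exfalso
    have h1 := M.card_mul_index
    rw [card_sl] at h1
    have h3 : Nat.Coprime (Nat.card M) 8 :=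
      (Nat.Coprime.pow_right 3 (Nat.coprime_two_right.2 (Nat.not_even_iff_odd.1 fun h => h2 (even_iff_two_dvd.1 h))) :
        Nat.Coprime (Nat.card M) (2 ^ 3))
    have h4 : Nat.card M ∣ 3 := h3.dvd_of_dvd_mul_left (show Nat.card M ∣ 8 * 3 from ⟨_, h1.symm⟩)
    rcases (Nat.dvd_prime Nat.prime_three).1 h4 with h5 | h5
    · exact hM (Subgroup.card_eq_one.1 h5)
    · have h6 : M.index = 8 := by rw [h5] at h1; omega
      have h7 := H356.Red.normal_top M (by rw [h6]; norm_num)
      rw [h7, Subgroup.index_top] at h6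
      norm_num at h6

variable {H : Type*} [Group H] {R : Subgroup H} {a : H}

theorem CC.zc (h : CC H R a) {z : H} (hz : z ∈ zpowers a) (g : H) : z * g = g * z := by
  obtain ⟨k, rfl⟩ := hz
  exact (show Commute a g from h.ac g).zpow_left k

/-- an element acting trivially on `R / ⟨a⟩` belongs to `R` -/
theorem CC.nat (h : CC H R a) (π : H →* SpecialLinearGroup (Fin 2) (ZMod 3)) (hπ : Function.Surjective π)
    (hk : π.ker = R) {c : H} (hc : ∀ x ∈ R, c * x * c⁻¹ * x⁻¹ ∈ zpowers a) : c ∈ R := by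
  by_contra hcR
  have nR := h.nR
  -- the kernel of the action
  let K0 : Subgroup H :=
    { carrier := {c | ∀ x ∈ R, c * x * c⁻¹ * x⁻¹ ∈ zpowers a}
      one_mem' := fun x hx => by simp
      mul_mem' := fun {c d} hc hd x hx => by
        have h1 := hd x hx
        have h2 := hc (d * x * d⁻¹) (nR.conj_mem x hx d)
        have h3 := mul_mem h2 h1
        convert h3 using 1
        group
      inv_mem' := fun {c} hc x hx => by
        have h1 : c⁻¹ * x * c ∈ R := by
          have := nR.conj_mem x hx c⁻¹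
          rwa [inv_inv] at this
        have h2 := inv_mem (hc _ h1)
        convert h2 using 1
        group }
  have hK0 : K0.Normal := by
    constructor
    intro c hc g x hx
    have h1 : g⁻¹ * x * g ∈ R := by
      have := nR.conj_mem x hx g⁻¹
      rwa [inv_inv] at this
    have h2 := hc _ h1
    have h3 : g * c * g⁻¹ * x * (g * c * g⁻¹)⁻¹ * x⁻¹ =
        g * (c * (g⁻¹ * x * g) * c⁻¹ * (g⁻¹ * x * g)⁻¹) * g⁻¹ := by group
    rw [h3, ← h.zc h2 g, mul_inv_cancel_right]
    exact h2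
  have hcK : c ∈ K0 := hc
  have h1 : (K0.map π).Normal := hK0.map π hπ
  have h2 : -1 ∈ K0.map π := by
    apply neg_one_mem
    intro h2
    apply hcR
    rw [← hk, MonoidHom.mem_ker]
    have : π c ∈ K0.map π := ⟨c, hcK, rfl⟩
    rwa [h2, mem_bot] at this
  obtain ⟨c1, hc1, hc1'⟩ := h2
  have h3 : c1 ^ 2 ∈ R := by
    rw [← hk, MonoidHom.mem_ker, map_pow, hc1']
    decide
  set t := c1 ^ 3 with ht
  have ht2 : t ^ 2 = 1 := by
    rw [ht, ← pow_mul, show 3 * 2 = 2 * 3 by norm_num, pow_mul]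
    exact h.expR _ h3
  have htπ : π t = -1 := by
    rw [ht, map_pow, hc1']
    decide
  have htK : t ∈ K0 := pow_mem hc1 3
  have ha3 : ∀ z ∈ zpowers a, z ^ 3 = 1 := by
    rintro _ ⟨k, rfl⟩
    change (a ^ k) ^ 3 = 1
    rw [← zpow_natCast, ← _root_.zpow_mul, mul_comm, _root_.zpow_mul, zpow_natCast, ← h.ao, pow_orderOf_eq_one,
      _root_.one_zpow]
  have hone : ∀ z : H, z ^ 2 = 1 → z ^ 3 = 1 → z = 1 := by
    intro z h2 h3
    rw [pow_succ, h2, one_mul] at h3
    exact h3
  have htt : t⁻¹ = t := by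
    rw [inv_eq_iff_mul_eq_one, ← pow_two]
    exact ht2
  -- `t` centralizes `R`
  have htR : ∀ x ∈ R, t * x = x * t := by
    intro x hx
    have hz := htK x hx
    set z := t * x * t⁻¹ * x⁻¹ with hzdef
    have h4 : t * x * t⁻¹ = z * x := by rw [hzdef]; group
    have h5 : z ^ 2 = 1 := by
      have h6 : t * (t * x * t⁻¹) * t⁻¹ = x := by
        calc t * (t * x * t⁻¹) * t⁻¹ = t ^ 2 * x * (t ^ 2)⁻¹ := by rw [pow_two]; group
          _ = x := by rw [ht2]; group
      have h7 : t * (t * x * t⁻¹) * t⁻¹ = z * (t * x * t⁻¹) := by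
        conv_lhs => rw [h4]
        calc t * (z * x) * t⁻¹ = (t * z) * x * t⁻¹ := by group
          _ = z * t * x * t⁻¹ := by rw [← h.zc hz]
          _ = _ := by group
      rw [h7, h4, ← mul_assoc, ← pow_two] at h6
      exact mul_eq_right.1 h6
    have h6 := hone z h5 (ha3 z hz)
    rw [h6, one_mul] at h4
    exact mul_inv_eq_iff_eq_mul.1 h4
  -- `t` is central
  have htc : ∀ g : H, t * g = g * t := by
    intro g
    set q := t * g * t⁻¹ * g⁻¹ with hq
    have hqR : q ∈ R := by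
      rw [← hk, MonoidHom.mem_ker, hq, map_mul, map_mul, map_mul, map_inv, map_inv, htπ]
      have h4 : ∀ s : SpecialLinearGroup (Fin 2) (ZMod 3), -1 * s * (-1)⁻¹ * s⁻¹ = 1 := by
        intro s
        have h5 : (-1 : SpecialLinearGroup (Fin 2) (ZMod 3))⁻¹ = -1 := by decide
        rw [h5, neg_mul, one_mul, neg_mul_neg, mul_one, mul_inv_cancel]
      exact h4 _
    have h4 : t * g * t⁻¹ = q * g := by rw [hq]; group
    have h5 : q ^ 2 = 1 := by
      have h6 : t * (t * g * t⁻¹) * t⁻¹ = g := by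
        calc t * (t * g * t⁻¹) * t⁻¹ = t ^ 2 * g * (t ^ 2)⁻¹ := by rw [pow_two]; group
          _ = g := by rw [ht2]; group
      have h7 : t * (t * g * t⁻¹) * t⁻¹ = q * (t * g * t⁻¹) := by
        conv_lhs => rw [h4]
        calc t * (q * g) * t⁻¹ = (t * q) * g * t⁻¹ := by group
          _ = q * t * g * t⁻¹ := by rw [htR q hqR]
          _ = _ := by group
      rw [h7, h4, ← mul_assoc, ← pow_two] at h6
      exact mul_eq_right.1 h6
    have h6 := hone q h5 (h.expR q hqR)
    rw [h6, one_mul] at h4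
    exact mul_inv_eq_iff_eq_mul.1 h4
  have h4 := h.nt t htc ht2
  rw [h4, map_one] at htπ
  exact absurd htπ (by decide)

/-- `R / ⟨a⟩` is irreducible -/
theorem CC.irr [Finite H] (h : CC H R a) (π : H →* SpecialLinearGroup (Fin 2) (ZMod 3)) (hπ : Function.Surjective π)
    (hk : π.ker = R) {D : Subgroup H} (hD : D.Normal) (haD : a ∈ D) (hDR : D ≤ R) (h9 : 9 ≤ Nat.card D) : D = R := by
  have nR := h.nR
  have hZn : normalizer (zpowers a : Set H) = ⊤ := by
    rw [eq_top_iff]
    intro g _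
    apply mem_normalizer_fintype
    intro z hz
    rw [← h.zc hz g, mul_inv_cancel_right]
    exact hz
  refine H356.Red.irr2 (A := ⊤) (Q := R) (Z := zpowers a) (D := D) h.cardR (by rw [Nat.card_zpowers, h.ao])
    (π.comp (⊤ : Subgroup H).subtype) ?_ ?_ hZn (by rw [normalizer_eq_top]) le_top ?_
    (by rw [zpowers_le]; exact haD) hDR (by rw [normalizer_eq_top]) h9
  · intro s
    obtain ⟨g, rfl⟩ := hπ s
    exact ⟨⟨g, mem_top g⟩, rfl⟩
  · ext g
    rw [MonoidHom.mem_ker, mem_subgroupOf, ← hk, MonoidHom.mem_ker]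
    rfl
  · intro c _
    constructor
    · intro hc x hx
      exact h.comR c hc x hx
    · intro hc
      exact h.nat π hπ hk hc

end Cfsg.Agent.H344.LocA
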