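import Cfsg.Agent.H344.Cases

/-!
# From the centralizer of an element of order 3 to `Hyp` (helper344)
-/

set_option autoImplicit false

namespace Cfsg.Agent.H344.Local

open Subgroup Cfsg Cfsg.Agent.H344.Wr Cfsg.Agent.H344.Reduce

universe u

variable {G : Type u} [Group G]

theorem comm_of_mem_zpowers {a z s : G} (h : a ∈ zpowers z) (hs : z * s = s * z) : a * s = s * a := by
  obtain ⟨k, rfl⟩ := h
  exact (show Commute z s from hs).zpow_left k

/-- a Sylow 3-subgroup with the property `Hyp` -/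
theorem exists_hyp [Finite G] {a : G} (ha : orderOf a = 3) {n : ℕ} (hn : ¬ 3 ∣ n)
    (hC : Nat.card (centralizer ({a} : Set G)) = 81 * n) {J : Subgroup G} (hJC : J ≤ centralizer ({a} : Set G))
    (hJ : ∀ a ∈ J, ∀ b ∈ J, a * b = b * a) (hexp : ∀ a ∈ J, a ^ 3 = 1) (hcard : Nat.card J = 27)
    (hcen : ∀ T : Subgroup G, T ≤ centralizer ({a} : Set G) → Nat.card T = 81 → J ≤ T →
      ∀ z ∈ T, (∀ s ∈ T, z * s = s * z) → z ∈ zpowers a) :
    ∃ S : Sylow 3 G, Hyp (S : Subgroup G) J a ∧ (S : Subgroup G) ≤ centralizer ({a} : Set G) := by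
  have f3 : Fact (Nat.Prime 3) := ⟨Nat.prime_three⟩
  set C := centralizer ({a} : Set G) with hCdef
  have n0 : n ≠ 0 := fun h => hn (h ▸ dvd_zero 3)
  -- the Sylow subgroup of `C`
  have hJp : IsPGroup 3 (J.subgroupOf C) := by
    apply IsPGroup.of_card (n := 3)
    rw [Nat.card_congr (subgroupOfEquivOfLe hJC).toEquiv, hcard]
    norm_num
  obtain ⟨T, hT⟩ := hJp.exists_le_sylow
  have hTc : Nat.card (T : Subgroup C) = 81 := by
    rw [T.card_eq_multiplicity, hC, Nat.factorization_mul (by norm_num) n0]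
    have h1 : Nat.factorization 81 3 = 4 := by
      rw [show (81 : ℕ) = 3 ^ 4 by norm_num, Nat.factorization_pow]
      simp [Nat.prime_three.factorization_self]
    rw [Finsupp.add_apply, h1, Nat.factorization_eq_zero_of_not_dvd hn]
    norm_num
  set S0 := (T : Subgroup C).map C.subtype with hS0
  have hS0c : Nat.card S0 = 81 := by
    rw [hS0, Subgroup.card_map_of_injective (Subgroup.subtype_injective _), hTc]
  have hS0C : S0 ≤ C := Subgroup.map_subtype_le _
  have hJS : J ≤ S0 := fun j hj => ⟨⟨j, hJC hj⟩, hT hj, rfl⟩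
  have hS0p : IsPGroup 3 S0 := IsPGroup.of_card (n := 4) (by rw [hS0c]; norm_num)
  obtain ⟨P, hP⟩ := hS0p.exists_le_sylow
  have haC : a ∈ C := by rw [hCdef, mem_centralizer_singleton_iff]
  -- `P ∩ C = S₀`
  have hinter : (P : Subgroup G) ⊓ C = S0 := by
    symm
    refine Subgroup.eq_of_le_of_card_ge (le_inf hP hS0C) ?_
    have h1 : IsPGroup 3 ((P : Subgroup G) ⊓ C : Subgroup G) := P.isPGroup'.to_le inf_le_left
    obtain ⟨k, hk⟩ := IsPGroup.iff_card.1 h1
    have h2 : Nat.card ((P : Subgroup G) ⊓ C : Subgroup G) ∣ 81 * n := by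
      rw [← hC]
      exact Subgroup.card_dvd_of_le inf_le_right
    rw [hS0c, hk]
    rw [hk] at h2
    have h3 : Nat.Coprime (3 ^ k) n := ((Nat.Prime.coprime_iff_not_dvd Nat.prime_three).2 hn).pow_left k
    exact Nat.le_of_dvd (by norm_num) (h3.dvd_of_dvd_mul_right h2)
  -- `a ∈ S₀`
  have haS : a ∈ S0 := by
    have hz : IsPGroup 3 (zpowers (⟨a, haC⟩ : C)) := by
      apply IsPGroup.of_card (n := 1)
      rw [Nat.card_zpowers, Subgroup.orderOf_mk, ha, pow_one]
    have h1 : (⟨a, haC⟩ : C) ∈ T := by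
      apply mem_sylow T hz
      rw [mem_normalizer_iff]
      intro s
      have h2 : (⟨a, haC⟩ : C) * s * (⟨a, haC⟩ : C)⁻¹ = s := by
        rw [mul_inv_eq_iff_eq_mul]
        exact Subtype.ext (mem_centralizer_singleton_iff.1 s.2).symm
      rw [h2]
    exact ⟨_, h1, rfl⟩
  -- `P` centralizes `a`
  have hPC : (P : Subgroup G) ≤ C := by
    have hnt : Nontrivial (P : Subgroup G) := by
      rw [Subgroup.nontrivial_iff_ne_bot]
      intro h1
      have h2 := Subgroup.card_dvd_of_le hP
      rw [h1, hS0c] at h2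
      simp at h2
    have := P.isPGroup'.center_nontrivial
    obtain ⟨z, hz1⟩ := exists_ne (1 : center (P : Subgroup G))
    have hzc : ∀ s ∈ (P : Subgroup G), ((z : (P : Subgroup G)) : G) * s = s * z := by
      intro s hs
      have := Subgroup.mem_center_iff.1 z.2 ⟨s, hs⟩
      exact (congrArg Subtype.val this).symm
    have hzC : ((z : (P : Subgroup G)) : G) ∈ C := by
      rw [hCdef, mem_centralizer_singleton_iff]
      exact hzc a (hP haS)
    have hzS : ((z : (P : Subgroup G)) : G) ∈ S0 := by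
      rw [← hinter]
      exact ⟨z.1.2, hzC⟩
    have hza := hcen S0 hS0C hS0c hJS _ hzS fun s hs => hzc s (hP hs)
    have hz1' : ((z : (P : Subgroup G)) : G) ≠ 1 := fun h => hz1 (Subtype.ext (Subtype.ext h))
    have hzo : orderOf ((z : (P : Subgroup G)) : G) = 3 := by
      have h1 : orderOf ((z : (P : Subgroup G)) : G) ∣ 3 := (orderOf_dvd_of_mem_zpowers hza).trans ha.dvd
      rcases (Nat.dvd_prime Nat.prime_three).1 h1 with h2 | h2
      · exact absurd (orderOf_eq_one_iff.1 h2) hz1'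
      · exact h2
    have h1 := zpowers_eq_of_mem ha hzo hza
    have h2 : a ∈ zpowers ((z : (P : Subgroup G)) : G) := by rw [h1]; exact mem_zpowers a
    intro s hs
    rw [hCdef, mem_centralizer_singleton_iff]
    exact (comm_of_mem_zpowers h2 (hzc s hs)).symm
  have hPS : (P : Subgroup G) = S0 := by rw [← hinter, inf_eq_left.2 hPC]
  refine ⟨P, ⟨by rw [hPS, hS0c], by rw [hPS]; exact hJS, hJ, hexp, hcard, by rw [hPS]; exact haS, ha, ?_, ?_⟩, hPC⟩
  · intro s hs
    exact (mem_centralizer_singleton_iff.1 (hPC hs)).symm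
  · rw [hPS]
    exact hcen S0 hS0C hS0c hJS

end Cfsg.Agent.H344.Local
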