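import Cfsg.Agent.H344.Groups
import Cfsg.Agent.H344.KillB

/-!
# Subgroups of order 27 of `PSL₂(27)` (helper344)
-/

set_option autoImplicit false

namespace Cfsg.Agent.H344.PslTS

open Subgroup Cfsg Matrix Cfsg.Agent.H344.Wr Cfsg.Agent.H344.Blocks

/-- subgroups of order 27 are conjugate when `81 ∤ |K|` -/
theorem comm_of_card {K : Type*} [Group K] [Finite K] (h81 : ¬ 81 ∣ Nat.card K) {A B : Subgroup K}
    (hA : Nat.card A = 27) (hB : Nat.card B = 27) (hab : ∀ a ∈ A, ∀ b ∈ A, a * b = b * a) :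
    ∀ a ∈ B, ∀ b ∈ B, a * b = b * a := by
  have f3 : Fact (Nat.Prime 3) := ⟨Nat.prime_three⟩
  have h27 : 27 ∣ Nat.card K := hA ▸ Subgroup.card_subgroup_dvd_card A
  have hfac : (Nat.card K).factorization 3 = 3 := by
    have h0 : Nat.card K ≠ 0 := Nat.card_pos.ne'
    apply le_antisymm
    · by_contra h
      apply h81
      have := (Nat.prime_three.pow_dvd_iff_le_factorization h0).2 (show 4 ≤ (Nat.card K).factorization 3 by omega)
      norm_num at this
      exact this
    · exact (Nat.prime_three.pow_dvd_iff_le_factorization h0).1 (by norm_num; exact h27)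
  let P : Sylow 3 K := Sylow.ofCard A (by rw [hA, hfac]; norm_num)
  let Q : Sylow 3 K := Sylow.ofCard B (by rw [hB, hfac]; norm_num)
  obtain ⟨g, hg⟩ := MulAction.exists_smul_eq K Q P
  have h1 : ∀ b ∈ B, g * b * g⁻¹ ∈ A := by
    intro b hb
    have h2 : g * b * g⁻¹ ∈ ((g • Q : Sylow 3 K) : Subgroup K) := by
      rw [Sylow.coe_subgroup_smul]
      exact ⟨b, hb, rfl⟩
    rw [hg] at h2
    exact h2
  intro a ha b hb
  have h3 := hab _ (h1 a ha) _ (h1 b hb)
  have h4 : g * (a * b) * g⁻¹ = g * (b * a) * g⁻¹ := by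
    calc g * (a * b) * g⁻¹ = g * a * g⁻¹ * (g * b * g⁻¹) := by group
      _ = g * (b * a) * g⁻¹ := by rw [h3]; group
  exact mul_left_cancel (mul_right_cancel h4)

/-- the unipotent group of `PSL₂(27)` -/
theorem exists_abelian {F : Type} [Field F] [Fintype F] (hF : Fintype.card F = 27) {K : Type*} [Group K]
    (e : K ≃* ProjectiveSpecialLinearGroup (Fin 2) F) :
    ∃ A : Subgroup K, Nat.card A = 27 ∧ ∀ a ∈ A, ∀ b ∈ A, a * b = b * a := by
  let f : Multiplicative F →* K :=
    e.symm.toMonoidHom.comp ((QuotientGroup.mk' (center (SpecialLinearGroup (Fin 2) F))).comp (un F))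
  have hf : Function.Injective f := by
    rw [injective_iff_map_eq_one]
    intro x hx
    have h1 : (QuotientGroup.mk' (center (SpecialLinearGroup (Fin 2) F))) (un F x) = 1 :=
      e.symm.injective (hx.trans (map_one _).symm)
    have h2 := (QuotientGroup.eq_one_iff _).1 h1
    obtain ⟨r, -, hr⟩ := Matrix.SpecialLinearGroup.mem_center_iff.1 h2
    have h3 : (scalar (Fin 2) r) 0 1 = (Multiplicative.toAdd x : F) := by
      rw [hr]
      rfl
    rw [scalar_apply, diagonal_apply_ne _ (by decide)] at h3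
    exact Multiplicative.toAdd.injective h3.symm
  refine ⟨f.range, ?_, ?_⟩
  · rw [← Nat.card_congr (MonoidHom.ofInjective hf).toEquiv, Nat.card_eq_fintype_card, Fintype.card_multiplicative, hF]
  · rintro _ ⟨a, rfl⟩ _ ⟨b, rfl⟩
    rw [← map_mul, mul_comm, map_mul]

theorem not_81 {F : Type} [Field F] [Fintype F] (hF : Fintype.card F = 27) {K : Type*} [Group K]
    (e : K ≃* ProjectiveSpecialLinearGroup (Fin 2) F) : ¬ 81 ∣ Nat.card K := by
  rw [Nat.card_congr e.toEquiv, Groups.card_psl27 hF]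
  norm_num

theorem comm_of_27 {F : Type} [Field F] [Fintype F] (hF : Fintype.card F = 27) {K : Type*} [Group K] [Finite K]
    (e : K ≃* ProjectiveSpecialLinearGroup (Fin 2) F) {B : Subgroup K} (hB : Nat.card B = 27) :
    ∀ a ∈ B, ∀ b ∈ B, a * b = b * a := by
  obtain ⟨A, hA, hab⟩ := exists_abelian hF e
  exact comm_of_card (not_81 hF e) hA hB hab

universe u

variable {G : Type u} [Group G]

/-- `|G : K|` divides 6 -/
theorem index_dvd [Finite G] {F : Type} [Field F] [Fintype F] (hF : Fintype.card F = 27) (K : Subgroup G) [K.Normal]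
    (hc : centralizer (K : Set G) = ⊥) (e : K ≃* ProjectiveSpecialLinearGroup (Fin 2) F) : K.index ∣ 6 := by
  have h1 := Subgroup.card_dvd_of_injective _ (Reduce.conjNormal_injective K hc)
  rw [OutA.card_mulAut_congr e, Groups.card_aut_psl27 hF, ← K.card_mul_index, Nat.card_congr e.toEquiv,
    Groups.card_psl27 hF] at h1
  exact Nat.dvd_of_mul_dvd_mul_left (by norm_num) (show 9828 * K.index ∣ 9828 * 6 from h1)

/-- `J ≤ K` -/
theorem J_le [Finite G] {S : Sylow 3 G} {J : Subgroup G} {x : G} (h : Hyp (S : Subgroup G) J x)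
    {F : Type} [Field F] [Fintype F] (hF : Fintype.card F = 27) {K : Subgroup G} (hK : K.Normal)
    (e : K ≃* ProjectiveSpecialLinearGroup (Fin 2) F) : J ≤ K := by
  obtain ⟨A, hA, hab⟩ := exists_abelian hF e
  obtain ⟨g, hg⟩ := h.exists_eq (A := A.map K.subtype) (by
    rintro _ ⟨a, ha, rfl⟩ _ ⟨b, hb, rfl⟩
    rw [← map_mul, hab a ha b hb, map_mul]) (by
    rw [Subgroup.card_map_of_injective (Subgroup.subtype_injective _), hA])
  intro j hj
  have h1 : g * j * g⁻¹ ∈ A.map K.subtype := by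
    rw [hg]
    exact ⟨j, hj, rfl⟩
  obtain ⟨k, -, hk⟩ := h1
  have h2 : g * j * g⁻¹ ∈ K := by rw [← hk]; exact k.2
  have h3 := hK.conj_mem _ h2 g⁻¹
  have e1 : g⁻¹ * (g * j * g⁻¹) * g⁻¹⁻¹ = j := by group
  rwa [e1] at h3

end Cfsg.Agent.H344.PslTS
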