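import Cfsg.Agent.H344.Groups
import Cfsg.Agent.H344.Local
import Cfsg.Agent.H344.LocA
import Cfsg.Agent.H344.PslTS

/-!
# S3342: the centralizer `3^{1+2} : SL(2,3)` (helper344)
-/

set_option autoImplicit false

namespace Cfsg.Agent.H344.RecA

open Subgroup Cfsg Cfsg.Agent.H344.Wr Cfsg.Agent.H344.Reduce Cfsg.Agent.H344.LocA
open scoped commutatorElement

universe u

variable {G : Type u} [Group G]

/-- the hypotheses of S3342 give `CC` -/
theorem cc_of [Finite G] {a : G} (ha : orderOf a = 3) {C : Subgroup G} (hC : C = centralizer ({a} : Set G))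
    (hR : IsExtraspecial 3 (pCore 3 C)) (hRcard : Nat.card (pCore 3 C) = 27)
    (hRexp : ∀ r ∈ pCore 3 C, r ^ 3 = 1)
    (e : C ⧸ pCore 3 C ≃* Matrix.SpecialLinearGroup (Fin 2) (ZMod 3))
    {J : Subgroup G} (hJC : J ≤ C)
    (hJsig : ∀ K : Subgroup G, (Nat.card K).Coprime 3 → (∀ j ∈ J, K.map (MulAut.conj j).toMonoidHom = K) → K = ⊥)
    (haC : a ∈ C) :
    CC C (pCore 3 C) ⟨a, haC⟩ := by
  have hac : ∀ h : C, (⟨a, haC⟩ : C) * h = h * ⟨a, haC⟩ := by
    intro h
    have h1 : (h : G) ∈ centralizer ({a} : Set G) := by rw [← hC]; exact h.2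
    exact Subtype.ext (mem_centralizer_singleton_iff.1 h1).symm
  have hao : orderOf (⟨a, haC⟩ : C) = 3 := by rw [Subgroup.orderOf_mk, ha]
  have haR : (⟨a, haC⟩ : C) ∈ pCore 3 C := by
    have h1 : (zpowers (⟨a, haC⟩ : C)).Normal := by
      constructor
      rintro _ ⟨m, rfl⟩ g
      refine ⟨m, ?_⟩
      change (⟨a, haC⟩ : C) ^ m = g * (⟨a, haC⟩ : C) ^ m * g⁻¹
      rw [← ((show Commute (⟨a, haC⟩ : C) g from hac g).zpow_left m).eq, mul_inv_cancel_right]
    have h2 : IsPGroup 3 (zpowers (⟨a, haC⟩ : C)) := IsPGroup.of_card (n := 1) (by rw [Nat.card_zpowers, hao, pow_one])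
    exact Lib.Cores.le_pCore h1 h2 (mem_zpowers _)
  -- the centre of `R`
  have hcen : ∀ z : pCore 3 C, z ∈ center (pCore 3 C) → (z : C) ∈ zpowers (⟨a, haC⟩ : C) := by
    have h1 : zpowers (⟨⟨a, haC⟩, haR⟩ : pCore 3 C) = center (pCore 3 C) := by
      apply Subgroup.eq_of_le_of_card_ge
      · rw [zpowers_le, mem_center_iff]
        intro g
        exact Subtype.ext (hac g).symm
      · rw [hR.2, Nat.card_zpowers, Subgroup.orderOf_mk, hao]
    intro z hz
    rw [← h1] at hz
    obtain ⟨m, hm⟩ := hz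
    exact ⟨m, congrArg Subtype.val hm⟩
  refine ⟨?_, hRcard, Lib.Cores.pCore_normal 3, hRexp, hac, hao, haR, ?_, ?_, ?_⟩
  · have h1 := (pCore 3 C).card_mul_index
    have h2 : (pCore 3 C).index = 24 := by
      rw [Subgroup.index, Nat.card_congr e.toEquiv, card_sl]
    rw [← h1, hRcard, h2]
  · intro x hx y hy
    have h1 : ⁅(⟨x, hx⟩ : pCore 3 C), ⟨y, hy⟩⁆ ∈ center (pCore 3 C) := by
      rw [← hR.1.2.2]
      exact Subgroup.commutator_mem_commutator (mem_top _) (mem_top _)
    exact hcen _ h1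
  · intro z hz hc
    refine hcen ⟨z, hz⟩ (mem_center_iff.2 fun r => Subtype.ext (hc r r.2).symm)
  · intro t htc ht2
    by_contra ht1
    have h1 := hJsig (zpowers (t : G)) (by
      rw [Nat.card_zpowers]
      refine Nat.Coprime.coprime_dvd_left (orderOf_dvd_of_pow_eq_one (n := 2) ?_) (by norm_num)
      exact congrArg Subtype.val ht2) (fun j hj => by
      rw [MonoidHom.map_zpowers]
      congr 1
      have h2 : (t : G) * j = j * t := congrArg Subtype.val (htc ⟨j, hJC hj⟩)
      change j * t * j⁻¹ = t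
      rw [← h2, mul_inv_cancel_right])
    rw [zpowers_eq_bot] at h1
    exact ht1 (Subtype.ext h1)

/-- a normal subgroup of index 3 of `SL(2,3)` -/
theorem exists_index_three : ∃ M : Subgroup (Matrix.SpecialLinearGroup (Fin 2) (ZMod 3)), M.Normal ∧ M.index = 3 := by
  have h1 : ∀ s t : Matrix.SpecialLinearGroup (Fin 2) (ZMod 3), s ^ 4 = 1 → t ^ 4 = 1 → (s * t) ^ 4 = 1 := by
    decide +kernel
  let M : Subgroup (Matrix.SpecialLinearGroup (Fin 2) (ZMod 3)) :=
    { carrier := {s | s ^ 4 = 1}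
      one_mem' := one_pow 4
      mul_mem' := fun {s t} hs ht => h1 s t hs ht
      inv_mem' := fun {s} hs => by
        change s⁻¹ ^ 4 = 1
        rw [inv_pow, hs, inv_one] }
  have hM : ∀ s, s ∈ M ↔ s ^ 4 = 1 := fun s => Iff.rfl
  refine ⟨M, ⟨fun s hs g => ?_⟩, ?_⟩
  · rw [hM] at hs ⊢
    rw [conj_pow, hs, mul_one, mul_inv_cancel]
  · have h2 := M.card_mul_index
    have h3 : Nat.card M = 8 := by
      have : Nat.card M = Fintype.card {s : Matrix.SpecialLinearGroup (Fin 2) (ZMod 3) // s ^ 4 = 1} := by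
        rw [← Nat.card_eq_fintype_card]
        rfl
      rw [this]
      decide +kernel
    rw [h3, card_sl] at h2
    omega

/-- the Sylow subgroup -/
theorem exists_hyp_of [Finite G] {a : G} (ha : orderOf a = 3) {haC : a ∈ centralizer ({a} : Set G)}
    (hcc : CC (centralizer ({a} : Set G)) (pCore 3 (centralizer ({a} : Set G))) ⟨a, haC⟩)
    (π : centralizer ({a} : Set G) →* Matrix.SpecialLinearGroup (Fin 2) (ZMod 3)) (hπ : Function.Surjective π)
    (hk : π.ker = pCore 3 (centralizer ({a} : Set G)))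
    {J : Subgroup G} (hJC : J ≤ centralizer ({a} : Set G)) (hJ : ∀ a ∈ J, ∀ b ∈ J, a * b = b * a)
    (hexp : ∀ a ∈ J, a ^ 3 = 1) (hcard : Nat.card J = 27) :
    ∃ S : Sylow 3 G, Hyp (S : Subgroup G) J a ∧ (S : Subgroup G) ≤ centralizer ({a} : Set G) := by
  have f3 : Fact (Nat.Prime 3) := ⟨Nat.prime_three⟩
  refine Local.exists_hyp ha (n := 8) (by norm_num) hcc.cardH hJC hJ hexp hcard ?_
  intro T hTC hT81 hJT z hz hzc
  have hT' : Nat.card (T.subgroupOf (centralizer ({a} : Set G))) = 81 := by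
    rw [Nat.card_congr (subgroupOfEquivOfLe hTC).toEquiv, hT81]
  have hfac : (Nat.card (centralizer ({a} : Set G))).factorization 3 = 4 := by
    rw [hcc.cardH, show (648 : ℕ) = 3 ^ 4 * 8 by norm_num, Nat.factorization_mul (by norm_num) (by norm_num),
      Nat.factorization_pow, Finsupp.add_apply,
      Nat.factorization_eq_zero_of_not_dvd (show ¬ 3 ∣ 8 by norm_num)]
    simp [Nat.prime_three.factorization_self]
  let P : Sylow 3 (centralizer ({a} : Set G)) := Sylow.ofCard (T.subgroupOf (centralizer ({a} : Set G)))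
    (by rw [hT', hfac]; norm_num)
  have hRP : pCore 3 (centralizer ({a} : Set G)) ≤ T.subgroupOf (centralizer ({a} : Set G)) :=
    Lib.Cores.pCore_le_sylow P
  have hcomm : ∀ r ∈ pCore 3 (centralizer ({a} : Set G)), (⟨z, hTC hz⟩ : centralizer ({a} : Set G)) * r =
      r * ⟨z, hTC hz⟩ := by
    intro r hr
    exact Subtype.ext (hzc r (hRP hr))
  have hzR : (⟨z, hTC hz⟩ : centralizer ({a} : Set G)) ∈ pCore 3 (centralizer ({a} : Set G)) := by
    apply hcc.nat π hπ hk
    intro x hx
    rw [hcomm x hx, mul_inv_cancel_right, mul_inv_cancel]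
    exact one_mem _
  obtain ⟨m, hm⟩ := hcc.cenR _ hzR hcomm
  exact ⟨m, congrArg Subtype.val hm⟩

/-- `R` is not abelian -/
theorem not_comm {H : Type*} [Group H] [Finite H] {R : Subgroup H} {a : H} (h : CC H R a)
    (hc : ∀ x ∈ R, ∀ y ∈ R, x * y = y * x) : False := by
  have h1 : R ≤ zpowers a := fun x hx => h.cenR x hx fun y hy => hc x hx y hy
  have h2 := Subgroup.card_le_of_le h1
  rw [h.cardR, Nat.card_zpowers, h.ao] at h2
  omega

/-- the case of a normal abelian subgroup -/
theorem normal_of_abelian [Finite G] {a : G} {haC : a ∈ centralizer ({a} : Set G)}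
    (hcc : CC (centralizer ({a} : Set G)) (pCore 3 (centralizer ({a} : Set G))) ⟨a, haC⟩)
    (π : centralizer ({a} : Set G) →* Matrix.SpecialLinearGroup (Fin 2) (ZMod 3)) (hπ : Function.Surjective π)
    (hk : π.ker = pCore 3 (centralizer ({a} : Set G))) {M : Subgroup G} (hM : M.Normal) (haM : a ∈ M)
    (hab : ∀ a ∈ M, ∀ b ∈ M, a * b = b * a) (hp : IsPGroup 3 M) : (zpowers a).Normal := by
  have f3 : Fact (Nat.Prime 3) := ⟨Nat.prime_three⟩
  have hMC : M ≤ centralizer ({a} : Set G) := fun m hm => by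
    rw [mem_centralizer_singleton_iff]
    exact hab m hm a haM
  have hM' : (M.subgroupOf (centralizer ({a} : Set G))).Normal := hM.comap _
  have hp' : IsPGroup 3 (M.subgroupOf (centralizer ({a} : Set G))) :=
    hp.of_equiv (subgroupOfEquivOfLe hMC).symm
  have hle := Lib.Cores.le_pCore hM' hp'
  have haM' : (⟨a, haC⟩ : centralizer ({a} : Set G)) ∈ M.subgroupOf (centralizer ({a} : Set G)) := haM
  by_cases h9 : 9 ≤ Nat.card (M.subgroupOf (centralizer ({a} : Set G)))
  · exfalso
    have h1 := hcc.irr π hπ hk hM' haM' hle h9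
    apply not_comm hcc
    rw [← h1]
    intro x hx y hy
    exact Subtype.ext (hab x hx y hy)
  · have h1 : Nat.card (M.subgroupOf (centralizer ({a} : Set G))) ∣ 3 ^ 3 := by
      have := Subgroup.card_dvd_of_le hle
      rwa [hcc.cardR] at this
    obtain ⟨k, hk3, hk⟩ := (Nat.dvd_prime_pow Nat.prime_three).1 h1
    have h2 : Nat.card M ≤ 3 := by
      rw [← Nat.card_congr (subgroupOfEquivOfLe hMC).toEquiv, hk]
      rw [hk] at h9
      have : k < 2 := by
        by_contra h
        apply h9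
        calc 9 = 3 ^ 2 := by norm_num
          _ ≤ 3 ^ k := Nat.pow_le_pow_right (by norm_num) (by omega)
      calc 3 ^ k ≤ 3 ^ 1 := Nat.pow_le_pow_right (by norm_num) (by omega)
        _ = 3 := by norm_num
    have hao : orderOf a = 3 := by
      have := hcc.ao
      rwa [Subgroup.orderOf_mk] at this
    have h3 : zpowers a = M := by
      apply Subgroup.eq_of_le_of_card_ge
      · rw [zpowers_le]; exact haM
      · rw [Nat.card_zpowers, hao]; exact h2
    rw [h3]
    exact hM

/-- `PSL₂(27)` does not occur -/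
theorem not_psl [Finite G] {a : G} {haC : a ∈ centralizer ({a} : Set G)}
    (hcc : CC (centralizer ({a} : Set G)) (pCore 3 (centralizer ({a} : Set G))) ⟨a, haC⟩)
    (π : centralizer ({a} : Set G) →* Matrix.SpecialLinearGroup (Fin 2) (ZMod 3)) (hπ : Function.Surjective π)
    (hk : π.ker = pCore 3 (centralizer ({a} : Set G))) {K : Subgroup G} (hK : K.Normal) (haK : a ∈ K)
    (hc : centralizer (K : Set G) = ⊥) {F : Type} [Field F] [Fintype F] (hF : Fintype.card F = 27)
    (e : K ≃* Matrix.ProjectiveSpecialLinearGroup (Fin 2) F) : False := by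
  have nR := hcc.nR
  set R := pCore 3 (centralizer ({a} : Set G)) with hR
  have hKC : (K.subgroupOf (centralizer ({a} : Set G))).Normal := hK.comap _
  have h6 : (K.subgroupOf (centralizer ({a} : Set G))).index ∣ 6 := by
    have h1 : K.relIndex (centralizer ({a} : Set G)) ∣ K.index := relIndex_dvd_index_of_normal _ _
    exact h1.trans (PslTS.index_dvd hF K hc e)
  -- `D = R ∩ K`
  have hD1 : (K.subgroupOf (centralizer ({a} : Set G)) ⊓ R).relIndex R *
      Nat.card (K.subgroupOf (centralizer ({a} : Set G)) ⊓ R : Subgroup _) = 27 := by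
    rw [Wr.card_mul_relIndex inf_le_right, hcc.cardR]
  have hD2 : (K.subgroupOf (centralizer ({a} : Set G)) ⊓ R).relIndex R ∣ 6 := by
    rw [inf_relIndex_right]
    exact (relIndex_dvd_index_of_normal _ _).trans h6
  have hD3 : 9 ≤ Nat.card (K.subgroupOf (centralizer ({a} : Set G)) ⊓ R : Subgroup _) := by
    have h1 : (K.subgroupOf (centralizer ({a} : Set G)) ⊓ R).relIndex R ∣ 3 := by
      have h2 := Nat.dvd_gcd (Dvd.intro _ hD1) hD2
      exact h2
    have h2 := Nat.le_of_dvd (by norm_num) h1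
    by_contra h3
    push Not at h3
    have : (K.subgroupOf (centralizer ({a} : Set G)) ⊓ R).relIndex R *
      Nat.card (K.subgroupOf (centralizer ({a} : Set G)) ⊓ R : Subgroup _) ≤ 3 * 8 :=
      Nat.mul_le_mul h2 (by omega)
    omega
  have hDn : (K.subgroupOf (centralizer ({a} : Set G)) ⊓ R).Normal := inferInstance
  have h1 := hcc.irr π hπ hk hDn ⟨haK, hcc.aR⟩ inf_le_right hD3
  have hRK : R ≤ K.subgroupOf (centralizer ({a} : Set G)) := by
    rw [← h1]
    exact inf_le_left
  -- `R` as a subgroup of `K`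
  let f : R →* K :=
    { toFun := fun r => ⟨((r : centralizer ({a} : Set G)) : G), hRK r.2⟩
      map_one' := rfl
      map_mul' := fun _ _ => rfl }
  have hf : Function.Injective f := fun r r' h => by
    have h2 : ((r : centralizer ({a} : Set G)) : G) = ((r' : centralizer ({a} : Set G)) : G) :=
      congrArg (Subtype.val : K → G) h
    exact Subtype.ext (Subtype.ext h2)
  have h2 := PslTS.comm_of_27 hF e (B := f.range) (by
    rw [← Nat.card_congr (MonoidHom.ofInjective hf).toEquiv, hcc.cardR])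
  apply not_comm hcc
  intro x hx y hy
  have h3 := h2 _ ⟨⟨x, hx⟩, rfl⟩ _ ⟨⟨y, hy⟩, rfl⟩
  rw [← map_mul, ← map_mul] at h3
  exact congrArg Subtype.val (hf h3)

/-- the order of `G` -/
theorem card_eq_or [Finite G] (K : Subgroup G) [K.Normal] (hc : centralizer (K : Set G) = ⊥) {X : Type*} [Group X]
    [Finite X] (e : K ≃* X) (hX : Nat.card (MulAut X) = 2 * Nat.card X) :
    (Nat.card G = Nat.card X ∧ Nonempty (G ≃* X)) ∨ (Nat.card G = 2 * Nat.card X ∧ Nonempty (G ≃* MulAut X)) := by
  obtain ⟨φ, hφ, -⟩ := Groups.exists_embedding K hc e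
  have h1 := Subgroup.card_dvd_of_injective _ hφ
  have h2 := K.card_mul_index
  rw [Nat.card_congr e.toEquiv] at h2
  rw [hX, ← h2, mul_comm 2] at h1
  have hX0 : 0 < Nat.card X := Nat.card_pos
  have h3 := Nat.dvd_of_mul_dvd_mul_left hX0 h1
  rcases (Nat.dvd_prime Nat.prime_two).1 h3 with h4 | h4
  · left
    rw [h4, mul_one] at h2
    refine ⟨h2.symm, ⟨?_⟩⟩
    exact (topEquiv.symm.trans (MulEquiv.subgroupCongr (index_eq_one.1 h4).symm)).trans e
  · right
    have h5 : Nat.card G = 2 * Nat.card X := by rw [← h2, h4, mul_comm]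
    refine ⟨h5, ⟨MulEquiv.ofBijective φ ?_⟩⟩
    have : Finite (MulAut X) := by
      apply Nat.finite_of_card_ne_zero
      rw [hX]
      omega
    exact (Nat.bijective_iff_injective_and_card φ).2 ⟨hφ, by rw [h5, hX]⟩

/-- the order of `G` when every automorphism is inner -/
theorem equiv_of_card [Finite G] (K : Subgroup G) [K.Normal] (hc : centralizer (K : Set G) = ⊥) {X : Type*} [Group X]
    [Finite X] (e : K ≃* X) (hX : Nat.card (MulAut X) = Nat.card X) :
    Nat.card G = Nat.card X ∧ Nonempty (G ≃* X) := by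
  obtain ⟨φ, hφ, -⟩ := Groups.exists_embedding K hc e
  have h1 := Subgroup.card_dvd_of_injective _ hφ
  have h2 := K.card_mul_index
  rw [Nat.card_congr e.toEquiv] at h2
  rw [hX, ← h2] at h1
  have hX0 : 0 < Nat.card X := Nat.card_pos
  have h3 : K.index = 1 := by
    have := Nat.dvd_of_mul_dvd_mul_left hX0 (show Nat.card X * K.index ∣ Nat.card X * 1 by rw [mul_one]; exact h1)
    exact Nat.dvd_one.1 this
  rw [h3, mul_one] at h2
  exact ⟨h2.symm, ⟨(topEquiv.symm.trans (MulEquiv.subgroupCongr (index_eq_one.1 h3).symm)).trans e⟩⟩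

/-- **S3342.** -/
theorem main [Finite G]
    (known : ∀ (L : Type u) [Group L] [Finite L] [IsSimpleGroup L], IsKnownSimple' L)
    {a : G} (ha : orderOf a = 3) {C : Subgroup G} (hC : C = centralizer ({a} : Set G))
    (hR : IsExtraspecial 3 (pCore 3 C)) (hRcard : Nat.card (pCore 3 C) = 27)
    (hRexp : ∀ r ∈ pCore 3 C, r ^ 3 = 1)
    (e : C ⧸ pCore 3 C ≃* Matrix.SpecialLinearGroup (Fin 2) (ZMod 3))
    {J : Subgroup G} (hJC : J ≤ C) (hJ : ∀ a ∈ J, ∀ b ∈ J, a * b = b * a) (hexp : ∀ j ∈ J, j ^ 3 = 1)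
    (hcard : Nat.card J = 27)
    (sig : ∀ K : Subgroup G, (Nat.card K).Coprime 3 → (∀ j ∈ J, K.map (MulAut.conj j).toMonoidHom = K) → K = ⊥) :
    ((∀ g : G, g * a * g⁻¹ ≠ a⁻¹) → (∃ N : Subgroup G, N.Normal ∧ N.index = 3) ∨
      ∃ (F : Type) (_ : Field F) (_ : Fintype F), Fintype.card F = 3 ∧ Nonempty (G ≃* PSp 2 F)) ∧
    ((∃ g : G, g * a * g⁻¹ = a⁻¹) → normalizer (zpowers a : Set G) = ⊤ ∨
      (∃ (F : Type) (_ : Field F) (_ : Fintype F), Fintype.card F = 3 ∧ Nonempty (G ≃* MulAut (PSp 2 F))) ∨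
      ∃ (F : Type) (_ : Field F) (_ : Fintype F), Fintype.card F = 2 ∧ Nonempty (G ≃* PSp 3 F)) := by
  subst hC
  have haC : a ∈ centralizer ({a} : Set G) := by rw [mem_centralizer_singleton_iff]
  have hcc := cc_of ha rfl hR hRcard hRexp e hJC sig haC
  let π : centralizer ({a} : Set G) →* Matrix.SpecialLinearGroup (Fin 2) (ZMod 3) :=
    e.toMonoidHom.comp (QuotientGroup.mk' (pCore 3 (centralizer ({a} : Set G))))
  have hπ : Function.Surjective π := e.surjective.comp (QuotientGroup.mk'_surjective _)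
  have hk : π.ker = pCore 3 (centralizer ({a} : Set G)) := by
    ext x
    rw [MonoidHom.mem_ker]
    change e (QuotientGroup.mk' _ x) = 1 ↔ _
    rw [map_eq_one_iff e e.injective]
    exact QuotientGroup.eq_one_iff x
  obtain ⟨S, hS, hSC⟩ := exists_hyp_of ha hcc π hπ hk hJC hJ hexp hcard
  have hmod := Count.card_mod hS (n := 8) hcc.cardH
  rcases Cases.cases hS sig known (by rw [hcc.cardH]) with ⟨M, hM, haM, hab, hp⟩ | ⟨K, hK, haK, hc, hs, hres⟩
  · have hn := normal_of_abelian hcc π hπ hk hM haM hab hp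
    constructor
    · intro hreal
      left
      have htop : centralizer ({a} : Set G) = ⊤ := by
        rw [eq_top_iff]
        intro g _
        rw [mem_centralizer_singleton_iff]
        rcases Count.conj_eq_or ha (hn.conj_mem a (mem_zpowers a) g) with h1 | h1
        · exact mul_inv_eq_iff_eq_mul.1 h1
        · exact absurd h1 (hreal g)
      obtain ⟨M3, hM3, hM3i⟩ := exists_index_three
      let ε : G ≃* centralizer ({a} : Set G) := topEquiv.symm.trans (MulEquiv.subgroupCongr htop.symm)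
      refine ⟨M3.comap (π.comp ε.toMonoidHom), hM3.comap _, ?_⟩
      have hsur : Function.Surjective (π.comp ε.toMonoidHom) := by
        intro s
        obtain ⟨c, rfl⟩ := hπ s
        exact ⟨ε.symm c, congrArg π (ε.apply_symm_apply c)⟩
      rw [Subgroup.index_comap_of_surjective _ hsur, hM3i]
    · intro _
      left
      exact normalizer_eq_top _
  · cases hres with
    | a9 e9 =>
      exfalso
      obtain ⟨e9⟩ := e9
      obtain ⟨φ, hφ, -⟩ := Groups.exists_perm K hc e9
      have h1 := Groups.card_centralizer_dvd φ hφ a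
      rw [hcc.cardH] at h1
      rcases Nine.card_centralizer_of (σ := φ a) (by rw [orderOf_injective φ hφ, ha]) with h2 | h2 | ⟨h2, -⟩ <;>
        rw [h2] at h1 <;> norm_num at h1
    | psl2 F i1 i2 hF e27 =>
      exfalso
      obtain ⟨e27⟩ := e27
      exact not_psl hcc π hπ hk hK haK hc hF e27
    | psp4 F i1 i2 hF e4 =>
      obtain ⟨e4⟩ := e4
      rcases card_eq_or K hc e4 (by rw [Groups.card_aut_psp4 hF, Groups.card_psp4 hF]) with ⟨h1, h2⟩ | ⟨h1, h2⟩
      · rw [Groups.card_psp4 hF] at h1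
        refine ⟨fun _ => Or.inr ⟨F, i1, i2, hF, h2⟩, fun hr => ?_⟩
        exfalso
        obtain ⟨i, hi, hci⟩ := hmod.2 hr
        omega
      · rw [Groups.card_psp4 hF] at h1
        refine ⟨fun hr => ?_, fun _ => Or.inr (Or.inl ⟨F, i1, i2, hF, h2⟩)⟩
        exfalso
        obtain ⟨i, hi, hci⟩ := hmod.1 hr
        omega
    | psp6 F i1 i2 hF e6 =>
      obtain ⟨e6⟩ := e6
      obtain ⟨h1, h2⟩ := equiv_of_card K hc e6 (by rw [Groups.card_aut_psp6 hF, Groups.card_psp6 hF])
      rw [Groups.card_psp6 hF] at h1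
      refine ⟨fun hr => ?_, fun _ => Or.inr (Or.inr ⟨F, i1, i2, hF, h2⟩)⟩
      exfalso
      obtain ⟨i, hi, hci⟩ := hmod.1 hr
      omega

end Cfsg.Agent.H344.RecA
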