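import Cfsg.Agent.H344.Excl
import Cfsg.Agent.H344.PermB
import Cfsg.Agent.H344.Local
import Cfsg.Agent.H344.PslTS
import Cfsg.Agent.H344.RecA
import Cfsg.Agent.S2602

/-!
# S3343: the centralizer of three 3-cycles (helper344)
-/

set_option autoImplicit false

namespace Cfsg.Agent.H344.RecB

open Subgroup Cfsg Cfsg.Agent.H344.Wr Cfsg.Agent.H344.Reduce
open scoped commutatorElement

universe u

variable {G : Type u} [Group G]

abbrev CS : Subgroup (Equiv.Perm (Fin 9)) := centralizer ({PermB.σ} : Set (Equiv.Perm (Fin 9)))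

theorem mem_CS {ρ : Equiv.Perm (Fin 9)} : ρ ∈ CS ↔ ρ * PermB.σ = PermB.σ * ρ := mem_centralizer_singleton_iff

theorem card_CS : Nat.card CS = 162 := by
  obtain ⟨k, h1, -, hk⟩ := Nine.exists_replicate PermB.orderOf_σ
  have h2 := PermB.cycleType_σ
  rw [hk, Multiset.sum_replicate, smul_eq_mul] at h2
  have h3 : k = 3 := by omega
  subst h3
  have := Nine.card_centralizer h1 hk
  rw [this]
  decide

/-- elements of order a power of 3 belong to a subgroup of index 2 -/
theorem mem_of_three {C T : Subgroup G} (hTC : T ≤ C) (hi : T.relIndex C = 2) {c : G} (hc : c ∈ C) {k : ℕ}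
    (hk : c ^ 3 ^ k = 1) : c ∈ T := by
  have h1 : ∀ a : C, a ^ 2 ∈ T.subgroupOf C := fun a => Subgroup.sq_mem_of_index_two hi a
  have h2 : c ^ 2 ∈ T := h1 ⟨c, hc⟩
  have h3 : Odd (3 ^ k) := Odd.pow (by decide)
  obtain ⟨m, hm⟩ := h3
  have h4 : c = (c ^ 2) ^ (m + 1) := by
    rw [← pow_mul]
    have : 2 * (m + 1) = 3 ^ k + 1 := by omega
    rw [this, pow_succ, hk, one_mul]
  rw [h4]
  exact pow_mem h2 _

theorem relIndex_two {C T : Subgroup G} (hTC : T ≤ C) (hC : Nat.card C = 162) (hT : Nat.card T = 81) :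
    T.relIndex C = 2 := by
  have := Wr.card_mul_relIndex hTC
  rw [hC, hT] at this
  omega

section

variable [Finite G] {x : G} (hx : orderOf x = 3) (eC : centralizer ({x} : Set G) ≃* CS)

include eC in
omit [Finite G] in
theorem card_C : Nat.card (centralizer ({x} : Set G)) = 162 := by
  rw [Nat.card_congr eC.toEquiv, card_CS]

include hx eC in
/-- the centre of the Sylow subgroup -/
theorem cen_of {T : Subgroup G} (hTC : T ≤ centralizer ({x} : Set G)) (hT : Nat.card T = 81) {z : G} (hz : z ∈ T)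
    (hzc : ∀ s ∈ T, z * s = s * z) : z ∈ zpowers x := by
  have hi := relIndex_two hTC (card_C eC) hT
  have key : ∀ (z : G) (hz : z ∈ T), (∀ s ∈ T, z * s = s * z) →
      (eC ⟨z, hTC hz⟩ : Equiv.Perm (Fin 9)) ∈ zpowers PermB.σ := by
    intro z hz hzc
    have h1 : ∀ ρ : Equiv.Perm (Fin 9), ρ * PermB.σ = PermB.σ * ρ → ρ ^ 3 = 1 →
        (eC ⟨z, hTC hz⟩ : Equiv.Perm (Fin 9)) * ρ = ρ * eC ⟨z, hTC hz⟩ := by
      intro ρ hρ hρ3
      have hρC : ρ ∈ CS := mem_CS.2 hρ
      set r := eC.symm ⟨ρ, hρC⟩ with hr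
      have hr3 : r ^ 3 = 1 := by
        rw [hr, ← map_pow]
        have : (⟨ρ, hρC⟩ : CS) ^ 3 = 1 := Subtype.ext hρ3
        rw [this, map_one]
      have hrT : (r : G) ∈ T := mem_of_three hTC hi r.2 (k := 1) (congrArg Subtype.val hr3)
      have h2 : (⟨z, hTC hz⟩ : centralizer ({x} : Set G)) * r = r * ⟨z, hTC hz⟩ := Subtype.ext (hzc _ hrT)
      have h3 := congrArg eC h2
      rw [map_mul, map_mul, hr, MulEquiv.apply_symm_apply] at h3
      exact congrArg Subtype.val h3
    refine PermB.mem_zpowers ?_ (h1 _ PermB.τ_comm PermB.τ_cube) (h1 _ PermB.c2_comm PermB.c2_cube)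
      (h1 _ PermB.c3_comm PermB.c3_cube)
    exact mem_CS.1 (eC ⟨z, hTC hz⟩).2
  have hxC : x ∈ centralizer ({x} : Set G) := by rw [mem_centralizer_singleton_iff]
  have hxT : x ∈ T := mem_of_three hTC hi hxC (k := 1) (by rw [pow_one, ← hx]; exact pow_orderOf_eq_one x)
  have hxc : ∀ s ∈ T, x * s = s * x := fun s hs => (mem_centralizer_singleton_iff.1 (hTC hs)).symm
  have h1 := key x hxT hxc
  have h2 : orderOf (eC ⟨x, hTC hxT⟩ : Equiv.Perm (Fin 9)) = 3 := by
    rw [Subgroup.orderOf_coe, MulEquiv.orderOf_eq, Subgroup.orderOf_mk, hx]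
  have h3 := zpowers_eq_of_mem PermB.orderOf_σ h2 h1
  have h4 := key z hz hzc
  rw [← h3] at h4
  obtain ⟨m, hm⟩ := h4
  refine ⟨m, ?_⟩
  have h5 : eC (⟨x, hTC hxT⟩ ^ m) = eC ⟨z, hTC hz⟩ := by
    rw [map_zpow]
    exact Subtype.ext hm
  exact congrArg Subtype.val (eC.injective h5)

include hx eC in
theorem exists_hyp {J : Subgroup G} (hJC : J ≤ centralizer ({x} : Set G)) (hJ : ∀ a ∈ J, ∀ b ∈ J, a * b = b * a)
    (hexp : ∀ a ∈ J, a ^ 3 = 1) (hcard : Nat.card J = 27) :
    ∃ S : Sylow 3 G, Hyp (S : Subgroup G) J x ∧ (S : Subgroup G) ≤ centralizer ({x} : Set G) :=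
  Local.exists_hyp hx (n := 2) (by norm_num) (card_C eC) hJC hJ hexp hcard
    fun _ hTC hT _ _ hz hzc => cen_of hx eC hTC hT hz hzc

end

section Ab

variable [Finite G] {S : Sylow 3 G} {J : Subgroup G} {x : G} (h : Hyp (S : Subgroup G) J x)
  (hSC : (S : Subgroup G) ≤ centralizer ({x} : Set G)) (hi : (S : Subgroup G).relIndex (centralizer ({x} : Set G)) = 2)

include h in
omit [Finite G] in
/-- `J` is normalized by the elements conjugating it into `S` -/
theorem conj_J [Finite G] {g : G} (hg : ∀ j ∈ J, g * j * g⁻¹ ∈ (S : Subgroup G)) : ∀ j ∈ J, g * j * g⁻¹ ∈ J := by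
  have h1 : J.map (MulAut.conj g).toMonoidHom = J := by
    apply h.eq_J
    · rintro _ ⟨j, hj, rfl⟩
      exact hg j hj
    · rintro _ ⟨a, ha, rfl⟩ _ ⟨b, hb, rfl⟩
      rw [← map_mul, h.comm a ha b hb, map_mul]
    · rw [Subgroup.card_map_of_injective (MulAut.conj g).injective, h.cardJ]
  intro j hj
  have h2 : g * j * g⁻¹ ∈ J.map (MulAut.conj g).toMonoidHom := ⟨j, hj, rfl⟩
  rwa [h1] at h2

include h hSC hi in
/-- the case of a normal abelian subgroup -/
theorem normal_of_abelian {M : Subgroup G} (hM : M.Normal) (hxM : x ∈ M)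
    (hab : ∀ a ∈ M, ∀ b ∈ M, a * b = b * a) (hp : IsPGroup 3 M) : J.Normal := by
  have hMC : M ≤ centralizer ({x} : Set G) := fun m hm => by
    rw [mem_centralizer_singleton_iff]
    exact hab m hm x hxM
  have hMS : M ≤ (S : Subgroup G) := by
    intro m hm
    obtain ⟨k, hk⟩ := hp ⟨m, hm⟩
    exact mem_of_three hSC hi (hMC hm) (congrArg Subtype.val hk)
  -- `M ≤ J`
  have hMJ : M ≤ J := by
    intro b hb
    by_contra hbJ
    have hbn : ∀ j ∈ J, b * j * b⁻¹ ∈ J :=
      conj_J h fun j hj => mul_mem (mul_mem (hMS hb) (h.JS hj)) (inv_mem (hMS hb))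
    have hcm : ∀ j ∈ J, b * j * b⁻¹ * j⁻¹ ∈ zpowers x := by
      intro j hj
      have h1 : b * j * b⁻¹ * j⁻¹ ∈ J := mul_mem (hbn j hj) (inv_mem hj)
      have h2 : b * j * b⁻¹ * j⁻¹ ∈ M := by
        have h3 := mul_mem hb (hM.conj_mem _ (inv_mem hb) j)
        have e : b * (j * b⁻¹ * j⁻¹) = b * j * b⁻¹ * j⁻¹ := by group
        rwa [e] at h3
      exact h.mem_x (hMS hb) hbJ h1 (hab b hb _ h2)
    let ψ : J →* G :=
      { toFun := fun j => b * j * b⁻¹ * (j : G)⁻¹
        map_one' := by simp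
        map_mul' := fun i j => by
          have h1 : b * (j : G) * b⁻¹ * (j : G)⁻¹ ∈ J := mul_mem (hbn j j.2) (inv_mem j.2)
          have h2 := h.comm _ h1 _ (inv_mem i.2)
          change b * ((i : G) * j) * b⁻¹ * ((i : G) * j)⁻¹ = b * i * b⁻¹ * (i : G)⁻¹ * (b * j * b⁻¹ * (j : G)⁻¹)
          calc b * ((i : G) * j) * b⁻¹ * ((i : G) * j)⁻¹
              = b * i * b⁻¹ * (b * j * b⁻¹ * (j : G)⁻¹ * (i : G)⁻¹) := by group
            _ = _ := by rw [h2]; group }
    have hk : ψ.ker ≤ (zpowers x).subgroupOf J := by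
      intro j hj
      rw [mem_subgroupOf]
      refine h.mem_x (hMS hb) hbJ j.2 ?_
      have h1 : b * j * b⁻¹ * (j : G)⁻¹ = 1 := hj
      rw [mul_inv_eq_one, mul_inv_eq_iff_eq_mul] at h1
      exact h1
    have hr : ψ.range ≤ zpowers x := by
      rintro _ ⟨j, rfl⟩
      exact hcm j j.2
    have hxJ : zpowers x ≤ J := by
      rw [zpowers_le]
      by_contra hxJ
      have h4 : J ≤ zpowers x := fun j hj => h.mem_x h.xS hxJ hj (h.xc j (h.JS hj))
      have h5 := Subgroup.card_le_of_le h4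
      rw [h.cardJ, Nat.card_zpowers, h.ord] at h5
      omega
    have c1 : Nat.card ψ.ker ≤ 3 := by
      refine (Subgroup.card_le_of_le hk).trans ?_
      rw [Nat.card_congr (subgroupOfEquivOfLe hxJ).toEquiv, Nat.card_zpowers, h.ord]
    have c2 : Nat.card ψ.range ≤ 3 := by
      refine (Subgroup.card_le_of_le hr).trans ?_
      rw [Nat.card_zpowers, h.ord]
    have c3 := ψ.ker.card_mul_index
    rw [Subgroup.index_ker, h.cardJ] at c3
    have : Nat.card ψ.ker * Nat.card ψ.range ≤ 3 * 3 := Nat.mul_le_mul c1 c2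
    omega
  constructor
  intro j hj g
  refine conj_J h (g := g) (fun i hi' => ?_) j hj
  have hy : g⁻¹ * x * g ∈ J := by
    apply hMJ
    have := hM.conj_mem x hxM g⁻¹
    rwa [inv_inv] at this
  have h1 : i * (g⁻¹ * x * g) = g⁻¹ * x * g * i := h.comm i hi' _ hy
  have h2 : g * i * g⁻¹ ∈ centralizer ({x} : Set G) := by
    rw [mem_centralizer_singleton_iff]
    calc g * i * g⁻¹ * x = g * (i * (g⁻¹ * x * g)) * g⁻¹ := by group
      _ = x * (g * i * g⁻¹) := by rw [h1]; group
  refine mem_of_three hSC hi h2 (k := 1) ?_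
  rw [pow_one, conj_pow, h.exp i hi', mul_one, mul_inv_cancel]

end Ab

/-- `Out(PSL₂(27))` is abelian -/
theorem out_comm {F : Type} [Field F] [Fintype F] (hF : Fintype.card F = 27)
    (a b : Out (Matrix.ProjectiveSpecialLinearGroup (Fin 2) F)) : a * b = b * a := by
  have : Fact (Nat.Prime 3) := ⟨Nat.prime_three⟩
  obtain ⟨φ, -, -, hk⟩ := S2602.result (F := F) (p := 3) (f := 3) (by norm_num) (by rw [hF]; norm_num) (by norm_num)
  have h2 : Nat.card φ.ker = 2 := by rw [hk]; norm_num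
  have hc : φ.ker ≤ center (Out (Matrix.ProjectiveSpecialLinearGroup (Fin 2) F)) := by
    intro z hz
    rw [mem_center_iff]
    intro g
    by_cases hz1 : z = 1
    · rw [hz1, mul_one, one_mul]
    · have h3 : g * z * g⁻¹ ∈ φ.ker := (MonoidHom.normal_ker φ).conj_mem z hz g
      have h4 : ∀ w ∈ φ.ker, w = 1 ∨ w = z := by
        have h5 : zpowers z = φ.ker := by
          have : Finite φ.ker := Nat.finite_of_card_ne_zero (by rw [h2]; norm_num)
          apply Subgroup.eq_of_le_of_card_ge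
          · rw [zpowers_le]; exact hz
          · rw [h2]
            have h6 : orderOf z ∣ 2 := by
              have := orderOf_dvd_natCard (⟨z, hz⟩ : φ.ker)
              rwa [Subgroup.orderOf_mk, h2] at this
            rcases (Nat.dvd_prime Nat.prime_two).1 h6 with h7 | h7
            · exact absurd (orderOf_eq_one_iff.1 h7) hz1
            · rw [Nat.card_zpowers, h7]
        intro w hw
        have hz2 : z ^ 2 = 1 := by
          have := pow_card_eq_one' (x := (⟨z, hz⟩ : φ.ker))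
          rw [h2] at this
          exact congrArg Subtype.val this
        rw [← h5] at hw
        obtain ⟨m, hm⟩ := hw
        change z ^ m = w at hm
        rcases Int.even_or_odd' m with ⟨n, rfl | rfl⟩
        · left
          rw [← hm, zpow_mul]
          have : z ^ (2 : ℤ) = 1 := by exact_mod_cast hz2
          rw [this, one_zpow]
        · right
          rw [← hm, zpow_add, zpow_mul]
          have : z ^ (2 : ℤ) = 1 := by exact_mod_cast hz2
          rw [this, one_zpow, one_mul, zpow_one]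
      rcases h4 _ h3 with h5 | h5
      · exfalso
        apply hz1
        have : z = g⁻¹ * (g * z * g⁻¹) * g := by group
        rw [this, h5]
        group
      · exact mul_inv_eq_iff_eq_mul.1 h5
  exact (MonoidHom.isMulCommutative_of_isCyclic_of_ker_le_center φ hc).is_comm.comm a b

/-- commutators lie in `K` -/
theorem commutator_mem {K : Subgroup G} [K.Normal] (hc : centralizer (K : Set G) = ⊥) {F : Type} [Field F]
    [Fintype F] (hF : Fintype.card F = 27) (e : K ≃* Matrix.ProjectiveSpecialLinearGroup (Fin 2) F) (g h : G) :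
    g * h * g⁻¹ * h⁻¹ ∈ K := by
  obtain ⟨φ, hφ, hk⟩ := Groups.exists_embedding K hc e
  let θ : G →* Out (Matrix.ProjectiveSpecialLinearGroup (Fin 2) F) := (QuotientGroup.mk' _).comp φ
  have h1 : θ (g * h * g⁻¹ * h⁻¹) = 1 := by
    rw [map_mul, map_mul, map_mul, map_inv, map_inv, out_comm hF (θ g) (θ h)]
    group
  have h2 : φ (g * h * g⁻¹ * h⁻¹) ∈ Inn (Matrix.ProjectiveSpecialLinearGroup (Fin 2) F) :=
    (QuotientGroup.eq_one_iff _).1 h1
  obtain ⟨y, hy⟩ := h2
  obtain ⟨k, rfl⟩ := e.surjective y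
  rw [← hk] at hy
  rw [← hφ hy]
  exact k.2

/-- `PSL₂(27)` does not occur -/
theorem not_psl [Finite G] {S : Sylow 3 G} {J : Subgroup G} {x : G} (h : Hyp (S : Subgroup G) J x)
    (hSC : (S : Subgroup G) ≤ centralizer ({x} : Set G))
    (hi : (S : Subgroup G).relIndex (centralizer ({x} : Set G)) = 2)
    (eC : centralizer ({x} : Set G) ≃* CS) {K : Subgroup G} (hK : K.Normal) (hc : centralizer (K : Set G) = ⊥)
    {F : Type} [Field F] [Fintype F] (hF : Fintype.card F = 27)
    (e : K ≃* Matrix.ProjectiveSpecialLinearGroup (Fin 2) F) : False := by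
  have hJK := PslTS.J_le h hF hK e
  -- the element `τ`
  have hτC : PermB.τ ∈ CS := mem_CS.2 PermB.τ_comm
  have hιC : PermB.ι ∈ CS := mem_CS.2 PermB.ι_comm
  set t := eC.symm ⟨PermB.τ, hτC⟩ with ht
  set i := eC.symm ⟨PermB.ι, hιC⟩ with hii
  have hτt : eC t = ⟨PermB.τ, hτC⟩ := by rw [ht, MulEquiv.apply_symm_apply]
  have h1 : t = i * t * i⁻¹ * t⁻¹ := by
    apply eC.injective
    rw [map_mul, map_mul, map_mul, map_inv, map_inv, hτt, hii, MulEquiv.apply_symm_apply]
    exact Subtype.ext PermB.τ_eq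
  have htK : (t : G) ∈ K := by
    have := commutator_mem hc hF e (i : G) (t : G)
    have h2 : (t : G) = (i : G) * t * (i : G)⁻¹ * (t : G)⁻¹ := congrArg Subtype.val h1
    rwa [← h2] at this
  have ht3 : t ^ 3 = 1 := by
    rw [ht, ← map_pow]
    have : (⟨PermB.τ, hτC⟩ : CS) ^ 3 = 1 := Subtype.ext PermB.τ_cube
    rw [this, map_one]
  have htS : (t : G) ∈ (S : Subgroup G) := mem_of_three hSC hi t.2 (k := 1) (congrArg Subtype.val ht3)
  -- `J = K ∩ S`
  have hJ : J = K ⊓ (S : Subgroup G) := by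
    apply Subgroup.eq_of_le_of_card_ge (le_inf hJK h.JS)
    rw [h.cardJ]
    have h2 : Nat.card (K ⊓ (S : Subgroup G) : Subgroup G) ∣ 3 ^ 4 := by
      have := Subgroup.card_dvd_of_le (inf_le_right : K ⊓ (S : Subgroup G) ≤ S)
      rw [h.cardS] at this
      norm_num
      exact this
    obtain ⟨k, hk, hk'⟩ := (Nat.dvd_prime_pow Nat.prime_three).1 h2
    rw [hk']
    have h4 : k ≠ 4 := by
      rintro rfl
      apply PslTS.not_81 hF e
      have := Subgroup.card_dvd_of_le (inf_le_left : K ⊓ (S : Subgroup G) ≤ K)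
      rw [hk'] at this
      norm_num at this
      exact this
    calc 3 ^ k ≤ 3 ^ 3 := Nat.pow_le_pow_right (by norm_num) (by omega)
      _ = 27 := by norm_num
  have htJ : (t : G) ∈ J := by
    rw [hJ]
    exact ⟨htK, htS⟩
  -- `J` embeds into `Fin 9`
  have hJC : J ≤ centralizer ({x} : Set G) := h.JS.trans hSC
  let f : J → Fin 9 := fun j => (eC ⟨j, hJC j.2⟩ : Equiv.Perm (Fin 9)) 0
  have hf : Function.Injective f := by
    intro j j' hjj
    have hcomm : ∀ j : J, (eC ⟨j, hJC j.2⟩ : Equiv.Perm (Fin 9)) * PermB.τ = PermB.τ * eC ⟨j, hJC j.2⟩ := by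
      intro j
      have h2 : (⟨j, hJC j.2⟩ : centralizer ({x} : Set G)) * t = t * ⟨j, hJC j.2⟩ :=
        Subtype.ext (h.comm _ j.2 _ htJ)
      have h3 := congrArg eC h2
      rw [map_mul, map_mul, hτt] at h3
      exact congrArg Subtype.val h3
    have h4 := PermB.ext_of (mem_CS.1 (eC ⟨j, hJC j.2⟩).2) (hcomm j) (mem_CS.1 (eC ⟨j', hJC j'.2⟩).2) (hcomm j') hjj
    have h5 := eC.injective (Subtype.ext h4)
    exact Subtype.ext (congrArg (Subtype.val : centralizer ({x} : Set G) → G) h5)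
  have h5 := Nat.card_le_card_of_injective f hf
  rw [h.cardJ, Nat.card_eq_fintype_card, Fintype.card_fin] at h5
  omega

/-- the case `A₉` -/
theorem alt9 [Finite G] {x : G} (hx : orderOf x = 3) (hC : Nat.card (centralizer ({x} : Set G)) = 162)
    {K : Subgroup G} [K.Normal] (hc : centralizer (K : Set G) = ⊥) (e : K ≃* ↥(alternatingGroup (Fin 9))) :
    Nonempty (G ≃* Equiv.Perm (Fin 9)) := by
  obtain ⟨φ, hφ, hk⟩ := Groups.exists_perm K hc e
  have h9 : Nat.card (Equiv.Perm (Fin 9)) = 2 * 181440 := by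
    rw [Nat.card_eq_fintype_card, Fintype.card_perm, Fintype.card_fin]
    decide
  have h1 := Subgroup.card_dvd_of_injective _ hφ
  have h2 := K.card_mul_index
  rw [Nat.card_congr e.toEquiv, Groups.card_alt9] at h2
  rw [h9, ← h2, mul_comm 2] at h1
  have h3 := Nat.dvd_of_mul_dvd_mul_left (by norm_num) h1
  rcases (Nat.dvd_prime Nat.prime_two).1 h3 with h4 | h4
  · exfalso
    have hK : K = ⊤ := index_eq_one.1 h4
    have hr : ∀ g : G, φ g ∈ alternatingGroup (Fin 9) := by
      intro g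
      have hg : g ∈ K := by rw [hK]; exact mem_top g
      have := hk ⟨g, hg⟩
      change φ g = _ at this
      rw [this]
      exact (e ⟨g, hg⟩).2
    have h5 := Groups.card_centralizer_dvd φ hφ x
    rw [hC] at h5
    rcases Nine.card_centralizer_of (σ := φ x) (by rw [orderOf_injective φ hφ, hx]) with h6 | h6 | ⟨h6, h7⟩
    · rw [h6] at h5; norm_num at h5
    · rw [h6] at h5; norm_num at h5
    · apply h7
      have h8 : (centralizer ({x} : Set G)).map φ = centralizer ({φ x} : Set (Equiv.Perm (Fin 9))) := by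
        apply Subgroup.eq_of_le_of_card_ge
        · rintro _ ⟨g, hg, rfl⟩
          have := mem_centralizer_singleton_iff.1 hg
          rw [mem_centralizer_singleton_iff, ← map_mul, ← map_mul, this]
        · rw [Subgroup.card_map_of_injective hφ, hC, h6]
      rw [← h8]
      rintro _ ⟨g, -, rfl⟩
      exact hr g
  · exact ⟨MulEquiv.ofBijective φ ((Nat.bijective_iff_injective_and_card φ).2
      ⟨hφ, by rw [← h2, h4, h9]⟩)⟩

/-- **S3343.** -/
theorem main [Finite G]
    (known : ∀ (L : Type u) [Group L] [Finite L] [IsSimpleGroup L], IsKnownSimple' L)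
    {x : G} (hx : orderOf x = 3) (eC : centralizer ({x} : Set G) ≃* CS)
    {J : Subgroup G} (hJC : J ≤ centralizer ({x} : Set G)) (hJ : ∀ a ∈ J, ∀ b ∈ J, a * b = b * a)
    (hexp : ∀ j ∈ J, j ^ 3 = 1) (hcard : Nat.card J = 27)
    (sig : ∀ K : Subgroup G, (Nat.card K).Coprime 3 → (∀ j ∈ J, K.map (MulAut.conj j).toMonoidHom = K) → K = ⊥) :
    J.Normal ∨ Nonempty (G ≃* Equiv.Perm (Fin 9)) := by
  have hC := card_C (x := x) eC
  obtain ⟨S, hS, hSC⟩ := exists_hyp hx eC hJC hJ hexp hcard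
  have hi := relIndex_two hSC hC hS.cardS
  have hkh : KH 162 G := by rw [← hC]; exact hS.kh sig
  rcases Cases.cases hS sig known (by rw [hC]; norm_num) with ⟨M, hM, haM, hab, hp⟩ | ⟨K, hK, haK, hc, hs, hres⟩
  · exact Or.inl (normal_of_abelian hS hSC hi hM haM hab hp)
  · right
    have hkK : KH 162 K := hkh.of_injective K.subtype (Subgroup.subtype_injective _)
    cases hres with
    | a9 e9 =>
      obtain ⟨e9⟩ := e9
      exact alt9 hx hC hc e9
    | psl2 F i1 i2 hF e27 =>
      exfalso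
      obtain ⟨e27⟩ := e27
      exact not_psl hS hSC hi eC hK hc hF e27
    | psp4 F i1 i2 hF e4 =>
      exfalso
      obtain ⟨e4⟩ := e4
      refine Excl.psp4 (Final.of_equiv hkK ⟨e4.trans (LieClassical.FieldTransfer.pspCongr 2
        (FiniteField.ringEquivOfCardEq (hF.trans (ZMod.card 3).symm)))⟩)
    | psp6 F i1 i2 hF e6 =>
      exfalso
      obtain ⟨e6⟩ := e6
      have : Fact (Nat.Prime 2) := ⟨Nat.prime_two⟩
      obtain ⟨ε⟩ := Groups.psp6_equiv hF (F₂ := ZMod 2) (ZMod.card 2)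
      exact Excl.sp6 (Final.of_equiv hkK ⟨e6.trans ε⟩)

end Cfsg.Agent.H344.RecB
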