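import Cfsg.Agent.H542.RecTF4

/-!
# Recognition of `PSU_4(3 ^ k)`: the simple section is not `²F₄(u)` (helper344, after helper542)
-/

set_option autoImplicit false
set_option linter.unusedSectionVars false

namespace Cfsg.Agent.H344.Rec

open Cfsg Cfsg.Lie Cfsg.Agent Cfsg.Agent.H402.Rec Cfsg.Agent.H542.RecCom Cfsg.Agent.H542.RecTF4
open Cfsg.Agent.H493.PGF4T Cfsg.Agent.H493.F4Tor

variable {k : ℕ} {S : Type*} [Group S] [Finite S]

set_option maxHeartbeats 1000000 in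
theorem f42F (h : Cand3 false k S) {K : Type} [Field K] [Fintype K] {m : ℕ} (hm : 1 ≤ m)
    (hK : Fintype.card K = 2 ^ (2 * m + 1)) (E : S ≃* ↥(Cfsg.Lie.twistedF4 K (2 ^ m))) : False := by
  have h' := h.of_equiv E
  have hq3 := h'.three_le
  rcases Nat.even_or_odd' k with ⟨j, hj | hj⟩
  swap
  · -- `k` odd
    obtain ⟨g, hg⟩ := H426.SixExc.tf4 (m := m) hK
    have h9 : 3 ^ k % 16 = 3 ∨ 3 ^ k % 16 = 11 := by
      rw [hj, pow_succ, pow_mul]
      have h1 : (3 ^ 2) ^ j % 16 = 1 ∨ (3 ^ 2) ^ j % 16 = 9 := by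
        clear hj
        induction j with
        | zero => left; rfl
        | succ j ih => rw [pow_succ]; omega
      omega
    have hone := h'.one_le
    have hsp := h'.spec g
    rw [hg] at hsp
    have hodd := h'.odd
    generalize 3 ^ k = q at *
    have h2 : q ^ 2 % 16 = 9 := by
      rcases h9 with h9 | h9 <;> rw [Nat.pow_mod, h9]
    have h3 : q ^ 3 % 16 = 11 ∨ q ^ 3 % 16 = 3 := by
      rcases h9 with h9 | h9
      · left; rw [Nat.pow_mod, h9]
      · right; rw [Nat.pow_mod, h9]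
    rcases hsp with h4 | h4 | h4 | h4
    · have h5 := h4.trans (N3_dvd false hone)
      simp only [Bool.false_eq_true, if_false] at h5
      omega
    · have h5 := h4.trans (N4_dvd false hone hodd)
      simp only [Bool.false_eq_true, if_false] at h5
      have h6 : (q ^ 2 + 1) * (q - 1) % 16 = 4 := by
        rw [Nat.mul_mod, Nat.add_mod (q ^ 2), h2]
        have h10 : (q - 1) % 16 = 2 ∨ (q - 1) % 16 = 10 := by omega
        rcases h10 with h10 | h10 <;> rw [h10]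
      omega
    · omega
    · omega
  · -- `k` even
    have hq8 : 3 ^ k % 8 = 1 := by
      rw [hj, pow_mul]
      rw [Nat.pow_mod]
      norm_num
    have hq5 : 3 ^ k % 5 = 1 ∨ 3 ^ k % 5 = 4 := by
      rw [hj, pow_mul]
      clear hj hq8
      induction j with
      | zero => left; rfl
      | succ j ih => rw [pow_succ]; omega
    have hb : (2 : ℤ) ≤ 2 ^ m := by
      calc (2 : ℤ) = 2 ^ 1 := by norm_num
        _ ≤ 2 ^ m := pow_le_pow_right₀ (by norm_num) hm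
    obtain ⟨u, hu⟩ : ∃ u : ℕ, u = 2 ^ (2 * m + 1) := ⟨_, rfl⟩
    have hub : (u : ℤ) = 2 * (2 ^ m) ^ 2 := by
      rw [hu, ← pow_mul]; push_cast; ring
    have hu8 : 8 ≤ u := by
      rw [hu]
      calc 8 = 2 ^ 3 := by norm_num
        _ ≤ 2 ^ (2 * m + 1) := Nat.pow_le_pow_right (by norm_num) (by omega)
    have hu2 : u % 2 = 0 := by
      rw [hu, pow_succ]; omega
    have hu3 : u % 3 = 2 := by
      rw [hu, pow_succ, pow_mul, Nat.mul_mod, Nat.pow_mod]
      norm_num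
    have hu5 : u % 5 = 2 ∨ u % 5 = 3 := by
      rw [hu, pow_succ, pow_mul]
      have h1 : (2 ^ 2) ^ m % 5 = 1 ∨ (2 ^ 2) ^ m % 5 = 4 := by
        clear hK E hm hb hu hub h'
        induction m with
        | zero => left; rfl
        | succ m ih => rw [pow_succ]; omega
      omega
    have hru : ∀ r : ℕ, r.Prime → r ≠ 2 → ¬ (r : ℤ) ∣ (u : ℤ) := by
      intro r hr hr2 h1
      have h2 : r ∣ u := Int.natCast_dvd_natCast.1 h1
      rw [hu] at h2
      exact hr2 ((Nat.prime_dvd_prime_iff_eq hr Nat.prime_two).1 (hr.dvd_of_dvd_pow h2))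
    have hsq : 8 * u ≤ u ^ 2 := by rw [pow_two]; exact Nat.mul_le_mul_right _ hu8
    -- the tori
    obtain ⟨y2, hy2⟩ := H371.Core.TwF4.exists_cert hK chainA_ok hThA certA (N := u ^ 2 - 1) (by
      rw [Nat.cast_sub (by omega)]
      push_cast
      rw [hub]
      unfold f1 f2
      ring)
    obtain ⟨y6, hy6⟩ := H371.Core.TwF4.exists_cert hK chainD_ok hThD certD_f6 (N := u ^ 2 - u + 1) (by
      rw [Nat.cast_add, Nat.cast_sub (by omega)]
      push_cast
      rw [hub]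
      unfold f6
      ring)
    -- the primes
    have hprime : ∀ r : ℕ, r.Prime → r ∣ R3 false (3 ^ k) ∨ r ∣ R4 (3 ^ k) → r ∣ Nat.card ↥(twistedF4 K (2 ^ m)) →
        (r : ℤ) ∣ (u : ℤ) ^ 2 + 1 ∨ (r : ℤ) ∣ (u : ℤ) ^ 4 - (u : ℤ) ^ 2 + 1 := by
      intro r hr h1 hd
      have h5 := h'.five_le hr h1
      rw [Cfsg.Agent.S1068.result hK] at hd
      have h3 : ¬ ((r : ℤ) ∣ f1 (2 ^ m) ∨ (r : ℤ) ∣ f2 (2 ^ m) ∨ (r : ℤ) ∣ f6 (2 ^ m)) := by
        intro h4
        obtain ⟨x, hx⟩ := H659.TwF4Adj.adj_three hK hr (by omega) h4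
        exact not_three h' hr h1 ((dvd_mul_right r 3).trans hx) ((dvd_mul_left 3 r).trans hx)
      have hpm : (u : ℤ) ^ 2 + 1 = fp (2 ^ m) * fm (2 ^ m) := by
        rw [hub]; unfold fp fm; ring
      have hPM : (u : ℤ) ^ 4 - (u : ℤ) ^ 2 + 1 = fP (2 ^ m) * fM (2 ^ m) := by
        rw [hub]; unfold fP fM; ring
      rw [hpm, hPM]
      rcases cover (m := m) hr hd with (h4 | h4 | h4 | h4 | h4 | h4) | h4 | h4
      · omega
      · exact absurd (Or.inl h4) h3
      · exact absurd (Or.inr (Or.inl h4)) h3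
      · exact Or.inl (h4.mul_right _)
      · exact Or.inl (h4.mul_left _)
      · exact absurd (Or.inr (Or.inr h4)) h3
      · exact Or.inr (h4.mul_right _)
      · exact Or.inr (h4.mul_left _)
    obtain ⟨R, hR, x, hx⟩ := exists_R h'
    have hR2 := le_R h' hR
    have hRd : ∀ r : ℕ, r.Prime → r ∣ R → r ≠ 2 ∧
        ((r : ℤ) ∣ (u : ℤ) ^ 2 + 1 ∨ (r : ℤ) ∣ (u : ℤ) ^ 4 - (u : ℤ) ^ 2 + 1) := by
      intro r hr hrR
      have h1 : r ∣ R3 false (3 ^ k) ∨ r ∣ R4 (3 ^ k) := by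
        rcases hR with rfl | rfl
        · exact Or.inl hrR
        · exact Or.inr hrR
      have h5 := h'.five_le hr h1
      exact ⟨by omega, hprime r hr h1 (hrR.trans (by rw [← hx]; exact orderOf_dvd_natCard x))⟩
    have hle : R ≤ u ^ 4 - u ^ 2 + 1 := by
      have hu4 : 64 * u ^ 2 ≤ u ^ 4 := by
        have : u ^ 4 = u ^ 2 * u ^ 2 := by ring
        rw [this]
        exact Nat.mul_le_mul_right _ (by nlinarith)
      by_cases h1 : ∀ s : ℕ, s.Prime → s ∣ orderOf x → (s : ℤ) ∣ ((Fintype.card K : ℕ) : ℤ) ^ 2 + 1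
      · have h2 := H659.TwF4Ord.dvd_four hK h1
        rw [hx, hK, ← hu] at h2
        have h3 := Nat.le_of_dvd (by omega) h2
        omega
      · push Not at h1
        obtain ⟨s, hs, hsx, h2⟩ := h1
        rw [hK, ← hu] at h2
        have h3 := (hRd s hs (by rw [← hx]; exact hsx)).2.resolve_left h2
        have h4 := H659.TwF4Ord.dvd_twelve hK hs hsx (by rw [hK, ← hu]; exact h3)
        rw [hx, hK, ← hu] at h4
        have h5 : (R : ℤ) ∣ ((u ^ 4 - u ^ 2 + 1 : ℕ) : ℤ) := by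
          rw [Nat.cast_add, Nat.cast_sub (by omega)]
          push_cast
          exact h4
        exact Nat.le_of_dvd (by omega) (Int.natCast_dvd_natCast.1 h5)
    have hu23 : u ^ 2 % 3 = 1 := by rw [Nat.pow_mod, hu3]
    have hu22 : u ^ 2 % 2 = 0 := by rw [Nat.pow_mod, hu2]
    have hu25 : u ^ 2 % 5 = 4 := by
      rcases hu5 with h1 | h1 <;> rw [Nat.pow_mod, h1]
    have hX : u ^ 2 - 1 ∣ 3 * ((3 ^ k) ^ 2 - 1) := by
      rcases of_three h' (y := y2) (by rw [hy2]; omega) with h1 | h1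
      · rwa [hy2] at h1
      · omega
    have hY : u ^ 2 - u + 1 ∣ 3 * ((3 ^ k) ^ 2 - 1) := by
      rcases of_three h' (y := y6) (by rw [hy6]; omega) with h1 | h1
      · rwa [hy6] at h1
      · omega
    have hgcd : Nat.gcd (u ^ 2 - 1) (u ^ 2 - u + 1) ∣ 3 := by
      have h1 := Nat.gcd_dvd_left (u ^ 2 - 1) (u ^ 2 - u + 1)
      have h2 := Nat.gcd_dvd_right (u ^ 2 - 1) (u ^ 2 - u + 1)
      generalize Nat.gcd (u ^ 2 - 1) (u ^ 2 - u + 1) = g at h1 h2
      have h3 := Int.natCast_dvd_natCast.2 h1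
      have h4 := Int.natCast_dvd_natCast.2 h2
      rw [Nat.cast_sub (by omega)] at h3
      rw [Nat.cast_add, Nat.cast_sub (by omega)] at h4
      push_cast at h3 h4
      have h5 : (g : ℤ) ∣ 3 := by
        have : (3 : ℤ) = ((u : ℤ) ^ 2 - u + 1) * (u + 2) - ((u : ℤ) ^ 2 - 1) * (u + 1) := by ring
        rw [this]
        exact dvd_sub (h4.mul_right _) (h3.mul_right _)
      exact_mod_cast h5
    have hXY : (u ^ 2 - 1) * (u ^ 2 - u + 1) ∣ 9 * ((3 ^ k) ^ 2 - 1) := by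
      rw [← Nat.gcd_mul_lcm]
      have h1 := Nat.lcm_dvd hX hY
      have h2 := Nat.mul_dvd_mul hgcd h1
      rwa [← mul_assoc] at h2
    have h80 : 80 ∣ 9 * ((3 ^ k) ^ 2 - 1) := by
      have h1 : (3 ^ k) ^ 2 % 16 = 1 := by
        have h1 : 3 ^ k % 16 = 1 ∨ 3 ^ k % 16 = 9 := by omega
        rcases h1 with h1 | h1 <;> rw [Nat.pow_mod, h1]
      have h2 : (3 ^ k) ^ 2 % 5 = 1 := by
        rcases hq5 with h2 | h2 <;> rw [Nat.pow_mod, h2]
      omega
    have hcop : Nat.Coprime 80 ((u ^ 2 - 1) * (u ^ 2 - u + 1)) := by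
      have h2 : Nat.Coprime 2 ((u ^ 2 - 1) * (u ^ 2 - u + 1)) := by
        rw [Nat.coprime_two_left, Nat.odd_mul, Nat.odd_iff, Nat.odd_iff]
        omega
      have h5 : Nat.Coprime 5 ((u ^ 2 - 1) * (u ^ 2 - u + 1)) := by
        rw [Nat.Prime.coprime_iff_not_dvd (by norm_num), Nat.Prime.dvd_mul (by norm_num)]
        omega
      have h16 := Nat.Coprime.pow_left 4 h2
      have := Nat.Coprime.mul_left h16 h5
      simpa using this
    have h1 := Nat.le_of_dvd (by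
      have : 3 * 3 ^ k ≤ (3 ^ k) ^ 2 := by rw [pow_two]; exact Nat.mul_le_mul_right _ hq3
      omega) (hcop.mul_dvd_of_dvd_of_dvd h80 hXY)
    -- the sizes
    have hu4 : u ^ 2 ≤ u ^ 4 := Nat.pow_le_pow_right (by omega) (by norm_num)
    have h2 : (3 ^ k) ^ 2 - 1 ≤ 2 * (u ^ 4 - u ^ 2) := by omega
    have h3 : u ^ 4 - u ^ 2 = (u ^ 2 - 1) * u ^ 2 := by
      rw [Nat.sub_mul, one_mul]; congr 1; ring
    rw [h3] at h2
    have h4 : (u ^ 2 - 1) * (80 * (u ^ 2 - u + 1)) ≤ (u ^ 2 - 1) * (18 * u ^ 2) := by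
      calc (u ^ 2 - 1) * (80 * (u ^ 2 - u + 1)) = 80 * ((u ^ 2 - 1) * (u ^ 2 - u + 1)) := by ring
        _ ≤ 9 * ((3 ^ k) ^ 2 - 1) := h1
        _ ≤ 9 * (2 * ((u ^ 2 - 1) * u ^ 2)) := Nat.mul_le_mul_left _ h2
        _ = _ := by ring
    have h5 := Nat.le_of_mul_le_mul_left h4 (by omega)
    omega

theorem f42_false (h : Cand3 false k S) (hF : Cfsg.Lie.Iso2F4 S) : False := by
  obtain ⟨K, _, _, m, hm, hK, ⟨E⟩⟩ := hF
  exact f42F h hm hK E

end Cfsg.Agent.H344.Rec
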