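import Cfsg.Agent.H344.Wr
import Cfsg.Agent.H344.FourSub
import Cfsg.Agent.H344.Blocks
import Cfsg.Agent.H328.SelfThree
import Cfsg.Agent.Lib.MinNormalNonabelian
import Cfsg.Agent.Lib.SubnormalJoin

/-!
# Reduction to a unique minimal normal subgroup, which is simple (helper344)
-/

set_option autoImplicit false

namespace Cfsg.Agent.H344.Reduce

open Subgroup Cfsg Cfsg.Agent.H344.Wr Cfsg.Agent.Lib.MinNormalNonabelian Cfsg.Agent.Lib.MinNormal

universe u

variable {G : Type u} [Group G]

/-- a `3`-element commuting with a Sylow 3-subgroup belongs to it -/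
theorem mem_sylow [Finite G] (S : Sylow 3 G) {z : G} (hz : IsPGroup 3 (zpowers z))
    (h2 : z ∈ normalizer ((S : Subgroup G) : Set G)) : z ∈ S := by
  have h1 := hz.inf_normalizer_sylow S
  have h3 : z ∈ zpowers z ⊓ (S : Subgroup G) := by
    rw [← h1]
    exact ⟨mem_zpowers z, h2⟩
  exact h3.2

/-- a nontrivial subgroup normalized by `S` contains `x` -/
theorem mem_of_normalized [Finite G] {S : Sylow 3 G} {J : Subgroup G} {x : G} (h : Hyp (S : Subgroup G) J x)
    (sig : ∀ K : Subgroup G, (Nat.card K).Coprime 3 → (∀ j ∈ J, K.map (MulAut.conj j).toMonoidHom = K) → K = ⊥)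
    {M : Subgroup G} (hM : M ≠ ⊥) (hn : (S : Subgroup G) ≤ normalizer (M : Set G)) : x ∈ M := by
  have h3 : 3 ∣ Nat.card M := by
    by_contra h3
    apply hM
    refine sig M ((Nat.Prime.coprime_iff_not_dvd Nat.prime_three).2 h3).symm fun j hj => ?_
    have h4 := hn (h.JS hj)
    ext y
    rw [mem_normalizer_iff] at h4
    constructor
    · rintro ⟨m, hm, rfl⟩
      exact (h4 m).1 hm
    · intro hy
      refine ⟨j⁻¹ * y * j, ?_, by simp [mul_assoc]⟩
      rw [SetLike.mem_coe, h4]
      convert hy using 1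
      group
  -- the action of `S` on `M`
  let ρ : (S : Subgroup G) →* MulAut M := (Subgroup.normalizerMonoidHom M).comp (inclusion hn)
  let _ : MulAction (S : Subgroup G) M := MulAction.compHom M ρ
  have hfix : 3 ∣ Nat.card (MulAction.fixedPoints (S : Subgroup G) M) := by
    have := S.isPGroup'.card_modEq_card_fixedPoints M
    exact (this.dvd_iff dvd_rfl).1 h3
  have hsm : ∀ (s : (S : Subgroup G)) (m : M), ((s • m : M) : G) = s * m * (s : G)⁻¹ := fun s m => rfl
  -- the fixed points form a subgroup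
  let P : Subgroup G := M ⊓ centralizer ((S : Subgroup G) : Set G)
  have hP : Nat.card P = Nat.card (MulAction.fixedPoints (S : Subgroup G) M) := by
    refine Nat.card_congr ⟨fun p => ⟨⟨p.1, p.2.1⟩, fun s => ?_⟩, fun m => ⟨m.1.1, m.1.2, ?_⟩, fun _ => rfl, fun _ => rfl⟩
    · apply Subtype.ext
      rw [hsm]
      have := mem_centralizer_iff.1 p.2.2 s.1 s.2
      simp only
      rw [this]
      group
    · change (m.1 : G) ∈ centralizer ((S : Subgroup G) : Set G)
      rw [mem_centralizer_iff]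
      intro s hs
      have := congrArg Subtype.val (m.2 ⟨s, hs⟩)
      rw [hsm] at this
      simp only at this
      exact mul_inv_eq_iff_eq_mul.1 this
  rw [← hP] at hfix
  have : Fact (Nat.Prime 3) := ⟨Nat.prime_three⟩
  obtain ⟨z, hz⟩ := exists_prime_orderOf_dvd_card' 3 hfix
  have hz' : orderOf (z : G) = 3 := by rw [Subgroup.orderOf_coe, hz]
  have hzS : ∀ s ∈ (S : Subgroup G), s * (z : G) = z * s := fun s hs => mem_centralizer_iff.1 z.2.2 s hs
  have hzS' : (z : G) ∈ S := by
    apply mem_sylow S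
    · exact IsPGroup.of_card (n := 1) (by rw [Nat.card_zpowers, hz', pow_one])
    · rw [mem_normalizer_iff]
      intro s
      constructor
      · intro hs
        rw [← hzS s hs]
        simpa using hs
      · intro hs
        have h9 := hzS _ hs
        have h10 : z * s * (z : G)⁻¹ = s := by
          have : (z : G) * s = z * (z * s * (z : G)⁻¹) := by rw [← h9]; group
          exact (mul_left_cancel this).symm
        rwa [h10] at hs
  have h5 : (z : G) ∈ zpowers x := h.cen z hzS' fun s hs => (hzS s hs).symm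
  have h6 := zpowers_eq_of_mem h.ord hz' h5
  have h7 : x ∈ zpowers (z : G) := by rw [h6]; exact mem_zpowers x
  have h8 : zpowers (z : G) ≤ M := by rw [zpowers_le]; exact z.2.1
  exact h8 h7

/-- a simple component with two further components is impossible -/
theorem three_comps [Finite G] {N : ℕ} (h : KH N G) (T : OrdDiv.OrderTable.{u})
    (known : ∀ (L : Type u) [Group L] [Finite L] [IsSimpleGroup L], IsKnownSimple' L)
    {A B C : Subgroup G} [IsSimpleGroup A] (hna : ¬ ∀ a ∈ A, ∀ b ∈ A, Commute a b)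
    (hA : 3 ∣ Nat.card A) (hB : 3 ∣ Nat.card B) (hC : 3 ∣ Nat.card C)
    (hAB : ∀ a ∈ A, ∀ b ∈ B, Commute a b) (hAC : ∀ a ∈ A, ∀ b ∈ C, Commute a b)
    (hBC : ∀ a ∈ B, ∀ b ∈ C, Commute a b) (hdA : Disjoint A (B ⊔ C)) (hd : Disjoint B C)
    (hcen : ∀ Y : Subgroup G, (∀ a ∈ Y, ∀ b ∈ Y, a * b = b * a) → Nat.card Y = 27 →
      centralizer (Y : Set G) = Y) : False := by
  have f3 : Fact (Nat.Prime 3) := ⟨Nat.prime_three⟩
  obtain ⟨b, hb⟩ := exists_prime_orderOf_dvd_card' 3 hB
  obtain ⟨c, hc⟩ := exists_prime_orderOf_dvd_card' 3 hC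
  have hb' : orderOf (b : G) = 3 := by rw [Subgroup.orderOf_coe, hb]
  have hc' : orderOf (c : G) = 3 := by rw [Subgroup.orderOf_coe, hc]
  have hABC : ∀ a ∈ A, ∀ r ∈ B ⊔ C, Commute a r := by
    intro a ha r hr
    have h1 : B ⊔ C ≤ centralizer ({a} : Set G) := by
      refine sup_le ?_ ?_
      · intro b hb
        rw [mem_centralizer_singleton_iff]
        exact (hAB a ha b hb).eq.symm
      · intro b hb
        rw [mem_centralizer_singleton_iff]
        exact (hAC a ha b hb).eq.symm
    exact (mem_centralizer_singleton_iff.1 (h1 hr)).symm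
  -- the subgroup generated by an element of `A`, `b` and `c`
  have key : ∀ y : A, orderOf y = 3 → ∃ Y : Subgroup G, (∀ a ∈ Y, ∀ b ∈ Y, a * b = b * a) ∧ Nat.card Y = 27 ∧
      (y : G) ∈ Y ∧ (∀ a ∈ Y, ∃ m : ℤ, ∃ r ∈ B ⊔ C, a = (y : G) ^ m * r) := by
    intro y hy
    have hy' : orderOf (y : G) = 3 := by rw [Subgroup.orderOf_coe, hy]
    let φ : zpowers (y : G) × zpowers (b : G) × zpowers (c : G) →* G :=
      Blocks.prod3 (zpowers (y : G)).subtype (zpowers (b : G)).subtype (zpowers (c : G)).subtype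
        (by
          rintro ⟨_, m, rfl⟩ ⟨_, n, rfl⟩
          exact ((hAB _ y.2 _ b.2).zpow_zpow m n).eq)
        (by
          rintro ⟨_, m, rfl⟩ ⟨_, n, rfl⟩
          exact ((hAC _ y.2 _ c.2).zpow_zpow m n).eq)
        (by
          rintro ⟨_, m, rfl⟩ ⟨_, n, rfl⟩
          exact ((hBC _ b.2 _ c.2).zpow_zpow m n).eq)
    have hφ : ∀ s t r, φ (s, t, r) = s.1 * t.1 * r.1 := fun s t r => rfl
    have yA : zpowers (y : G) ≤ A := by rw [zpowers_le]; exact y.2
    have bB : zpowers (b : G) ≤ B := by rw [zpowers_le]; exact b.2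
    have cC : zpowers (c : G) ≤ C := by rw [zpowers_le]; exact c.2
    have hinj : Function.Injective φ := by
      rw [injective_iff_map_eq_one]
      rintro ⟨s, t, r⟩ h1
      rw [hφ] at h1
      have h2 : s.1 ∈ A ⊓ (B ⊔ C) := by
        refine ⟨yA s.2, ?_⟩
        have : s.1 = (t.1 * r.1)⁻¹ := by
          rw [mul_assoc] at h1
          exact eq_inv_of_mul_eq_one_left h1
        have h5 : (t.1 * r.1)⁻¹ ∈ B ⊔ C :=
          inv_mem (mul_mem (le_sup_left (a := B) (bB t.2)) (le_sup_right (b := C) (cC r.2)))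
        rw [this]
        exact h5
      rw [hdA.eq_bot, mem_bot] at h2
      rw [h2, one_mul] at h1
      have h3 : t.1 ∈ B ⊓ C := by
        refine ⟨bB t.2, ?_⟩
        have h5 : (r.1)⁻¹ ∈ C := inv_mem (cC r.2)
        rw [eq_inv_of_mul_eq_one_left h1]
        exact h5
      rw [hd.eq_bot, mem_bot] at h3
      rw [h3, one_mul] at h1
      exact Prod.ext (Subtype.ext h2) (Prod.ext (Subtype.ext h3) (Subtype.ext h1))
    refine ⟨φ.range, ?_, ?_, ⟨(⟨y, mem_zpowers _⟩, 1, 1), by rw [hφ]; simp⟩, ?_⟩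
    · rintro _ ⟨p, rfl⟩ _ ⟨q, rfl⟩
      rw [← map_mul, ← map_mul]
      congr 1
      exact Prod.ext (Blocks.zc _ _ _) (Prod.ext (Blocks.zc _ _ _) (Blocks.zc _ _ _))
    · rw [← Nat.card_congr (MonoidHom.ofInjective hinj).toEquiv, Nat.card_prod, Nat.card_prod, Nat.card_zpowers,
        Nat.card_zpowers, Nat.card_zpowers, hy', hb', hc']
    · rintro _ ⟨⟨⟨_, m, rfl⟩, t, r⟩, rfl⟩
      refine ⟨m, t.1 * r.1, mul_mem (le_sup_left (a := B) (bB t.2)) (le_sup_right (b := C) (cC r.2)), ?_⟩
      rw [hφ, mul_assoc]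
  -- centralizers in `A`
  have hself : ∀ y : A, orderOf y = 3 → Nat.card (centralizer ({y} : Set A)) = 3 := by
    intro y hy
    obtain ⟨Y, hY, hY27, hyY, hYm⟩ := key y hy
    have h1 : centralizer ({y} : Set A) = zpowers y := by
      apply le_antisymm
      · intro a ha
        rw [mem_centralizer_singleton_iff] at ha
        have ha' : Commute (a : G) y := congrArg Subtype.val ha
        have h2 : (a : G) ∈ Y := by
          rw [← SetLike.mem_coe, ← hcen Y hY hY27, SetLike.mem_coe, mem_centralizer_iff]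
          intro z hz
          obtain ⟨m, r, hr, rfl⟩ := hYm z hz
          exact (((ha'.zpow_right m).mul_right (hABC _ a.2 r hr)).eq).symm
        obtain ⟨m, r, hr, har⟩ := hYm _ h2
        have h3 : r ∈ A ⊓ (B ⊔ C) := by
          refine ⟨?_, hr⟩
          have : r = ((y : G) ^ m)⁻¹ * a := by rw [har]; group
          have h5 : ((y : G) ^ m)⁻¹ * a ∈ A := mul_mem (inv_mem (zpow_mem y.2 m)) a.2
          rw [this]
          exact h5
        rw [hdA.eq_bot, mem_bot] at h3
        rw [h3, mul_one] at har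
        exact ⟨m, Subtype.ext har.symm⟩
      · rw [zpowers_le, mem_centralizer_singleton_iff]
    rw [h1, Nat.card_zpowers, hy]
  obtain ⟨a, ha⟩ := exists_prime_orderOf_dvd_card' 3 hA
  have hhas : FourSub.Has A := by
    rcases H328.SelfThree.of_known T (known A) (fun hc => hna fun a ha b hb =>
      congrArg Subtype.val (hc.is_comm.comm (⟨a, ha⟩ : A) ⟨b, hb⟩)) a (hself a ha) with ⟨⟨e⟩⟩ | ⟨F, _, _, hF, ⟨e⟩⟩
    · exact FourSub.alt5.of_equiv e.symm
    · exact (FourSub.psl7' hF).of_equiv e.symm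
  obtain ⟨y, hy, W, hW, hW1, hyW⟩ := hhas
  obtain ⟨Y, hY, hY27, hyY, hYm⟩ := key y hy
  have h1 := h.sig Y (W.map A.subtype) hY hY27 (by
    rwa [Subgroup.card_map_of_injective (Subgroup.subtype_injective _)]) (by
    rintro z hz _ ⟨w, hw, rfl⟩
    obtain ⟨m, r, hr, rfl⟩ := hYm z hz
    have h2 : ∀ m : ℤ, ∀ w ∈ W, y ^ m * w * (y ^ m)⁻¹ ∈ W := by
      have h3 : y ∈ normalizer (W : Set A) := mem_normalizer_fintype hyW
      intro m w hw
      exact (mem_normalizer_iff.1 (zpow_mem h3 m) w).1 hw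
    refine ⟨_, h2 m w hw, ?_⟩
    have h4 : r * (w : G) = w * r := (hABC _ w.2 r hr).eq.symm
    change (y : G) ^ m * w * ((y : G) ^ m)⁻¹ = (y : G) ^ m * r * w * ((y : G) ^ m * r)⁻¹
    rw [mul_assoc _ r, h4]
    group)
  rw [Subgroup.map_eq_bot_iff_of_injective _ (Subgroup.subtype_injective _)] at h1
  exact hW1 h1

theorem Hyp.centralizer_eq [Finite G] {S : Sylow 3 G} {J : Subgroup G} {x : G} (h : Hyp (S : Subgroup G) J x)
    (sig : ∀ K : Subgroup G, (Nat.card K).Coprime 3 → (∀ j ∈ J, K.map (MulAut.conj j).toMonoidHom = K) → K = ⊥)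
    (Y : Subgroup G) (hY : ∀ a ∈ Y, ∀ b ∈ Y, a * b = b * a) (hc : Nat.card Y = 27) :
    centralizer (Y : Set G) = Y := by
  obtain ⟨g, rfl⟩ := h.exists_eq hY hc
  have h1 := h.centralizer_J sig
  apply le_antisymm
  · intro a ha
    refine ⟨g⁻¹ * a * g, ?_, by simp [mul_assoc]⟩
    rw [SetLike.mem_coe, ← h1, mem_centralizer_iff]
    intro j hj
    have h2 := mem_centralizer_iff.1 ha (g * j * g⁻¹) ⟨j, hj, by simp⟩
    have h3 : j = g⁻¹ * (g * j * g⁻¹) * g := by group
    calc j * (g⁻¹ * a * g) = g⁻¹ * (g * j * g⁻¹ * a) * g := by group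
      _ = g⁻¹ * a * g * j := by rw [h2]; group
  · intro a ha
    rw [mem_centralizer_iff]
    intro b hb
    exact hY b hb a ha

/-- **a nonabelian minimal normal subgroup is simple and has trivial centralizer** -/
theorem simple_of_nonabelian [Finite G] {S : Sylow 3 G} {J : Subgroup G} {x : G} (h : Hyp (S : Subgroup G) J x)
    (sig : ∀ K : Subgroup G, (Nat.card K).Coprime 3 → (∀ j ∈ J, K.map (MulAut.conj j).toMonoidHom = K) → K = ⊥)
    (T : OrdDiv.OrderTable.{u})
    (known : ∀ (L : Type u) [Group L] [Finite L] [IsSimpleGroup L], IsKnownSimple' L)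
    (N : Subgroup G) [N.Normal] (hN : N ≠ ⊥) (hmin : ∀ M : Subgroup G, M.Normal → M ≤ N → M = ⊥ ∨ M = N)
    (hna : ¬ ∀ a ∈ N, ∀ b ∈ N, Commute a b) :
    IsSimpleGroup N ∧ centralizer (N : Set G) = ⊥ ∧ x ∈ N := by
  obtain ⟨hne, hind, hsup, hsimple, hcen, hconj⟩ := nonabelian_structure N hmin hna
  have hx1 : x ≠ 1 := fun h1 => by
    have := h.ord
    rw [h1, orderOf_one] at this
    norm_num at this
  have hxN : x ∈ N := mem_of_normalized h sig hN (by rw [normalizer_eq_top]; exact le_top)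
  have hK : ∀ S ∈ minSet N, N ≤ normalizer (S : Set G) := fun S hS => hS.2.2.1
  have hle : ∀ S ∈ minSet N, S ≤ N := fun S hS => hS.1
  have hcomm : ∀ A ∈ minSet N, ∀ B ∈ minSet N, A ≠ B → ∀ a ∈ A, ∀ b ∈ B, Commute a b :=
    fun A hA B hB hAB a ha b hb => commute_of_mem hind hK hle hA hB hAB ha hb
  -- the orders of the components
  have hord : ∀ A ∈ minSet N, 3 ∣ Nat.card A := by
    intro A hA
    have h3N : 3 ∣ Nat.card N := by
      have h1 : orderOf (⟨x, hxN⟩ : N) = 3 := by rw [Subgroup.orderOf_mk, h.ord]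
      rw [← h1]
      exact orderOf_dvd_natCard _
    have hfin : Finite (minSet N) := Subtype.finite
    have := Fintype.ofFinite (minSet N)
    obtain ⟨e⟩ := mulEquiv_pi_of_iSupIndep (K := N) (fun i : minSet N => i.1)
      (fun i j hij a b ha hb => hcomm i.1 i.2 j.1 j.2 (fun h => hij (Subtype.ext h)) a ha b hb)
      ((sSupIndep_iff _).1 hind) (by rw [← sSup_eq_iSup', hsup])
    rw [Nat.card_congr e.toEquiv, Nat.card_pi] at h3N
    obtain ⟨B, -, hB⟩ := (Nat.prime_three.prime.dvd_finsetProd_iff _).1 h3N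
    obtain ⟨g, hg⟩ := hconj A hA B.1 B.2
    rw [hg, Subgroup.card_map_of_injective (MulAut.conj g).injective] at hB
    exact hB
  -- the action of `S` on the components
  let _ : MulAction (S : Subgroup G) (minSet N) :=
    { smul := fun s A => ⟨A.1.map (MulAut.conj (s : G)).toMonoidHom, map_conj_mem_minSet A.2 _⟩
      one_smul := fun A => Subtype.ext (map_conj_one A.1)
      mul_smul := fun s t A => Subtype.ext (map_conj_map_conj (s : G) t A.1).symm }
  have hsm : ∀ (s : (S : Subgroup G)) (A : minSet N), (s • A).1 = A.1.map (MulAut.conj (s : G)).toMonoidHom :=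
    fun _ _ => rfl
  have hfin : Finite (minSet N) := Subtype.finite
  by_cases hfix : Nat.card (MulAction.fixedPoints (S : Subgroup G) (minSet N)) = 0
  · exfalso
    have h1 := S.isPGroup'.card_modEq_card_fixedPoints (minSet N)
    rw [hfix] at h1
    have h3 : 3 ∣ Nat.card (minSet N) := (Nat.modEq_zero_iff_dvd).1 h1
    have hpos : 0 < Nat.card (minSet N) := by
      have : Nonempty (minSet N) := hne.to_subtype
      exact Nat.card_pos
    have := Fintype.ofFinite (minSet N)
    have h4 : 2 < Fintype.card (minSet N) := by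
      rw [← Nat.card_eq_fintype_card]
      have := Nat.le_of_dvd hpos h3
      omega
    obtain ⟨A, B, C, hAB, hAC, hBC⟩ := Fintype.two_lt_card_iff.1 h4
    have hAB' : A.1 ≠ B.1 := fun h => hAB (Subtype.ext h)
    have hAC' : A.1 ≠ C.1 := fun h => hAC (Subtype.ext h)
    have hBC' : B.1 ≠ C.1 := fun h => hBC (Subtype.ext h)
    have : IsSimpleGroup A.1 := hsimple A.1 A.2
    refine three_comps (h.kh sig) T known (A := A.1) (B := B.1) (C := C.1) ?_ (hord _ A.2) (hord _ B.2) (hord _ C.2)
      (hcomm _ A.2 _ B.2 hAB') (hcomm _ A.2 _ C.2 hAC') (hcomm _ B.2 _ C.2 hBC') ?_ ?_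
      (Hyp.centralizer_eq h sig)
    · intro hab
      have hA1 : A.1 ≠ ⊥ := A.2.2.1
      apply hA1
      rw [eq_bot_iff]
      intro a ha
      exact hcen _ A.2 a ha (hab a ha)
    · refine (hind A.2).mono_right (sup_le ?_ ?_)
      · exact le_sSup ⟨B.2, fun h => hAB' h.symm⟩
      · exact le_sSup ⟨C.2, fun h => hAC' h.symm⟩
    · exact (hind B.2).mono_right (le_sSup (show C.1 ∈ minSet N \ {B.1} from ⟨C.2, fun h => hBC' h.symm⟩))
  · obtain ⟨A, hA⟩ : (MulAction.fixedPoints (S : Subgroup G) (minSet N)).Nonempty := by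
      by_contra h1
      rw [Set.not_nonempty_iff_eq_empty] at h1
      apply hfix
      rw [h1]
      simp
    have hSA : (S : Subgroup G) ≤ normalizer (A.1 : Set G) := by
      intro s hs
      apply mem_normalizer_fintype
      intro a ha
      have h1 := congrArg Subtype.val (hA ⟨s, hs⟩)
      rw [hsm] at h1
      have h2 : s * a * s⁻¹ ∈ A.1.map (MulAut.conj s).toMonoidHom := ⟨a, ha, rfl⟩
      change A.1.map (MulAut.conj s).toMonoidHom = A.1 at h1
      rwa [h1] at h2
    have hxA : x ∈ A.1 := mem_of_normalized h sig A.2.2.1 hSA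
    have hall : ∀ B ∈ minSet N, B = A.1 := by
      intro B hB
      by_contra hBA
      have hM : (centralizer (A.1 : Set G) : Subgroup G) ≠ ⊥ := by
        intro h1
        apply hB.2.1
        rw [eq_bot_iff, ← h1]
        intro b hb
        rw [mem_centralizer_iff]
        intro a ha
        exact (hcomm _ A.2 _ hB (fun h => hBA h.symm) a ha b hb).eq
      have hxM : x ∈ centralizer (A.1 : Set G) := by
        refine mem_of_normalized h sig hM fun s hs => ?_
        apply mem_normalizer_fintype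
        intro a ha
        rw [SetLike.mem_coe, mem_centralizer_iff] at ha ⊢
        intro b hb
        have h1 : s⁻¹ * b * s ∈ A.1 := by
          have h2 := inv_mem (hSA hs)
          have h3 := (mem_normalizer_iff.1 h2 b).1 hb
          rwa [inv_inv] at h3
        have h2 := ha _ h1
        calc b * (s * a * s⁻¹) = s * (s⁻¹ * b * s * a) * s⁻¹ := by group
          _ = s * a * s⁻¹ * b := by rw [h2]; group
      exact hx1 (hcen _ A.2 x hxA fun t ht => (mem_centralizer_iff.1 hxM t ht).symm)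
    have hNA : N = A.1 := by
      refine hsup.symm.trans (le_antisymm ?_ ?_)
      · exact sSup_le fun B hB => (hall B hB).le
      · exact le_sSup A.2
    refine ⟨by rw [hNA]; exact hsimple _ A.2, ?_, hxN⟩
    by_contra hc
    have hxc : x ∈ centralizer (N : Set G) := by
      refine mem_of_normalized h sig hc ?_
      rw [normalizer_eq_top]
      exact le_top
    exact hx1 (hcen _ A.2 x hxA fun t ht => (mem_centralizer_iff.1 hxc t (by rw [hNA]; exact ht)).symm)

/-- **The dichotomy.** -/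
theorem dichotomy [Finite G] {S : Sylow 3 G} {J : Subgroup G} {x : G} (h : Hyp (S : Subgroup G) J x)
    (sig : ∀ K : Subgroup G, (Nat.card K).Coprime 3 → (∀ j ∈ J, K.map (MulAut.conj j).toMonoidHom = K) → K = ⊥)
    (T : OrdDiv.OrderTable.{u})
    (known : ∀ (L : Type u) [Group L] [Finite L] [IsSimpleGroup L], IsKnownSimple' L) :
    (∃ M : Subgroup G, M.Normal ∧ x ∈ M ∧ (∀ a ∈ M, ∀ b ∈ M, a * b = b * a) ∧ IsPGroup 3 M) ∨
    ∃ K : Subgroup G, K.Normal ∧ IsSimpleGroup K ∧ (¬ ∀ a b : K, a * b = b * a) ∧ x ∈ K ∧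
      centralizer (K : Set G) = ⊥ := by
  have hx1 : x ≠ 1 := fun h1 => by
    have := h.ord
    rw [h1, orderOf_one] at this
    norm_num at this
  have : Nontrivial G := ⟨x, 1, hx1⟩
  obtain ⟨N, hNn, hN, hmin⟩ := Lib.SubnormalJoin.exists_minimal_normal G
  by_cases hab : ∀ a ∈ N, ∀ b ∈ N, Commute a b
  · left
    obtain ⟨p, hp, hpN, hexp⟩ := abelian_structure N hN hmin hab
    have hxN : x ∈ N := mem_of_normalized h sig hN (by rw [normalizer_eq_top]; exact le_top)
    have h1 := orderOf_dvd_of_pow_eq_one (hexp x hxN)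
    rw [h.ord, Nat.prime_dvd_prime_iff_eq Nat.prime_three hp] at h1
    subst h1
    exact ⟨N, hNn, hxN, fun a ha b hb => (hab a ha b hb).eq, hpN⟩
  · right
    obtain ⟨h1, h2, h3⟩ := simple_of_nonabelian h sig T known N hN hmin hab
    refine ⟨N, hNn, h1, fun h4 => hab fun a ha b hb => congrArg Subtype.val (h4 ⟨a, ha⟩ ⟨b, hb⟩), h3, h2⟩

/-- conjugation on a normal subgroup with trivial centralizer -/
theorem conjNormal_injective (K : Subgroup G) [K.Normal] (h : centralizer (K : Set G) = ⊥) :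
    Function.Injective (MulAut.conjNormal : G →* MulAut K) := by
  rw [injective_iff_map_eq_one]
  intro g hg
  have h1 : g ∈ centralizer (K : Set G) := by
    rw [mem_centralizer_iff]
    intro k hk
    have h2 := congrArg Subtype.val (DFunLike.congr_fun hg (⟨k, hk⟩ : K))
    rw [MulAut.conjNormal_apply] at h2
    exact (mul_inv_eq_iff_eq_mul.1 h2).symm
  rw [h, mem_bot] at h1
  exact h1

end Cfsg.Agent.H344.Reduce
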