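import Cfsg.Agent.H412.Tc.Defs

/-!
# Three-closures of solvable groups: the semilinear case (lemma StepE of the plan for S3621)

If `A` consists of `K`-semilinear maps of a `K`-space of dimension at least two, `3 ≤ |K|`, then
the 3-closure of the affine group over `A` is contained in the affine group over `cl2 A`, and
`cl2 A` again consists of semilinear maps.
-/

set_option autoImplicit false

namespace Cfsg.Agent.H344.TcStepE

open Equiv Cfsg.Agent.H412.Tc

section Ind

variable {K V : Type*} [Field K] [AddCommGroup V] [Module K V]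

/-- Linear independence of a pair. -/
def Ind (K : Type*) {V : Type*} [Field K] [AddCommGroup V] [Module K V] (a b : V) : Prop :=
  ∀ s t : K, s • a + t • b = 0 → s = 0 ∧ t = 0

theorem Ind.symm {a b : V} (h : Ind K a b) : Ind K b a := by
  intro s t hst
  rw [add_comm] at hst
  exact (h t s hst).symm

theorem Ind.eq {a b : V} (h : Ind K a b) {s t s' t' : K}
    (he : s • a + t • b = s' • a + t' • b) : s = s' ∧ t = t' := by
  have h1 : (s - s') • a + (t - t') • b = 0 := by
    rw [sub_smul, sub_smul]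
    rw [← sub_eq_zero] at he
    rw [← he]
    abel
  obtain ⟨h2, h3⟩ := h _ _ h1
  exact ⟨sub_eq_zero.1 h2, sub_eq_zero.1 h3⟩

theorem Ind.left_ne {a b : V} (h : Ind K a b) : a ≠ 0 := by
  rintro rfl
  have := (h 1 0 (by simp)).1
  exact one_ne_zero this

theorem Ind.right_ne {a b : V} (h : Ind K a b) : b ≠ 0 := h.symm.left_ne

theorem Ind.add_smul_left {a b : V} (h : Ind K a b) (k : K) : Ind K (a + k • b) b := by
  intro s t hst
  have h1 : s • a + (s * k + t) • b = 0 := by
    rw [← hst, smul_add, add_smul, smul_smul]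
    abel
  obtain ⟨h2, h3⟩ := h _ _ h1
  refine ⟨h2, ?_⟩
  rw [h2, zero_mul, zero_add] at h3
  exact h3

theorem Ind.smul_left {a b : V} (h : Ind K a b) {k : K} (hk : k ≠ 0) : Ind K (k • a) b := by
  intro s t hst
  rw [smul_smul] at hst
  obtain ⟨h2, h3⟩ := h _ _ hst
  exact ⟨(mul_eq_zero.1 h2).resolve_right hk, h3⟩

theorem exists_smul_of_not {a b : V} (h : ¬ Ind K a b) (hb : b ≠ 0) : ∃ k : K, a = k • b := by
  unfold Ind at h
  push Not at h
  obtain ⟨s, t, hst, hne⟩ := h
  by_cases hs : s = 0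
  · exfalso
    rw [hs, zero_smul, zero_add, smul_eq_zero] at hst
    exact hst.elim (hne hs) hb
  · refine ⟨-(s⁻¹ * t), ?_⟩
    have h1 : s⁻¹ • (s • a + t • b) = 0 := by rw [hst, smul_zero]
    rw [smul_add, smul_smul, smul_smul, inv_mul_cancel₀ hs, one_smul] at h1
    rw [neg_smul]
    exact eq_neg_of_add_eq_zero_left h1

theorem ind_of_ne {a d : V} (ha : a ≠ 0) (hd : ∀ c : K, d ≠ c • a) : Ind K a d := by
  by_contra h
  have h' : ¬ Ind K d a := fun h1 => h h1.symm
  obtain ⟨k, hk⟩ := exists_smul_of_not h' ha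
  exact hd k hk

theorem smul_eq_zero' (g : GV V) {v : V} (h : g • v = 0) : v = 0 := by
  have h1 : g⁻¹ • g • v = g⁻¹ • (0 : V) := by rw [h]
  rwa [inv_smul_smul, smul_zero] at h1

theorem Ind.map {a b : V} (h : Ind K a b) {g : GV V} (hg : Semi K g) :
    Ind K (g • a) (g • b) := by
  obtain ⟨σ, hσ⟩ := hg
  intro s t hst
  have h1 : g • (σ.symm s • a + σ.symm t • b) = 0 := by
    rw [smul_add, hσ, hσ, σ.apply_symm_apply, σ.apply_symm_apply, hst]
  obtain ⟨h2, h3⟩ := h _ _ (smul_eq_zero' g h1)
  exact ⟨(map_eq_zero_iff _ σ.symm.injective).1 h2, (map_eq_zero_iff _ σ.symm.injective).1 h3⟩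

end Ind

variable {K V : Type*} [Field K] [Finite K] [AddCommGroup V] [Module K V] [Finite V]

omit [Finite V] in
/-- An additive map agreeing on pairs with semilinear ones is semilinear. -/
theorem semi_of_cl2 (hdim : ∀ v : V, ∃ w, ∀ c : K, w ≠ c • v) (A : Subgroup (GV V))
    (hA : ∀ g ∈ A, Semi K g) (h : GV V) (hh : h ∈ cl2 A) : Semi K h := by
  have hmul : ∀ (c : K) (v : V), ∃ c' : K, h • c • v = c' • h • v := by
    intro c v
    obtain ⟨g, hg, h1, h2⟩ := mem_cl2.1 hh v (c • v)
    obtain ⟨σ, hσ⟩ := hA g hg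
    exact ⟨σ c, by rw [← h2, hσ, h1]⟩
  have hind : ∀ v w : V, Ind K v w → Ind K (h • v) (h • w) := by
    intro v w hvw
    obtain ⟨g, hg, h1, h2⟩ := mem_cl2.1 hh v w
    rw [← h1, ← h2]
    exact hvw.map (hA g hg)
  have key : ∀ (c : K) (v w : V), Ind K v w → ∀ k : K, h • c • v = k • h • v →
      h • c • w = k • h • w := by
    intro c v w hvw k hk
    obtain ⟨l, hl⟩ := hmul c w
    obtain ⟨m, hm⟩ := hmul c (v + w)
    rw [smul_add, smul_add, hk, hl, smul_add, smul_add] at hm
    obtain ⟨h1, h2⟩ := (hind v w hvw).eq hm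
    rw [hl, h1, h2]
  obtain ⟨v0, hv0⟩ := hdim 0
  have hv0' : v0 ≠ 0 := by
    intro h0
    exact hv0 0 (by rw [h0, zero_smul])
  have hhv0 : h • v0 ≠ 0 := fun h1 => hv0' (smul_eq_zero' h h1)
  choose τ hτ using fun c => hmul c v0
  have hall : ∀ (c : K) (v : V), h • c • v = τ c • h • v := by
    intro c v
    by_cases hv : v = 0
    · rw [hv, smul_zero, smul_zero, smul_zero]
    by_cases hi : Ind K v0 v
    · exact key c v0 v hi _ (hτ c)
    · have hi' : ¬ Ind K v v0 := fun h1 => hi h1.symm
      obtain ⟨k, hk⟩ := exists_smul_of_not hi' hv0'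
      have hk0 : k ≠ 0 := by
        rintro rfl
        exact hv (by rw [hk, zero_smul])
      obtain ⟨d, hd⟩ := hdim v0
      have h1 : Ind K v0 d := ind_of_ne hv0' hd
      have h2 := key c v0 d h1 _ (hτ c)
      have h3 : Ind K d v := by
        rw [hk]
        exact (h1.smul_left hk0).symm
      exact key c d v h3 _ h2
  have hcan : ∀ s t : K, s • h • v0 = t • h • v0 → s = t := by
    intro s t hst
    exact smul_left_injective K hhv0 hst
  let f : K →+* K :=
    { toFun := τ
      map_one' := by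
        apply hcan
        rw [← hτ, one_smul, one_smul]
      map_mul' := by
        intro c d
        apply hcan
        rw [← hτ, mul_smul, hall, hτ, mul_smul]
      map_zero' := by
        apply hcan
        rw [← hτ, zero_smul, zero_smul, smul_zero]
      map_add' := by
        intro c d
        apply hcan
        rw [← hτ, add_smul, smul_add, hτ, hτ, add_smul] }
  refine ⟨RingEquiv.ofBijective f ?_, fun c v => hall c v⟩
  exact (Finite.injective_iff_bijective).1 f.injective

omit [Finite V] in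
/-- An element of the 3-closure of the affine group fixing zero is additive on independent
pairs. -/
theorem add_of_ind (hK : 3 ≤ Nat.card K) (A : Subgroup (GV V)) (hA : ∀ g ∈ A, Semi K g)
    (f : V → V) (hf : Function.Injective f)
    (P1 : ∀ x y : V, ∃ g ∈ A, g • x = f x ∧ g • y = f y)
    (P2 : ∀ x y z : V, ∃ g ∈ A, g • (y - x) = f y - f x ∧ g • (z - x) = f z - f x)
    (a b : V) (hab : Ind K a b) : f (a + b) = f a + f b := by
  have hline : ∀ (x y : V) (c : K), ∃ c' : K, f (x + c • (y - x)) = f x + c' • (f y - f x) := by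
    intro x y c
    obtain ⟨g, hg, h1, h2⟩ := P2 x y (x + c • (y - x))
    obtain ⟨σ, hσ⟩ := hA g hg
    refine ⟨σ c, ?_⟩
    rw [add_sub_cancel_left, hσ, h1] at h2
    rw [h2]
    abel
  have hind : ∀ v w : V, Ind K v w → Ind K (f v) (f w) := by
    intro v w hvw
    obtain ⟨g, hg, h1, h2⟩ := P1 v w
    rw [← h1, ← h2]
    exact hvw.map (hA g hg)
  have hmul : ∀ (c : K) (v : V), ∃ c' : K, f (c • v) = c' • f v := by
    intro c v
    obtain ⟨g, hg, h1, h2⟩ := P1 v (c • v)
    obtain ⟨σ, hσ⟩ := hA g hg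
    exact ⟨σ c, by rw [← h2, hσ, h1]⟩
  -- a scalar different from zero and one
  obtain ⟨c, hc0, hc1⟩ : ∃ c : K, c ≠ 0 ∧ c ≠ 1 := by
    by_contra hcon
    push Not at hcon
    have h1 : (Set.univ : Set K) ⊆ {0, 1} := by
      intro c _
      by_cases hc : c = 0
      · exact Or.inl hc
      · exact Or.inr (hcon c hc)
    have h2 : Nat.card K ≤ 2 := by
      rw [← Set.ncard_univ]
      exact (Set.ncard_le_ncard h1).trans (Set.ncard_insert_le _ _ |>.trans (by simp))
    omega
  have hc1' : 1 - c ≠ 0 := sub_ne_zero.2 (Ne.symm hc1)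
  obtain ⟨α, β, hαβ⟩ : ∃ α β : K, f (a + b) = α • f a + β • f b := by
    obtain ⟨c', hc'⟩ := hline ((1 - c)⁻¹ • a) (c⁻¹ • b) c
    obtain ⟨s, hs⟩ := hmul (1 - c)⁻¹ a
    obtain ⟨t, ht⟩ := hmul c⁻¹ b
    have h1 : (1 - c)⁻¹ • a + c • (c⁻¹ • b - (1 - c)⁻¹ • a) = a + b := by
      have e1 : c • (c⁻¹ • b) = b := by rw [smul_smul, mul_inv_cancel₀ hc0, one_smul]
      have e2 : (1 - c)⁻¹ • a - c • (1 - c)⁻¹ • a = a := by
        have : (1 - c)⁻¹ • a - c • (1 - c)⁻¹ • a = (1 - c) • (1 - c)⁻¹ • a := by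
          rw [sub_smul, one_smul]
        rw [this, smul_smul, mul_inv_cancel₀ hc1', one_smul]
      rw [smul_sub, e1]
      calc (1 - c)⁻¹ • a + (b - c • (1 - c)⁻¹ • a)
          = ((1 - c)⁻¹ • a - c • (1 - c)⁻¹ • a) + b := by abel
        _ = a + b := by rw [e2]
    rw [h1, hs, ht] at hc'
    refine ⟨(1 - c') * s, c' * t, ?_⟩
    rw [hc', mul_smul, mul_smul, sub_smul, one_smul, smul_sub]
    abel
  -- the coefficients are one
  have hone : ∀ (a b : V), Ind K a b → ∀ α β : K, f (a + b) = α • f a + β • f b → α = 1 := by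
    intro a b hab α β hαβ
    by_contra hα
    have hα' : 1 - α ≠ 0 := sub_ne_zero.2 (Ne.symm hα)
    choose φ hφ using fun k => hline a (a + b) k
    have hφinj : Function.Injective φ := by
      intro k l hkl
      have h1 : f (a + k • (a + b - a)) = f (a + l • (a + b - a)) := by
        rw [hφ, hφ, hkl]
      have h2 := hf h1
      rw [add_sub_cancel_left] at h2
      exact smul_left_injective K hab.right_ne (add_left_cancel h2)
    obtain ⟨k, hk⟩ := (Finite.injective_iff_surjective.1 hφinj) (1 - α)⁻¹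
    have h1 := hφ k
    rw [hk, hαβ, add_sub_cancel_left] at h1
    have h2 : f a + (1 - α)⁻¹ • (α • f a + β • f b - f a) = ((1 - α)⁻¹ * β) • f b := by
      have e1 : α • f a + β • f b - f a = β • f b - (1 - α) • f a := by
        rw [sub_smul, one_smul]; abel
      rw [e1, smul_sub, smul_smul, smul_smul, inv_mul_cancel₀ hα', one_smul]
      abel
    rw [h2] at h1
    have h3 := hind _ _ (hab.add_smul_left k)
    have h4 := h3 1 (-((1 - α)⁻¹ * β)) (by rw [h1, one_smul, neg_smul]; abel)
    exact one_ne_zero h4.1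
  have h1 := hone a b hab α β hαβ
  have h2 := hone b a hab.symm β α (by rw [add_comm b a, hαβ]; abel)
  rw [hαβ, h1, h2, one_smul, one_smul]

theorem main
    (hK : 3 ≤ Nat.card K) (hdim : ∀ v : V, ∃ w, ∀ c : K, w ≠ c • v) (A : Subgroup (GV V))
    (hA : ∀ g ∈ A, Semi K g) :
    cl (Aff A) ≤ Aff (cl2 A) ∧ ∀ h ∈ cl2 A, Semi K h := by
  refine ⟨?_, fun h hh => semi_of_cl2 hdim A hA h hh⟩
  intro h hh
  let f : V → V := fun x => h x - h 0
  have hf0 : f 0 = 0 := sub_self _
  have hinj : Function.Injective f := by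
    intro x y hxy
    exact h.injective (sub_left_injective hxy)
  have P2 : ∀ x y z : V, ∃ g ∈ A, g • (y - x) = f y - f x ∧ g • (z - x) = f z - f x := by
    intro x y z
    obtain ⟨k, hk, h1, h2, h3⟩ := mem_cl.1 hh x y z
    obtain ⟨g, hg, t, ht⟩ := mem_Aff.1 hk
    refine ⟨g, hg, ?_, ?_⟩
    · have e : f y - f x = h y - h x := by simp only [f]; abel
      rw [e, ← h1, ← h2, ht, ht, smul_sub]
      abel
    · have e : f z - f x = h z - h x := by simp only [f]; abel
      rw [e, ← h1, ← h3, ht, ht, smul_sub]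
      abel
  have P1 : ∀ x y : V, ∃ g ∈ A, g • x = f x ∧ g • y = f y := by
    intro x y
    obtain ⟨g, hg, h1, h2⟩ := P2 0 x y
    rw [sub_zero, hf0, sub_zero] at h1 h2
    exact ⟨g, hg, h1, h2⟩
  have hadd : ∀ a b : V, f (a + b) = f a + f b := by
    intro a b
    by_cases ha : a = 0
    · rw [ha, hf0, zero_add, zero_add]
    by_cases hb : b = 0
    · rw [hb, hf0, add_zero, add_zero]
    by_cases hab : Ind K a b
    · exact add_of_ind hK A hA f hinj P1 P2 a b hab
    have hba : ¬ Ind K b a := fun h1 => hab h1.symm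
    obtain ⟨k, hk⟩ := exists_smul_of_not hba ha
    have hk0 : k ≠ 0 := by
      rintro rfl
      exact hb (by rw [hk, zero_smul])
    obtain ⟨d, hd⟩ := hdim a
    have had : Ind K a d := ind_of_ne ha hd
    have hbd : Ind K b d := by rw [hk]; exact had.smul_left hk0
    have h1 : f (b + d) = f b + f d := add_of_ind hK A hA f hinj P1 P2 b d hbd
    have hda : Ind K (d + k • a) a := had.symm.add_smul_left k
    have h2 : f (a + (b + d)) = f a + f (b + d) := by
      apply add_of_ind hK A hA f hinj P1 P2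
      rw [add_comm b d, hk]
      exact hda.symm
    have h3 : f ((a + b) + d) = f (a + b) + f d := by
      by_cases hab0 : a + b = 0
      · rw [hab0, hf0, zero_add, zero_add]
      · apply add_of_ind hK A hA f hinj P1 P2
        have e : a + b = (1 + k) • a := by rw [add_smul, one_smul, hk]
        rw [e]
        apply had.smul_left
        intro h0
        exact hab0 (by rw [e, h0, zero_smul])
    rw [← add_assoc, h3, h1, ← add_assoc] at h2
    exact add_right_cancel h2
  let F : V →+ V := ⟨⟨f, hf0⟩, hadd⟩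
  let e : V ≃+ V := AddEquiv.ofBijective F ((Finite.injective_iff_bijective).1 hinj)
  let u : GV V := ⟨e.toAddMonoidHom, e.symm.toAddMonoidHom, by ext x; exact e.apply_symm_apply x,
    by ext x; exact e.symm_apply_apply x⟩
  have hu : ∀ x, u • x = f x := fun x => rfl
  refine mem_Aff.2 ⟨u, ?_, h 0, fun x => ?_⟩
  · refine mem_cl2.2 fun x y => ?_
    rw [hu, hu]
    exact P1 x y
  · rw [hu]
    simp only [f]
    abel

end Cfsg.Agent.H344.TcStepE
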