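import Cfsg.Agent.H720.PV.Tools
import Cfsg.Agent.H541.VanSzRee
import Cfsg.Agent.H129.CycRow

/-!
# Rows of S4987 from `Kill S p` (helper344)

* `row_of_adj` : `Kill S p` and `p` adjacent to some prime;
* `exists_sylow_cyclic` : `HasCyc S p` gives a cyclic Sylow `p`-subgroup;
* `row_of_near` : `Kill S p`, and `HasCyc S p` if `p` has distance at least 3 from 2.
-/

set_option autoImplicit false

namespace Cfsg.Agent.H344.VanNear

open Cfsg Cfsg.Agent.H620 Cfsg.Agent.H387.VO Cfsg.Agent.H94.PG Cfsg.Agent.H564.NearTwo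

universe u

variable {G : Type u} [Group G] [Finite G] {p : ℕ} [hpf : Fact p.Prime]

/-- `Kill G p` and a `p`-singular element of order `≠ p`. -/
theorem twoVan_of_kill_orderOf (hk : Kill G p) {x : G} (hx : p ∣ orderOf x) (hne : orderOf x ≠ p) : TwoVan p G := by
  obtain ⟨y, hy⟩ := exists_prime_orderOf_dvd_card' (G := G) p (hx.trans (orderOf_dvd_natCard x))
  exact TwoVan.of_order hx (by rw [hy]) (hk.vz hx) (hk.vz (by rw [hy])) (by rw [hy]; exact hne)

theorem row_of_adj (hk : Kill G p) {s : ℕ} (h : Adj G p s) : Row p G := by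
  obtain ⟨h1, h2, h3, x, y, hx, hy, hc⟩ := h
  have h4 : orderOf (x * y) = p * s := by
    rw [hc.orderOf_mul_eq_mul_orderOf_of_coprime (by rw [hx, hy]; exact (Nat.coprime_primes h1 h2).2 h3), hx, hy]
  refine Or.inr (Or.inr (twoVan_of_kill_orderOf hk (x := x * y) (by rw [h4]; exact Dvd.intro _ rfl) ?_))
  rw [h4]
  intro h5
  have h6 := h2.one_lt
  have h7 := h1.pos
  nlinarith

theorem exists_sylow_cyclic (h : H182.Cent.HasCyc G p) : ∃ P : Sylow p G, IsCyclic (P : Subgroup G) := by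
  obtain ⟨T, h1, h2, h3⟩ := h
  obtain ⟨⟨y, hyT⟩, hy⟩ := exists_prime_orderOf_dvd_card' (G := ↥T) p h1
  rw [Subgroup.orderOf_mk] at hy
  have hy1 : y ≠ 1 := by
    rintro rfl
    rw [orderOf_one] at hy
    exact hpf.out.one_lt.ne hy
  have hpy : IsPGroup p (Subgroup.zpowers y) := IsPGroup.of_card (n := 1) (by rw [Nat.card_zpowers, hy, pow_one])
  obtain ⟨P, hP⟩ := hpy.exists_le_sylow
  have hyP : y ∈ (P : Subgroup G) := hP (Subgroup.mem_zpowers y)
  have : Nontrivial (P : Subgroup G) := ⟨⟨⟨y, hyP⟩, 1, fun h => hy1 (congrArg Subtype.val h)⟩⟩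
  have hc := IsPGroup.center_nontrivial (G := (P : Subgroup G)) P.isPGroup'
  obtain ⟨⟨⟨z, hzP⟩, hz⟩, hz1⟩ := exists_ne (1 : Subgroup.center (P : Subgroup G))
  have hz1' : z ≠ 1 := fun h => hz1 (Subtype.ext (Subtype.ext h))
  have hcz : ∀ x ∈ (P : Subgroup G), x * z = z * x := fun x hx => by
    have := Subgroup.mem_center_iff.1 hz ⟨x, hx⟩
    exact congrArg Subtype.val this
  have hzT : z ∈ T := h3 y hyT hy1 (Subgroup.mem_centralizer_singleton_iff.2 (hcz y hyP).symm)
  have hPT : (P : Subgroup G) ≤ T := fun x hx => h3 z hzT hz1' (Subgroup.mem_centralizer_singleton_iff.2 (hcz x hx))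
  exact ⟨P, isCyclic_of_injective (Subgroup.inclusion hPT) (Subgroup.inclusion_injective hPT)⟩

theorem row_of_hasCyc (hk : Kill G p) (h : H182.Cent.HasCyc G p) : Row p G := by
  refine H541.VanSzRee.row_of_cyclic (exists_sylow_cyclic h) hk ?_
  obtain ⟨T, h1, -, -⟩ := h
  exact h1.trans (Subgroup.card_subgroup_dvd_card T)

/-- **The row from `Kill`**. -/
theorem row_of_near (hk : Kill G p) (h2 : p ≠ 2) (h : ¬ Near G p → H182.Cent.HasCyc G p) : Row p G := by
  by_cases hn : Near G p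
  · rcases hn with hn | hn | ⟨s, hs, -⟩
    · exact absurd hn h2
    · exact row_of_adj hk hn
    · exact row_of_adj hk hs
  · exact row_of_hasCyc hk (h hn)

end Cfsg.Agent.H344.VanNear
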