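import Cfsg.Agent.H344.VanRoots
import Cfsg.Agent.H344.VanNear
import Cfsg.Agent.H515.KillExc
import Cfsg.Agent.H129.CycExc
import Cfsg.Agent.H620.RowClass

/-!
# S4987: the row of `E₈(q)` (helper344, task 3067)

`e` = order of `q` modulo `p`.

* `kill_E8` : `e ≥ 6`: `Kill (E₈(q)) p` (the big character is of `p`-defect zero);
* `e ≤ 5`: two orthogonal roots (`H344/VanRoots`);
* `row` : the row.
-/

set_option autoImplicit false
set_option linter.unusedSectionVars false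

namespace Cfsg.Agent.H344.VanE8

open Cfsg Cfsg.Agent.H620 Cfsg.Agent.H387.VO

universe u

section kill

open Cfsg.Agent.H620.RowSz Cfsg.Agent.H515.KillExc
open Cfsg.Agent.H53.HC Cfsg.Agent.H53.HC.ExcRows
open CoxeterSystem Cfsg.Agent.ChevalleyStructure.CoxeterGeom Cfsg.Agent.Tits.Roots Cfsg.Agent.Tits.Core
  Cfsg.Agent.Tits.Exchange Cfsg.Agent.Nodes.Reps Cfsg.Agent.Nodes.BNOf Cfsg.Agent.Nodes.StabComb
  Cfsg.Agent.Nodes.Bruhat Cfsg.Agent.Nodes.OppDec Cfsg.Agent.Nodes.LeviDec Cfsg.Agent.H35.ExcIdx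
  Cfsg.Agent.H35.PoinNum
open Cfsg.Lie Cfsg.Agent.Nodes.RGDChev

variable {K : Type u} [Field K] [Fintype K] {r f : ℕ} (hr : r.Prime) (hf : f ≠ 0)
  (hK : Fintype.card K = r ^ f) [CharP K r]

include hr hf hK in
theorem kill_E8_aux {l e : ℕ} (hl : l.Prime) (hlr : l ≠ r) (hprim : ∀ m, l ∣ (r ^ f) ^ m - 1 ↔ e ∣ m)
    (hJ : ∀ x ∈ [1, 2, 3, 2, 2, 3, 4, 5], ¬ e ∣ x) : Kill ↥(chevE8.group K) l := by
  have := finite_group (K := K) chevE8
  have : Fact r.Prime := ⟨hr⟩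
  obtain ⟨χ, hχ, N, hN, hidx⟩ := hasIdx_E8 hr hf hK
  have h2 := two_le hr hf
  have hJ' : ({j | j ≠ 3} : Set (Fin 8)) = {j | j ∈ ([0, 1, 2, 4, 5, 6, 7] : List (Fin 8))} := by
    ext j; revert j; decide
  have hfin := finite_W hpE8 CoxeterMatrix.E₈.toCoxeterSystem
  have R := rgd (K := K) hpE8 CoxeterMatrix.E₈.toCoxeterSystem r
  have hc : ∀ i, Nat.card (XX chevE8 8 K (sr i)) = r ^ f := fun i => by
    rw [card_XX hpE8 K CoxeterMatrix.E₈.toCoxeterSystem (isRoot_sr _ _ i), Nat.card_eq_fintype_card, hK]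
  have h3 := Cfsg.Agent.S1065.result hK
  have hI := index_split hpE8 K hr hf hK CoxeterMatrix.E₈.toCoxeterSystem (J := {j | j ≠ 3}) (d := 1)
    (N := FA 2 (r ^ f) * (FA 1 (r ^ f) * (FA 4 (r ^ f) * 1)))
    (P := pr (r ^ f) [2, 8, 12, 14, 18, 20, 24, 30]) (not_dvd_of_dvd hr hf (one_dvd _))
    (by rw [← hK]; exact Cfsg.Agent.S1035.result rfl (chevE8, 1) (by simp))
    ⟨f * 120, by
      rw [pow_mul]
      simp only [pr_cons, pr_nil]
      rw [one_mul, h3]
      ring⟩ (not_dvd_pr hr hf _ (by simp)) (by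
        rw [hJ']
        exact card_step R path_E8_3_0 (fun i _ => hc i) (card_step R path_E8_3_1 (fun i _ => hc i)
          (card_step R path_E8_3_2 (fun i _ => hc i) (card_nil R))))
  refine kill_num (q := r ^ f) (d := 1) (b := f * 120) (dS := [2, 8, 12, 14, 18, 20, 24, 30])
    (dJ := [1, 2, 3, 2, 2, 3, 4, 5]) (dD := []) hr hχ hN hidx ?_ ?_ hl hlr hprim hJ
  · rw [← hI]
    have e1 := mul_poin (show 1 ≤ r ^ f by omega) 1
    have e2 := mul_poin (show 1 ≤ r ^ f by omega) 2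
    have e4 := mul_poin (show 1 ≤ r ^ f by omega) 4
    have e : pr (r ^ f) [1, 2, 3, 2, 2, 3, 4, 5] = (r ^ f - 1) ^ 1 * ((∏ i ∈ Finset.range 2, ((r ^ f) ^ (i + 2) - 1)) * (∏ i ∈ Finset.range 1, ((r ^ f) ^ (i + 2) - 1)) * (∏ i ∈ Finset.range 4, ((r ^ f) ^ (i + 2) - 1))) := by
      simp only [pr_cons, pr_nil, Finset.prod_range_succ, Finset.prod_range_zero, pow_one]
      ring
    rw [e, ← e1, ← e2, ← e4]
    unfold FA
    ring
  · rw [pow_mul]
    simp only [pr_cons, pr_nil]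
    rw [one_mul, h3]
    ring

end kill

section main

open Cfsg.Lie Cfsg.Agent.H378 Cfsg.Agent.H378.ExcAdj Cfsg.Agent.H378.CycTab Cfsg.Agent.H378.AdjTab
open Cfsg.Agent.BpExc.RowsUntw Cfsg.Agent.BpExc.FamInst Cfsg.Agent.H344.VanRoots
open Cfsg.Agent.ChevalleyStructure.CoxeterGeomTypes Cfsg.Agent.Nodes.RGDChev
open Cfsg.Agent.H493.PGTorus Cfsg.Agent.H129.WData

/-- the killed primes -/
theorem kill_E8 {F : Type u} [Field F] [Finite F] {r : ℕ} (hr : r.Prime) [hc : CharP F r] {p : ℕ} (hp : p.Prime)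
    (hpr : p ≠ r) (he : 6 ≤ od (Nat.card F) p) : Kill ↥(chevE8.group F) p := by
  have := Fintype.ofFinite F
  obtain ⟨r', _, hc', n, hn0, hn⟩ := SmallTor.exists_charP F
  have hrr : r' = r := CharP.eq F hc' hc
  subst hrr
  have hq : 1 ≤ Nat.card F := Nat.card_pos
  refine kill_E8_aux (e := od (Nat.card F) p) hr hn0.ne' (by rw [← hn, Nat.card_eq_fintype_card]) hp hpr
    (fun m => ?_) fun x hx h => ?_
  · rw [← hn]
    exact ⟨fun h => od_dvd hq h, fun h => dvd_of_od_dvd hq h⟩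
  · have h1 : 0 < x ∧ x ≤ 5 := by
      have key : ∀ x ∈ [1, 2, 3, 2, 2, 3, 4, 5], 0 < x ∧ x ≤ 5 := by decide
      exact key x hx
    have := Nat.le_of_dvd h1.1 h
    omega

theorem lt5 : 123 < chevE8.nroots := by decide +kernel

/-- the simple root of the node 5 -/
theorem vec5 : vec chevE8 8 123 = ![0, 0, 0, 0, 0, 1, 0, 0] := by
  have h : ∀ i : Fin 8, vec chevE8 8 123 i = (![0, 0, 0, 0, 0, 1, 0, 0] : Fin 8 → ℤ) i := by
    unfold vec
    decide +kernel
  exact funext h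

theorem cm5 : cm4 chevE8 239 123 = true := by decide +kernel

theorem fix2 : ∀ m, ∑ j, vec chevE8 8 123 j * hd AdjE8.L2 j m = vec chevE8 8 123 m := by
  rw [vec5]; decide +kernel

theorem fix3 : ∀ m, ∑ j, vec chevE8 8 123 j * hd AdjE8.L3 j m = vec chevE8 8 123 m := by
  rw [vec5]; decide +kernel

theorem fix4 : ∀ m, ∑ j, vec chevE8 8 123 j * hd AdjE8.L4 j m = vec chevE8 8 123 m := by
  rw [vec5]; decide +kernel

theorem fix5 : ∀ m, ∑ j, vec chevE8 8 123 j * hd AdjE8.L5 j m = vec chevE8 8 123 m := by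
  rw [vec5]; decide +kernel

/-- the primes with `e ≤ 5` -/
theorem pairs_E8 {F : Type u} [Field F] [Finite F] {r : ℕ} [Fact r.Prime] [hc : CharP F r] {p : ℕ} (hp : p.Prime)
    (hp5 : 5 ≤ p) (hpr : p ≠ r) (hd : p ∣ Nat.card ↥(chevE8.group F)) (he : ¬ 6 ≤ od (Nat.card F) p) :
    ∃ x u v u' v' : ↥(chevE8.group F), Pairs p r x u v u' v' := by
  let cs : CoxeterSystem CoxeterMatrix.E₈ CoxeterMatrix.E₈.Group := CoxeterMatrix.E₈.toCoxeterSystem
  have := finite_W e8T cs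
  have hq : 1 ≤ Nat.card F := Nat.card_pos
  have hn1 : ∀ {m : ℕ}, m ≠ 1 → od (Nat.card F) p = m → ¬ p ∣ Nat.card F - 1 := by
    intro m hm h3 h4
    have h5 : od (Nat.card F) p ∣ 1 := od_dvd hq (by rw [pow_one]; exact h4)
    rw [h3] at h5
    exact hm (Nat.dvd_one.1 h5)
  have h0 : ¬ p ∣ Nat.card F := by
    intro h
    obtain ⟨r', _, hc', n, hn0, hn⟩ := SmallTor.exists_charP F
    have hrr : r' = r := CharP.eq F hc' hc
    rw [hn, hrr] at h
    exact hpr ((Nat.prime_dvd_prime_iff_eq hp Fact.out).1 (hp.dvd_of_dvd_pow h))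
  have hor := od_E8 hp hd
  rcases hor with h | h | h | h | h | h | h
  · exact absurd h h0
  · exact exists_pairs_split e8T cs (j := 0) AdjE8.lt_nroots lt5 (by decide +kernel) (by decide +kernel) cm5 hp
      (by omega) (dvd_of_od_one hq h)
  · exact exists_pairs e8T cs inv_E8 one_ne_zero AdjE8.hA AdjE8.lt_nroots lt5 cm5 fix2 AdjE8.row2 hp
      (hn1 (by decide) h) (dvd2 hp h)
  · exact exists_pairs e8T cs inv_E8 one_ne_zero AdjE8.hA AdjE8.lt_nroots lt5 cm5 fix3 AdjE8.row3 hp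
      (hn1 (by decide) h) (dvd3 hp h)
  · exact exists_pairs e8T cs inv_E8 one_ne_zero AdjE8.hA AdjE8.lt_nroots lt5 cm5 fix4 AdjE8.row4 hp
      (hn1 (by decide) h) (dvd4 hp h)
  · exact exists_pairs e8T cs inv_E8 one_ne_zero AdjE8.hA AdjE8.lt_nroots lt5 cm5 fix5 AdjE8.row5 hp
      (hn1 (by decide) h) (dvd5 hp h)
  · exact absurd h (by omega)

/-- **S4987, the row of `E₈(q)`.** -/
theorem row {K : Type u} [Group K] [Finite K] [IsSimpleGroup K] {r : ℕ} (hr : r.Prime)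
    {F : Type} [Field F] [Fintype F] [hc : CharP F r] (e : Nonempty (K ≃* ↥(chevE8.group F)))
    {p : ℕ} [hpf : Fact p.Prime] (hp : 5 ≤ p) (hpr : p ≠ r) (hd : p ∣ Nat.card K) : Row p K := by
  have : Fact r.Prime := ⟨hr⟩
  obtain ⟨f⟩ := e
  have hfin : Finite ↥(chevE8.group F) := Finite.of_equiv K f.toEquiv
  have hd' : p ∣ Nat.card ↥(chevE8.group F) := by rwa [← Nat.card_congr f.toEquiv]
  by_cases he : 6 ≤ od (Nat.card F) p
  · exact (VanNear.row_of_near (kill_E8 hr hpf.out hpr he) (by omega)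
      fun hn => H129.CycExc.hasCyc_E8 F hpf.out hd' hn).mulEquiv f.symm
  · have hk : Kill K r := RowClass.kill_of_lie hr
      (by
        right; right; right; right; right; right; left
        exact ⟨F, inferInstance, inferInstance, hc, Or.inr (Or.inr (Or.inr (Or.inr ⟨f⟩)))⟩)
    obtain ⟨x, u, v, u', v', h⟩ := pairs_E8 (F := F) hpf.out hp hpr hd' he
    obtain ⟨g, g', h1, h2, h3, h4, h5⟩ := h.two_orders hpf.out hr hpr hp
    refine Or.inr (Or.inr (H720.PV.twoVan_of_kill hk (x := f.symm g) (y := f.symm g') ?_ ?_ ?_ ?_ ?_)) <;>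
      simpa only [MulEquiv.orderOf_eq]

end main

end Cfsg.Agent.H344.VanE8
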