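import Cfsg.Agent.H991.PglAdj3
import Cfsg.Agent.KFacts.Mult.Chev

/-!
# Two orthogonal roots fixed by a Weyl group element (helper344, S4987)

`D.group F`, characteristic `p`.  `w` fixes the roots `r` and `s`, the root groups of `± r` and `± s` commute,
`ℓ ∤ q - 1` is a prime dividing `f(q)` (row `RowOK`), or `ℓ ∣ q - 1` and `r`, `s` are orthogonal to a simple root `j`:
there are `x` of order `ℓ` and braid pairs `u, v ∈ X_{± r}`, `u', v' ∈ X_{± s}`, everything commutes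
(`exists_pairs`, `exists_pairs_split`).

* `two_orders` : two elements of different orders divisible by `ℓ p`.
-/

set_option autoImplicit false
set_option linter.unusedSectionVars false

namespace Cfsg.Agent.H344.VanRoots

open CoxeterSystem Subgroup Cfsg Cfsg.Lie Cfsg.Lie.ChevalleyDatum
open Cfsg.Agent.ChevalleyStructure Cfsg.Agent.ChevalleyStructure.Elts Cfsg.Agent.ChevalleyStructure.CoxeterGeom
  Cfsg.Agent.ChevalleyStructure.CoxeterGeomTypes Cfsg.Agent.ChevalleyStructure.NPerm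
open Cfsg.Agent.Tits.Roots Cfsg.Agent.Tits.Core Cfsg.Agent.Nodes.Reps Cfsg.Agent.Nodes.BNOf
  Cfsg.Agent.Nodes.RGDChev Cfsg.Agent.Nodes.Bruhat
open Cfsg.Agent.KFacts.RgdField Cfsg.Agent.KFacts.RgdChevCoord Cfsg.Agent.BpExc.TorCent Cfsg.Agent.BpExc.TorChev
open Cfsg.Agent.BpExc.Tow Cfsg.Agent.BpExc.TowChev Cfsg.Agent.BpExc.FamExt Cfsg.Agent.BpExc.FamUntw
  Cfsg.Agent.BpExc.FamInst Cfsg.Agent.BpExc.LangFr Cfsg.Agent.BpExc.FamField Cfsg.Agent.BpExc.RowsUntw
open Cfsg.Agent.GpExc.Field (glMap emb coe_emb glMap_xG emb_injective coe_glMap)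
open Cfsg.Agent.H378 Cfsg.Agent.H378.TorDual Cfsg.Agent.H378.TorChar Cfsg.Agent.H378.TorFin
  Cfsg.Agent.H378.RankOne Cfsg.Agent.H378.RootTor Cfsg.Agent.H378.SmallTor Cfsg.Agent.H378.AdjTab
  Cfsg.Agent.H378.CycTab Cfsg.Agent.H378.ExcAdj
open Cfsg.Agent.H493.PGTorus Cfsg.Agent.H129.WData Cfsg.Agent.H991.BraidThree Cfsg.Agent.H991.PglAdj3

universe u v

/-! ### the orders -/

/-- `2` divides the order of `u v u` for a braid pair. -/
theorem two_dvd_of_br {Y : Type*} [Group Y] {u v : Y} (h : Br u v) : 2 ∣ orderOf (u * v * u) := by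
  by_contra h2
  have hcop : Nat.Coprime 2 (orderOf (u * v * u)) := (Nat.Prime.coprime_iff_not_dvd Nat.prime_two).2 h2
  obtain ⟨m, hm⟩ := exists_pow_eq_self_of_coprime hcop
  have h3 : Commute ((u * v * u) ^ 2) u := by
    have := h.cube_comm
    rw [h.cube] at this
    rwa [pow_two]
  have h4 : Commute (u * v * u) u := by
    rw [← hm]
    exact h3.pow_left m
  apply h.ne
  have h5 : u * v * u * u = v * (u * v * u) := h.n_u
  rw [h4.eq] at h5
  exact mul_right_cancel h5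

/-- the pairs -/
structure Pairs {Y : Type*} [Group Y] (ℓ p : ℕ) (x u v u' v' : Y) : Prop where
  ox : orderOf x = ℓ
  ou : orderOf u = p
  ou' : orderOf u' = p
  br : Br u v
  br' : Br u' v'
  xu : Commute x u
  xv : Commute x v
  xu' : Commute x u'
  xv' : Commute x v'
  uu' : Commute u u'
  uv' : Commute u v'
  vu' : Commute v u'
  vv' : Commute v v'

/-- **Two elements of different orders divisible by `ℓ p`.** -/
theorem two_orders {Y : Type*} [Group Y] [Finite Y] {ℓ p : ℕ} (hℓ : ℓ.Prime) (hp : p.Prime) (hℓp : ℓ ≠ p)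
    (hℓ5 : 5 ≤ ℓ) {x u u' v' : Y} (hx : orderOf x = ℓ) (hu : orderOf u = p) (hb : Br u' v')
    (xu : Commute x u) (xu' : Commute x u') (xv' : Commute x v') (uu' : Commute u u') (uv' : Commute u v') :
    ∃ g g' : Y, ℓ ∣ orderOf g ∧ p ∣ orderOf g ∧ ℓ ∣ orderOf g' ∧ p ∣ orderOf g' ∧ orderOf g ≠ orderOf g' := by
  have hcop : ℓ.Coprime p := (Nat.coprime_primes hℓ hp).2 hℓp
  have h1 : orderOf (x * u) = ℓ * p := by
    rw [xu.orderOf_mul_eq_mul_orderOf_of_coprime (by rw [hx, hu]; exact hcop), hx, hu]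
  obtain ⟨m, y, hm, hmp, hmy, hc⟩ : ∃ (m : ℕ) (y : Y), m.Prime ∧ ¬ m ∣ ℓ * p ∧ m ∣ orderOf y ∧ Commute (x * u) y := by
    by_cases h3 : p = 3
    · refine ⟨2, u' * v' * u', Nat.prime_two, ?_, two_dvd_of_br hb, ?_⟩
      · intro h
        rcases (Nat.Prime.dvd_mul Nat.prime_two).1 h with h | h
        · have := (Nat.prime_dvd_prime_iff_eq Nat.prime_two hℓ).1 h
          omega
        · rw [h3] at h
          omega
      · exact ((xu'.mul_left uu').mul_right (xv'.mul_left uv')).mul_right (xu'.mul_left uu')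
    · refine ⟨3, u' * v', Nat.prime_three, ?_, hb.three_dvd, ?_⟩
      · intro h
        rcases (Nat.Prime.dvd_mul Nat.prime_three).1 h with h | h
        · have := (Nat.prime_dvd_prime_iff_eq Nat.prime_three hℓ).1 h
          omega
        · have := (Nat.prime_dvd_prime_iff_eq Nat.prime_three hp).1 h
          omega
      · exact (xu'.mul_left uu').mul_right (xv'.mul_left uv')
  obtain ⟨g', hg'⟩ := mul_dvd_of_comm (Nat.Coprime.symm ((Nat.Prime.coprime_iff_not_dvd hm).2 hmp))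
    (x := x * u) (y := y) (by rw [h1]) hmy hc (orderOf_pos _).ne' (orderOf_pos _).ne'
  refine ⟨x * u, g', ?_, ?_, ?_, ?_, ?_⟩
  · rw [h1]; exact Dvd.intro _ rfl
  · rw [h1]; exact Dvd.intro_left _ rfl
  · exact (Dvd.intro _ rfl : ℓ ∣ ℓ * p).trans ((Dvd.intro _ rfl : ℓ * p ∣ ℓ * p * m).trans hg')
  · exact (Dvd.intro_left _ rfl : p ∣ ℓ * p).trans ((Dvd.intro _ rfl : ℓ * p ∣ ℓ * p * m).trans hg')
  · intro h
    apply hmp
    rw [← h1, h]
    exact (Dvd.intro_left _ rfl : m ∣ ℓ * p * m).trans hg'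

theorem Pairs.two_orders {Y : Type*} [Group Y] [Finite Y] {ℓ p : ℕ} {x u v u' v' : Y} (h : Pairs ℓ p x u v u' v')
    (hℓ : ℓ.Prime) (hp : p.Prime) (hℓp : ℓ ≠ p) (hℓ5 : 5 ≤ ℓ) :
    ∃ g g' : Y, ℓ ∣ orderOf g ∧ p ∣ orderOf g ∧ ℓ ∣ orderOf g' ∧ p ∣ orderOf g' ∧ orderOf g ≠ orderOf g' :=
  VanRoots.two_orders hℓ hp hℓp hℓ5 h.ox h.ou h.br' h.xu h.xu' h.xv' h.uu' h.uv'

variable {D : ChevalleyDatum} {l : ℕ} {M : CoxeterMatrix (Fin l)} (hp : IsType D l M) {k : Type u} [Field k]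
  {W : Type*} [Group W] (cs : CoxeterSystem M W)

/-! ### commuting root groups -/

/-- the check: the root groups of `r` and `s` commute -/
def cmB (D : ChevalleyDatum) (r s : ℕ) : Bool := (s != r) && (s != D.neg r) && (D.commTerms r s).isEmpty

/-- the check: the root groups of `± r` and `± s` commute -/
def cm4 (D : ChevalleyDatum) (r s : ℕ) : Bool :=
  cmB D r s && cmB D r (D.neg s) && cmB D (D.neg r) s && cmB D (D.neg r) (D.neg s)

include hp in
theorem comm_of_cmB {K : Type u} [Field K] {r s : ℕ} (hr : r < D.nroots) (hs : s < D.nroots) (h : cmB D r s = true)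
    {y y' : ↥(D.group K)} (hy : y ∈ XX D l K (vec D l r)) (hy' : y' ∈ XX D l K (vec D l s)) : Commute y y' := by
  unfold cmB at h
  simp only [Bool.and_eq_true, bne_iff_ne, ne_eq] at h
  obtain ⟨⟨h1, h2⟩, h3⟩ := h
  obtain ⟨t, rfl⟩ := (mem_XX hp hr).1 hy
  obtain ⟨t', rfl⟩ := (mem_XX hp hs).1 hy'
  apply Subtype.ext
  rw [Subgroup.coe_mul, Subgroup.coe_mul, coe_xc hp hr, coe_xc hp hs]
  exact (KFacts.Mult.Chev.commute_of_empty hp hr hs h1 h2 h3 t t').symm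

/-- the root groups of `± a` and `± b` commute -/
structure CommP (D : ChevalleyDatum) (l : ℕ) (K : Type u) [Field K] (a b : Fin l → ℤ) : Prop where
  pp : ∀ y ∈ XX D l K a, ∀ y' ∈ XX D l K b, Commute y y'
  pn : ∀ y ∈ XX D l K a, ∀ y' ∈ XX D l K (-b), Commute y y'
  np : ∀ y ∈ XX D l K (-a), ∀ y' ∈ XX D l K b, Commute y y'
  nn : ∀ y ∈ XX D l K (-a), ∀ y' ∈ XX D l K (-b), Commute y y'

include hp in
theorem commP_of_cm4 (K : Type u) [Field K] {r s : ℕ} (hr : r < D.nroots) (hs : s < D.nroots) (h : cm4 D r s = true) :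
    CommP D l K (vec D l r) (vec D l s) := by
  unfold cm4 at h
  simp only [Bool.and_eq_true] at h
  obtain ⟨⟨⟨h1, h2⟩, h3⟩, h4⟩ := h
  have hnr := neg_lt hp.inList hr
  have hns := neg_lt hp.inList hs
  refine ⟨fun y hy y' hy' => comm_of_cmB hp hr hs h1 hy hy', fun y hy y' hy' => ?_, fun y hy y' hy' => ?_,
    fun y hy y' hy' => ?_⟩
  · rw [← vec_neg hp hs] at hy'
    exact comm_of_cmB hp hr hns h2 hy hy'
  · rw [← vec_neg hp hr] at hy
    exact comm_of_cmB hp hnr hs h3 hy hy'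
  · rw [← vec_neg hp hr] at hy
    rw [← vec_neg hp hs] at hy'
    exact comm_of_cmB hp hnr hns h4 hy hy'

/-! ### primes not dividing `q - 1` -/

section Main

variable [IsAlgClosed k] (hk : LocFin k) (r : ℕ) [Fact r.Prime] [CharP k r]
  {F : Type u} [Field F] [Finite F] (f : F →+* k) {n : ℕ} (hn0 : 0 < n) (hn : Nat.card F = r ^ n)
  {d : ℕ} {B : Fin l → Fin l → ℤ} (hB : InvC D l d B) (hd : d ≠ 0)

include hk hn0 hn hB hd f in
theorem exists_pairs_aux {w : W} {a b : Fin l → ℤ} (ha : IsRoot cs hp.isCartan a) (hb : IsRoot cs hp.isCartan b)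
    (hwa : rep cs hp.isCartan w a = a) (hwb : rep cs hp.isCartan w b = b) (hab : CommP D l k a b)
    {ℓ : ℕ} (hℓ : ℓ.Prime) (hℓq : ¬ ℓ ∣ Nat.card F - 1)
    (hy : ∃ y : Multiplicative (Co (rep cs hp.isCartan w - ((Nat.card F : ℕ) : ℤ) •
      (1 : Module.End ℤ (Fin l → ℤ)))), orderOf y = ℓ) :
    ∃ x u v u' v' : ↥(D.group F), Pairs ℓ r x u v u' v' := by
  have hcop : ∀ m : ℕ, m.Coprime (Nat.card F - 1) → m.Coprime (Nat.gcd d (Nat.card F - 1)) := fun m hm =>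
    Nat.Coprime.coprime_dvd_right (Nat.gcd_dvd_right _ _) hm
  have hℓc : ℓ.Coprime (Nat.card F - 1) := (Nat.Prime.coprime_iff_not_dvd hℓ).2 hℓq
  have hrp : r.Prime := Fact.out
  have hrc : r.Coprime (Nat.card F - 1) := by
    rw [Nat.Prime.coprime_iff_not_dvd hrp]
    intro h1
    have h2 : r ∣ Nat.card F := by rw [hn]; exact dvd_pow_self _ hn0.ne'
    have h3 : 1 ≤ Nat.card F := Nat.card_pos
    have h4 : r ∣ 1 := by
      have := (Nat.dvd_sub h2 h1)
      have e : Nat.card F - (Nat.card F - 1) = 1 := by omega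
      rwa [e] at this
    exact hrp.one_lt.ne' (Nat.dvd_one.1 h4)
  have hinj := emb_injective hp.inList f
  rw [hn] at hy
  obtain ⟨g, hg⟩ := exists_rp cs (nsysL hp cs hk r) w
  obtain ⟨z, hz⟩ := lang' hp r hn0 g
  obtain ⟨e, he⟩ := twEquiv hp cs r hk hB hd hg (m := n)
  obtain ⟨e'⟩ := kerOf_equiv k (det_rep_ne_zero cs r hn0 hp.isCartan w)
  obtain ⟨y, hy⟩ := hy
  obtain ⟨t, ht⟩ : ∃ t : ↥(TwT D k r n g), t = e.symm (e'.symm y) := ⟨_, rfl⟩
  have hto : orderOf t = ℓ := by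
    rw [ht, MulEquiv.orderOf_eq, MulEquiv.orderOf_eq, hy]
  have hto' : orderOf t.1 = ℓ := by rw [Subgroup.orderOf_coe, hto]
  have htT : t.1 ∈ TT D k := t.2.1
  have htau : tau D k r n g t.1 = t.1 := t.2.2
  have htℓ : t.1 ^ ℓ = 1 := by rw [← hto']; exact pow_orderOf_eq_one _
  have hχK := (mem_TwT_iff hp cs r hk hg htT).1 t.2
  have hχℓ : tchar hp ⟨t.1, htT⟩ ^ ℓ = 1 := Regular.tchar_pow_eq_one hp htT htℓ
  have hℓn : ℓ.Coprime (r ^ n - 1) := by rw [← hn]; exact hℓc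
  have hcp : ∀ (y : ↥(D.group k)) (j : ℕ), (z * y * z⁻¹) ^ j = z * y ^ j * z⁻¹ := fun y j => conj_pow
  have hco : ∀ y : ↥(D.group k), orderOf (z * y * z⁻¹) = orderOf y := fun y => by
    have h1 : z * y * z⁻¹ = MulAut.conj z y := rfl
    rw [h1, MulEquiv.orderOf_eq]
  have hor : ∀ y : ↥(D.group F), orderOf (emb hp.inList f y) = orderOf y := fun y => orderOf_injective _ hinj y
  obtain ⟨x, hx⟩ := mem_of_pow hp f r hn hB hd (fix_of_tau r hz htau) (m := ℓ)
    (by rw [hcp, htℓ]; group) (hcop _ hℓc)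
  -- commutation in the finite group
  have hcomm : ∀ {y₁ y₂ : ↥(D.group k)} {x₁ x₂ : ↥(D.group F)}, y₁ * y₂ = y₂ * y₁ →
      emb hp.inList f x₁ = z * y₁ * z⁻¹ → emb hp.inList f x₂ = z * y₂ * z⁻¹ → Commute x₁ x₂ := by
    intro y₁ y₂ x₁ x₂ h h1 h2
    apply hinj
    rw [map_mul, map_mul, h1, h2]
    calc z * y₁ * z⁻¹ * (z * y₂ * z⁻¹) = z * (y₁ * y₂) * z⁻¹ := by group
      _ = z * (y₂ * y₁) * z⁻¹ := by rw [h]
      _ = _ := by group
  -- the braid pair of a fixed root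
  have key : ∀ {c : Fin l → ℤ}, IsRoot cs hp.isCartan c → rep cs hp.isCartan w c = c →
      ∃ (u v : ↥(D.group k)) (u' v' : ↥(D.group F)), u ∈ XX D l k c ∧ v ∈ XX D l k (-c) ∧
        emb hp.inList f u' = z * u * z⁻¹ ∧ emb hp.inList f v' = z * v * z⁻¹ ∧ orderOf u' = r ∧ Br u' v' ∧
        t.1 * u = u * t.1 ∧ t.1 * v = v * t.1 := by
    intro c hc hwc
    have hnc : IsRoot cs hp.isCartan (-c) := hc.neg
    have hwnc : rep cs hp.isCartan w (-c) = -c := by rw [map_neg, hwc]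
    have hcc := chi_eq_one (k := k) hp cs r hχK hwc hχℓ hℓn
    have hcnc := chi_eq_one (k := k) hp cs r hχK hwnc hχℓ hℓn
    obtain ⟨u, hu, hu1, hur, huτ⟩ := exists_fixed_x hp cs hk r hn0 hg hc hwc
    obtain ⟨v, hv, hS⟩ := exists_swap hp cs hk r hc hu hu1
    have hvτ : tau D k r n g v = v := hS.fix hu hv (tau_surjective r) (tau_X hp cs hk r hg hc hwc)
      (fun y hy => (tau_X hp cs hk r hg hnc hwnc y).2 hy) huτ
    have hvr : v ^ r = 1 := X_pow hp cs r hnc hv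
    obtain ⟨u', hu'⟩ := mem_of_pow hp f r hn hB hd (fix_of_tau r hz huτ) (m := r)
      (by rw [hcp, hur]; group) (hcop _ hrc)
    obtain ⟨v', hv'⟩ := mem_of_pow hp f r hn hB hd (fix_of_tau r hz hvτ) (m := r)
      (by rw [hcp, hvr]; group) (hcop _ hrc)
    have hbr : Br u v := swap_braid hS hu hv hu1
    refine ⟨u, v, u', v', hu, hv, hu', hv', ?_, ?_, comm_X hp cs hk r htT hc hcc hu,
      comm_X hp cs hk r htT hnc hcnc hv⟩
    · rw [← hor, hu', hco]
      exact orderOf_eq_prime hur hu1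
    · refine Br.of_map (emb hp.inList f) hinj ?_
      rw [hu', hv']
      exact hbr.map (MulAut.conj z).toMonoidHom (MulAut.conj z).injective
  obtain ⟨u₁, v₁, u, v, hu₁, hv₁, eu, ev, ou, hbr, tu, tv⟩ := key ha hwa
  obtain ⟨u₂, v₂, u', v', hu₂, hv₂, eu', ev', ou', hbr', tu', tv'⟩ := key hb hwb
  exact ⟨x, u, v, u', v', by rw [← hor, hx, hco, hto'], ou, ou', hbr, hbr', hcomm tu hx eu, hcomm tv hx ev,
    hcomm tu' hx eu', hcomm tv' hx ev', hcomm (hab.pp _ hu₁ _ hu₂) eu eu', hcomm (hab.pn _ hu₁ _ hv₂) eu ev',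
    hcomm (hab.np _ hv₁ _ hu₂) ev eu', hcomm (hab.nn _ hv₁ _ hv₂) ev ev'⟩

end Main

/-- **Two orthogonal fixed roots.** -/
theorem exists_pairs' {d : ℕ} {B : Fin l → Fin l → ℤ} (hB : InvC D l d B) (hd : d ≠ 0) {F : Type u} [Field F] [Finite F]
    {w : W} {a b : Fin l → ℤ} (ha : IsRoot cs hp.isCartan a) (hb : IsRoot cs hp.isCartan b)
    (hwa : rep cs hp.isCartan w a = a) (hwb : rep cs hp.isCartan w b = b)
    (hab : ∀ (k : Type u) [Field k], CommP D l k a b)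
    {ℓ : ℕ} (hℓ : ℓ.Prime) (hℓq : ¬ ℓ ∣ Nat.card F - 1)
    (hy : ∃ y : Multiplicative (Co (rep cs hp.isCartan w - ((Nat.card F : ℕ) : ℤ) •
      (1 : Module.End ℤ (Fin l → ℤ)))), orderOf y = ℓ) {p : ℕ} [Fact p.Prime] [CharP F p] :
    ∃ x u v u' v' : ↥(D.group F), Pairs ℓ p x u v u' v' := by
  obtain ⟨k, _, _, f, r, _, hc, n, hk, -, hn0, hn⟩ := exists_closure F
  have hrp : r = p := by
    have := charP_of_injective_ringHom f.injective p
    exact CharP.eq k hc this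
  obtain ⟨x, u, v, u', v', h⟩ := exists_pairs_aux hp cs hk r f hn0 hn hB hd ha hb hwa hwb (hab k) hℓ hℓq hy
  exact ⟨x, u, v, u', v', by rwa [← hrp]⟩

variable [Finite W]

include hp cs in
/-- **Two orthogonal fixed roots, from a row.** -/
theorem exists_pairs {d : ℕ} {B : Fin l → Fin l → ℤ} (hB : InvC D l d B) (hd0 : d ≠ 0) {A : Mat l}
    (hA : ∀ i j, A i j = cartanOf D l i j) {L : List (Fin l × Mat l)} {r s : ℕ} (hr : r < D.nroots)
    (hs : s < D.nroots) (hcm : cm4 D r s = true) (hfix : ∀ m, ∑ j, vec D l s j * hd L j m = vec D l s m)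
    {f : ℕ} {c : Fin (f + 1) → ℤ} {V : Fin (f + 1) → Fin l → ℤ} {U : Fin l → ℤ}
    (h : RowOK A L (vec D l r) c V U) {F : Type u} [Field F] [Finite F] {ℓ : ℕ} (hℓ : ℓ.Prime)
    (hℓq : ¬ ℓ ∣ Nat.card F - 1) (hdv : (ℓ : ℤ) ∣ pv c (Nat.card F : ℕ)) {p : ℕ} [Fact p.Prime] [CharP F p] :
    ∃ x u v u' v' : ↥(D.group F), Pairs ℓ p x u v u' v' := by
  obtain ⟨h1, h2, h3⟩ := h
  exact exists_pairs' hp cs hB hd0 (isRoot_vec hp cs hr) (isRoot_vec hp cs hs) (fixes_of_row hp cs hA h1 h2)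
    (fixes_of_row hp cs hA h1 hfix) (fun k _ => commP_of_cm4 hp k hr hs hcm) hℓ hℓq
    (exists_order_row hp cs hA h1 h3 Finite.one_lt_card hℓ.pos hdv)

/-! ### primes dividing `q - 1` -/

section Split

variable {F : Type u} [Field F] [Finite F]

include hp cs in
/-- the braid pair of a root orthogonal to the simple root `j` commutes with `h_j(a)` -/
theorem exists_br_mem {j : Fin l} {r : ℕ} (hr : r < D.nroots) (h0 : D.cartan j r = 0) (a : F) (ha : a ≠ 0)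
    {p : ℕ} [Fact p.Prime] [CharP F p] :
    ∃ u ∈ XX D l F (vec D l r), ∃ v ∈ XX D l F (-vec D l r), orderOf u = p ∧ Br u v ∧
      Commute (hc hp j a) u ∧ Commute (hc hp j a) v := by
  have hk := locFin_of_finite F
  have C := coordsL hp cs hk p
  have hr' : IsRoot cs hp.isCartan (vec D l r) := isRoot_vec hp cs hr
  have hu : xc hp (vec D l r) (1 : F) ∈ XX D l F (vec D l r) := (RankOne.mem_XX hp hr).2 ⟨1, rfl⟩
  have hu1 : xc hp (vec D l r) (1 : F) ≠ 1 := (C.coord _ hr').ne_one one_ne_zero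
  obtain ⟨v, hv, hS⟩ := exists_swap hp cs hk p hr' hu hu1
  have hT := hc_mem hp j ha
  have h1 : hc hp j a * xc hp (vec D l r) 1 = xc hp (vec D l r) 1 * hc hp j a := by
    have h2 := (C.coord _ hr').act _ hT 1
    rw [ch_hc hp j ha hr, h0, zpow_zero, one_mul] at h2
    exact mul_inv_eq_iff_eq_mul.1 h2
  have h2 : hc hp j a * v = v * hc hp j a := by
    obtain ⟨s', rfl⟩ := ((C.coord _ hr'.neg).mem v).1 hv
    have h3 := (C.coord _ hr'.neg).act _ hT s'
    rw [ch_neg hp hr j ha h0, one_mul] at h3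
    exact mul_inv_eq_iff_eq_mul.1 h3
  exact ⟨_, hu, v, hv, orderOf_eq_prime (X_pow hp cs p hr' hu) hu1, swap_braid hS hu hv hu1, h1, h2⟩

include hp cs in
/-- **`ℓ ∣ q - 1`**: two orthogonal roots orthogonal to the simple root `j`. -/
theorem exists_pairs_split {j : Fin l} {r s : ℕ} (hr : r < D.nroots) (hs : s < D.nroots) (hr0 : D.cartan j r = 0)
    (hs0 : D.cartan j s = 0) (hcm : cm4 D r s = true) {ℓ : ℕ} (hℓ : ℓ.Prime) (hℓ2 : ℓ ≠ 2)
    (hℓq : ℓ ∣ Nat.card F - 1) {p : ℕ} [Fact p.Prime] [CharP F p] :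
    ∃ x u v u' v' : ↥(D.group F), Pairs ℓ p x u v u' v' := by
  obtain ⟨a, ha, ho⟩ := exists_hc hp hℓ hℓ2 hℓq (j := j) (F := F)
  obtain ⟨u, hu, v, hv, ou, hb, h1, h2⟩ := exists_br_mem hp cs hr hr0 a ha (p := p)
  obtain ⟨u', hu', v', hv', ou', hb', h1', h2'⟩ := exists_br_mem hp cs hs hs0 a ha (p := p)
  have hab := commP_of_cm4 hp F hr hs hcm
  exact ⟨hc hp j a, u, v, u', v', ho, ou, ou', hb, hb', h1, h2, h1', h2', hab.pp _ hu _ hu', hab.pn _ hu _ hv',
    hab.np _ hv _ hu', hab.nn _ hv _ hv'⟩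

end Split

end Cfsg.Agent.H344.VanRoots
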